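/-
The list of maximal element orders of `Ω(9, q)`, `q` odd, and the arithmetic around it.
-/
import Mathlib

set_option autoImplicit false

namespace CfsgLib.OmegaNine

/-- The least power of `p` that is at least `k`. -/
def ppow (p k : ℕ) : ℕ := p ^ Nat.clog p k

/-- The element orders through which all others of `Ω(9, q)` divide. -/
def lst (p q : ℕ) : List ℕ :=
  [ppow p 9, ppow p 7 * ((q - 1) / 2), ppow p 7 * ((q + 1) / 2), ppow p 5 * ((q ^ 2 - 1) / 2),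
    ppow p 5 * ((q ^ 2 + 1) / 2), p * ((q ^ 3 - 1) / 2), p * ((q ^ 3 + 1) / 2), p * (q ^ 2 - 1),
    p * ((q ^ 2 + 1) * ((q - 1) / 2)), p * ((q ^ 2 + 1) * ((q + 1) / 2)), (q ^ 4 - 1) / 2, (q ^ 4 + 1) / 2,
    (q ^ 3 + 1) * ((q - 1) / 2), (q ^ 3 - 1) * ((q + 1) / 2)]

/-- The divisors of the list. -/
def AdmNine (p q n : ℕ) : Prop := ∃ N ∈ lst p q, n ∣ N

lemma le_ppow {p : ℕ} (hp : 1 < p) (k : ℕ) : k ≤ ppow p k := Nat.le_pow_clog hp k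

/-- The powers needed: halves of even numbers and their divisibility. -/
structure QFacts (q : ℕ) : Prop where
  three : 3 ≤ q
  em : (q - 1) = 2 * ((q - 1) / 2)
  ep : (q + 1) = 2 * ((q + 1) / 2)
  e2m : (q ^ 2 - 1) = 2 * ((q ^ 2 - 1) / 2)
  e2p : (q ^ 2 + 1) = 2 * ((q ^ 2 + 1) / 2)
  e3m : (q ^ 3 - 1) = 2 * ((q ^ 3 - 1) / 2)
  e3p : (q ^ 3 + 1) = 2 * ((q ^ 3 + 1) / 2)
  e4m : (q ^ 4 - 1) = 2 * ((q ^ 4 - 1) / 2)
  e4p : (q ^ 4 + 1) = 2 * ((q ^ 4 + 1) / 2)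
  m2m : q - 1 ∣ (q ^ 2 - 1) / 2
  p2m : q + 1 ∣ (q ^ 2 - 1) / 2
  m4m : q ^ 2 - 1 ∣ (q ^ 4 - 1) / 2
  p4m : q ^ 2 + 1 ∣ (q ^ 4 - 1) / 2
  m3m : q - 1 ∣ q ^ 3 - 1
  p3p : q + 1 ∣ q ^ 3 + 1
  m3mp : q ^ 3 - 1 ∣ (q ^ 3 - 1) * ((q + 1) / 2)
  p3pm : q ^ 3 + 1 ∣ (q ^ 3 + 1) * ((q - 1) / 2)
  a3mp : q + 1 ∣ (q ^ 3 - 1) * ((q + 1) / 2)
  a3pm : q - 1 ∣ (q ^ 3 + 1) * ((q - 1) / 2)
  a2m : q - 1 ∣ (q ^ 2 + 1) * ((q - 1) / 2)
  a2p : q + 1 ∣ (q ^ 2 + 1) * ((q + 1) / 2)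

theorem qFacts {q : ℕ} (hq : Odd q) (h3 : 3 ≤ q) : QFacts q := by
  obtain ⟨c, hc⟩ := hq
  have ev : ∀ n, ∃ d, q ^ n = 2 * d + 1 := fun n => (Odd.pow ⟨c, hc⟩ : Odd (q ^ n))
  obtain ⟨d2, h2⟩ := ev 2
  obtain ⟨d3, h3'⟩ := ev 3
  obtain ⟨d4, h4⟩ := ev 4
  have em : (q - 1) = 2 * ((q - 1) / 2) := by omega
  have ep : (q + 1) = 2 * ((q + 1) / 2) := by omega
  have e3m : (q ^ 3 - 1) = 2 * ((q ^ 3 - 1) / 2) := by omega
  have e3p : (q ^ 3 + 1) = 2 * ((q ^ 3 + 1) / 2) := by omega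
  have e2p : (q ^ 2 + 1) = 2 * ((q ^ 2 + 1) / 2) := by omega
  have e2m : (q ^ 2 - 1) = 2 * ((q ^ 2 - 1) / 2) := by omega
  have f2 : q ^ 2 - 1 = (q - 1) * (q + 1) := by rw [mul_comm, ← Nat.sq_sub_sq, one_pow]
  have f4 : q ^ 4 - 1 = (q ^ 2 - 1) * (q ^ 2 + 1) := by
    rw [mul_comm, ← Nat.sq_sub_sq, one_pow, ← pow_mul]
  have half : ∀ a b n : ℕ, n = a * b → b = 2 * (b / 2) → a ∣ n / 2 := by
    intro a b n hn hb
    refine ⟨b / 2, ?_⟩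
    rw [hn, hb, Nat.mul_left_comm, Nat.mul_div_cancel_left _ (by norm_num : 0 < 2),
      Nat.mul_div_cancel_left _ (by norm_num : 0 < 2)]
  have halfr : ∀ a e x : ℕ, x = 2 * (x / 2) → a = 2 * e → x ∣ a * (x / 2) := by
    intro a e x hx ha
    exact ⟨e, by rw [ha, show x * e = 2 * (x / 2) * e by rw [← hx]]; ring⟩
  exact {
    three := h3, em := em, ep := ep, e2m := e2m, e2p := e2p, e3m := e3m, e3p := e3p
    e4m := by omega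
    e4p := by omega
    m2m := half _ _ _ f2 ep
    p2m := half _ _ _ (f2.trans (mul_comm _ _)) em
    m4m := half _ _ _ f4 e2p
    p4m := half _ _ _ (f4.trans (mul_comm _ _)) e2m
    m3m := Nat.sub_one_dvd_pow_sub_one q 3
    p3p := by simpa using Odd.nat_add_dvd_pow_add_pow q 1 (by decide : Odd 3)
    m3mp := dvd_mul_right _ _
    p3pm := dvd_mul_right _ _
    a3mp := halfr _ _ _ ep e3m
    a3pm := halfr _ _ _ em e3p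
    a2m := halfr _ _ _ em e2p
    a2p := halfr _ _ _ ep e2p }

end CfsgLib.OmegaNine
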