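/-
Linear algebra around self-adjoint polynomial relations of isometries in odd characteristic.
-/
import Cfsg.Agent.Lib.Classical.SpinorTorus
import Cfsg.Agent.Lib.Classical.SpOrthPrimeCounts
import Cfsg.Agent.Lib.Classical.AltBasis
import Cfsg.Agent.Lib.Classical.SymBilin
import Cfsg.Agent.Lib.KnownSimple.SemisimpleClasses.Modules

set_option autoImplicit false
set_option linter.style.haveILetI false

namespace CfsgLib.OmegaNine

open Polynomial QuadraticMap CfsgLib.Classical CfsgLib.Classical.SpOCount

universe u v

variable {F : Type u} [Field F]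

section Charpoly

variable {V : Type v} [AddCommGroup V] [Module F V] [FiniteDimensional F V]

/-- The characteristic polynomial along an invariant subspace. -/
lemma charpoly_eq_mul_quot (e : Module.End F V) (W : Submodule F V) (he : W ≤ W.comap e) :
    e.charpoly = (e.restrict he).charpoly * (W.mapQ W e he).charpoly := by
  classical
  let bW := Module.Free.chooseBasis F W
  let bQ := Module.Free.chooseBasis F (V ⧸ W)
  let b := Module.Basis.sumQuot bW bQ
  suffices LinearMap.toMatrix b b e = Matrix.fromBlocks (LinearMap.toMatrix bW bW (e.restrict he))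
      (Matrix.of fun i l => b.repr (e (b (Sum.inr l))) (Sum.inl i)) 0
      (LinearMap.toMatrix bQ bQ (W.mapQ W e he)) by
    rw [← LinearMap.charpoly_toMatrix e b, this, Matrix.charpoly_fromBlocks_zero₂₁, LinearMap.charpoly_toMatrix,
      LinearMap.charpoly_toMatrix]
  ext u v
  cases u with
  | inl i =>
    cases v with
    | inl k =>
      simp only [b, Module.Basis.sumQuot_inl, Matrix.fromBlocks_apply₁₁, LinearMap.toMatrix_apply]
      apply Module.Basis.sumQuot_repr_inl_of_mem
    | inr l => simp [b, LinearMap.toMatrix_apply, Matrix.fromBlocks_apply₁₂]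
  | inr j =>
    cases v with
    | inl k =>
      suffices W.mkQ (e (bW k)) = 0 by simp [LinearMap.toMatrix_apply, b, this]
      rw [← LinearMap.mem_ker, Submodule.ker_mkQ]
      exact he (Submodule.coe_mem (bW k))
    | inr l =>
      simp only [LinearMap.toMatrix_apply, Module.Basis.sumQuot_repr_inr, Matrix.fromBlocks_apply₂₂, b]
      rw [← Module.Basis.sumQuot_inr bW bQ l, W.mapQ_apply]
      simp

/-- Polynomials in a restriction. -/
lemma aeval_restrict_apply (T : Module.End F V) {U : Submodule F V} (hU : ∀ x ∈ U, T x ∈ U) (p : F[X]) (x : U) :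
    ((aeval (T.restrict hU) p x : U) : V) = aeval T p (x : V) := by
  induction p using Polynomial.induction_on' generalizing x with
  | add p r hp hr => simp [hp, hr]
  | monomial n c =>
    induction n generalizing x with
    | zero => simp
    | succ n ih =>
      rw [← Polynomial.monomial_mul_X, map_mul, map_mul, Module.End.mul_apply, Module.End.mul_apply, ih, aeval_X,
        aeval_X]
      rfl

/-- The characteristic polynomial of a unipotent endomorphism. -/
lemma charpoly_of_unipotent (T : Module.End F V) {k : ℕ} (h : (T - 1) ^ k = 0) :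
    T.charpoly = (X - 1) ^ Module.finrank F V := by
  have h1 := (LinearMap.charpoly_eq_X_pow_iff (T - 1)).2 (fun x => ⟨k, by rw [h]; rfl⟩)
  rw [show T - 1 = T - (1 : F) • 1 by rw [one_smul], LinearMap.charpoly_sub_smul] at h1
  have h2 := congrArg (fun p : F[X] => p.comp (X - C 1)) h1
  simpa [comp_assoc] using h2

/-- An irreducible factor of the characteristic polynomial is a factor of an annihilating polynomial. -/
lemma dvd_of_dvd_charpoly (T : Module.End F V) {f : F[X]} (hf : Irreducible f) (h : f ∣ T.charpoly) {G : F[X]}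
    (hG : aeval T G = 0) : f ∣ G :=
  (CfsgLib.SSClasses.dvd_minpoly_of_dvd_charpoly T hf h).trans (minpoly.dvd F T hG)

end Charpoly

section Skew

variable {n : Type} [Fintype n] [DecidableEq n]

/-- The determinant of a skew matrix is a square. -/
lemma isSquare_det_of_skew (h2 : (2 : F) ≠ 0) (K : Matrix n n F) (hK : K.transpose = -K) : IsSquare K.det := by
  classical
  by_cases hdet : K.det = 0
  · rw [hdet]; exact IsSquare.zero
  set B : LinearMap.BilinForm F (n → F) := Matrix.toBilin' K with hBdef
  have hB : ∀ x y, B x y = x ⬝ᵥ K.mulVec y := fun x y => Matrix.toBilin'_apply' K x y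
  have hA : B.IsAlt := fun x => by
    have h : B x x = -B x x := by
      rw [hB]
      conv_lhs => rw [Matrix.dotProduct_mulVec, ← Matrix.mulVec_transpose, hK, Matrix.neg_mulVec, neg_dotProduct,
        dotProduct_comm]
    exact (mul_eq_zero.1 (show (2 : F) * B x x = 0 by linear_combination h)).resolve_left h2
  have hnd : ∀ v, (∀ w, B v w = 0) → v = 0 := fun v hv => by
    by_contra hv0
    have h0 : Matrix.vecMul v K = 0 := funext fun i => by
      have := hv (Pi.single i 1)
      rw [hB, Matrix.dotProduct_mulVec, dotProduct_single, mul_one] at this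
      exact this
    exact hdet (Matrix.exists_vecMul_eq_zero_iff.1 ⟨v, hv0, h0⟩)
  obtain ⟨m, -, e, he⟩ := exists_symp_equiv B hA hnd
  have h := (isSquare_det_gram B (Pi.basisFun F n) ((Pi.basisFun F (Fin m ⊕ Fin m)).map e) 1).2 (by
    rw [one_mul, show (Matrix.of fun i j => B (((Pi.basisFun F (Fin m ⊕ Fin m)).map e) i)
        (((Pi.basisFun F (Fin m ⊕ Fin m)).map e) j)) = Matrix.J (Fin m) F from Matrix.ext fun i j => by
      simp [he, Cfsg.sympForm, Matrix.mulVec_single_one]]
    have hJ : Matrix.J (Fin m) F = Matrix.fromBlocks 0 1 1 0 * Matrix.fromBlocks 1 0 0 (-1) := by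
      simp [Matrix.J, Matrix.fromBlocks_multiply]
    rw [hJ, Matrix.det_mul, det_hyperbolic, Matrix.det_fromBlocks_zero₂₁, Matrix.det_one, one_mul, Matrix.det_neg,
      Matrix.det_one, mul_one, ← pow_add, ← two_mul, pow_mul, neg_one_sq, one_pow]
    exact IsSquare.one)
  rwa [one_mul, show (Matrix.of fun i j => B (Pi.basisFun F n i) (Pi.basisFun F n j)) = K from
    Matrix.ext fun i j => by simp [hB, Matrix.mulVec_single_one]] at h

/-- An isometry without eigenvalue minus one has determinant one. -/
lemma det_eq_one_of_isometry {M G : Matrix n n F} (hM : M.transpose * G * M = G) (hG : G.det ≠ 0)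
    (h1 : (M + 1).det ≠ 0) : M.det = 1 := by
  have e : M.transpose * G * (M + 1) = (M + 1).transpose * G := by
    rw [mul_add, mul_one, hM, Matrix.transpose_add, Matrix.transpose_one, add_mul, one_mul, add_comm]
  have e2 := congrArg Matrix.det e
  simp only [Matrix.det_mul, Matrix.det_transpose] at e2
  exact mul_right_cancel₀ (mul_ne_zero hG h1) (by linear_combination e2)

/-- The discriminant against the values at plus and minus one. -/
lemma isSquare_gram_mul (h2 : (2 : F) ≠ 0) {M G : Matrix n n F} (hM : M.transpose * G * M = G)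
    (hGs : G.transpose = G) (hG : G.det ≠ 0) (h1 : (M + 1).det ≠ 0) :
    IsSquare (G.det * (M.charpoly.eval 1 * M.charpoly.eval (-1))) := by
  have hdet := det_eq_one_of_isometry hM hG h1
  have hu : IsUnit M.det := by rw [hdet]; exact isUnit_one
  obtain ⟨W, hW⟩ : ∃ W, W = G * (M - M⁻¹) := ⟨_, rfl⟩
  have hinv : M.transpose * G = G * M⁻¹ := by
    conv_rhs => rw [← hM, mul_assoc, Matrix.mul_nonsing_inv _ hu, mul_one]
  have hinv' : M⁻¹.transpose * G = G * M := by
    conv_lhs => rw [← hM]
    rw [← mul_assoc, ← mul_assoc, ← Matrix.transpose_mul, Matrix.mul_nonsing_inv _ hu, Matrix.transpose_one, one_mul]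
  have hWs : W.transpose = -W := by
    rw [hW, Matrix.transpose_mul, hGs, Matrix.transpose_sub, sub_mul, hinv, hinv', ← mul_sub, ← mul_neg, neg_sub]
  have h := isSquare_det_of_skew h2 W hWs
  have e : M.charpoly.eval 1 * M.charpoly.eval (-1) = ((M - M⁻¹) * M).det := by
    rw [Matrix.eval_charpoly, Matrix.eval_charpoly, ← Matrix.det_mul, sub_mul M M⁻¹ M, Matrix.nonsing_inv_mul _ hu]
    congr 1
    simp only [map_one, map_neg, sub_mul, mul_sub, one_mul, mul_one, neg_mul, mul_neg]
    abel
  rw [e, Matrix.det_mul, hdet, mul_one, ← Matrix.det_mul, ← hW]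
  exact h

end Skew

section Isometry

variable {V : Type u} [AddCommGroup V] [Module F V] {Q : QuadraticForm F V}

lemma commute_act (g h : qAut Q) (hgh : g * h = h * g) : Commute (actHom Q g) (actHom Q h) := by
  show actHom Q g * actHom Q h = actHom Q h * actHom Q g
  rw [← map_mul, hgh, map_mul]

lemma commute_aeval {a z : Module.End F V} (h : Commute z a) (P : F[X]) : Commute z (aeval a P) := by
  induction P using Polynomial.induction_on' with
  | add p r hp hr => rw [map_add]; exact hp.add_right hr
  | monomial n c =>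
    rw [aeval_monomial]
    exact (Algebra.commute_algebraMap_right c z).mul_right (h.pow_right n)

lemma polar_act (g : qAut Q) (x y : V) : polar Q (actHom Q g x) (actHom Q g y) = polar Q x y :=
  qAut_polar g x y

lemma act_inv_act (g : qAut Q) (x : V) : actHom Q g⁻¹ (actHom Q g x) = x := by
  rw [← Module.End.mul_apply, ← map_mul, inv_mul_cancel, map_one, Module.End.one_apply]

lemma act_act_inv (g : qAut Q) (x : V) : actHom Q g (actHom Q g⁻¹ x) = x := by
  rw [← Module.End.mul_apply, ← map_mul, mul_inv_cancel, map_one, Module.End.one_apply]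

lemma polar_act_left (g : qAut Q) (x y : V) : polar Q (actHom Q g x) y = polar Q x (actHom Q g⁻¹ y) := by
  conv_lhs => rw [← act_act_inv g y, polar_act]

/-- Adjoints of polynomials in an isometry. -/
lemma polar_aeval (g : qAut Q) (H : F[X]) (x y : V) :
    polar Q (aeval (actHom Q g) H x) y = polar Q x (aeval (actHom Q g⁻¹) H y) := by
  induction H using Polynomial.induction_on' generalizing x y with
  | add p r hp hr => simp only [map_add, LinearMap.add_apply, polar_add_left, polar_add_right, hp, hr]
  | monomial n c =>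
    induction n generalizing x y with
    | zero => simp [polar_smul_left, polar_smul_right]
    | succ n ih =>
      rw [← Polynomial.monomial_mul_X, map_mul, Module.End.mul_apply, ih, aeval_X, polar_act_left, mul_comm, map_mul,
        Module.End.mul_apply, aeval_X]

variable [FiniteDimensional F V]

/-- A self-adjoint relation with a simple eigenvalue minus one holds. -/
theorem aeval_eq_zero_of_mul (hQ : PolarNondeg Q) (h2 : (2 : F) ≠ 0) (g : qAut Q) {H : F[X]} {k : ℕ} {c : F}
    (hrev : aeval (actHom Q g⁻¹) H * actHom Q g ^ k = c • aeval (actHom Q g) H) (hsign : c * (-1) ^ k = -1)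
    (hdvd : (actHom Q g).charpoly ∣ (X + 1) * H) : aeval (actHom Q g) H = 0 := by
  obtain ⟨T, hT⟩ : ∃ T, T = actHom Q g := ⟨_, rfl⟩
  obtain ⟨Z, hZ⟩ : ∃ Z, Z = aeval (actHom Q g) H := ⟨_, rfl⟩
  rw [← hZ] at hrev ⊢
  rw [← hT] at hrev hZ hdvd
  set E := LinearMap.ker (T + 1) with hE
  have hker : ∀ x, x ∈ E ↔ T x = -x := fun x => by
    rw [hE, LinearMap.mem_ker, LinearMap.add_apply, Module.End.one_apply, add_eq_zero_iff_eq_neg]
  have hZE : ∀ x, Z x ∈ E := fun x => by
    obtain ⟨r, hr⟩ := hdvd
    have h := congrArg (aeval T) hr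
    rw [map_mul, map_mul, map_add, aeval_X, map_one, LinearMap.aeval_self_charpoly, zero_mul, ← hZ] at h
    exact LinearMap.mem_ker.2 (by rw [← Module.End.mul_apply, h]; rfl)
  by_cases hE2 : 2 ≤ Module.finrank F E
  · -- two Jordan blocks lose a power
    have hinv : E ≤ E.comap T := fun x hx => by
      rw [Submodule.mem_comap, hker]
      rw [hker] at hx
      rw [hx, map_neg, hx]
    have h1 : (T.restrict hinv).charpoly = (X + 1) ^ Module.finrank F E := by
      rw [show T.restrict hinv = -(1 : Module.End F E) from LinearMap.ext fun x => Subtype.ext (by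
        rw [LinearMap.restrict_coe_apply, (hker x).1 x.2]
        simp)]
      have h := LinearMap.charpoly_sub_smul (0 : Module.End F E) 1
      simpa [LinearMap.charpoly_zero, neg_smul, one_smul] using h
    obtain ⟨r, hr⟩ := hdvd
    set χ := (E.mapQ E T hinv).charpoly with hχ
    have hne : (X + 1 : F[X]) ≠ 0 := by simpa using X_add_C_ne_zero (1 : F)
    obtain ⟨j, hj⟩ : ∃ j, Module.finrank F E = j + 2 := ⟨_, (Nat.sub_add_cancel hE2).symm⟩
    have hH : H = χ * (X + 1) * ((X + 1) ^ j * r) := by
      refine mul_left_cancel₀ hne ?_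
      rw [hr, charpoly_eq_mul_quot T E hinv, h1, hj, ← hχ]
      ring
    have hkill : aeval T (χ * (X + 1)) = 0 := by
      have hm : ∀ (p : F[X]) (x : V), E.mkQ (aeval T p x) = aeval (E.mapQ E T hinv) p (E.mkQ x) := by
        intro p
        induction p using Polynomial.induction_on' with
        | add p r hp hr => intro x; simp only [map_add, LinearMap.add_apply, hp, hr]
        | monomial n c =>
          intro x
          induction n generalizing x with
          | zero => simp
          | succ n ih =>
            rw [← Polynomial.monomial_mul_X, map_mul, map_mul, Module.End.mul_apply, Module.End.mul_apply, ih,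
              aeval_X, aeval_X]
            rfl
      rw [mul_comm]
      refine LinearMap.ext fun x => ?_
      have hx : aeval T χ x ∈ E := by
        rw [← Submodule.ker_mkQ E, LinearMap.mem_ker, hm, hχ, LinearMap.aeval_self_charpoly, LinearMap.zero_apply]
      rw [map_mul, map_add, aeval_X, map_one, Module.End.mul_apply, LinearMap.mem_ker.1 hx]
      rfl
    rw [hZ, hH, map_mul, hkill, zero_mul]
  -- a skew form of rank at most one
  have hskew : ∀ x y, polar Q (Z x) y = -polar Q x (Z y) := fun x y => by
    obtain ⟨y', rfl⟩ : ∃ y', actHom Q (g ^ k) y' = y := ⟨actHom Q (g ^ k)⁻¹ y, act_act_inv _ _⟩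
    have hyE : T ((Z y')) = -Z y' := (hker _).1 (hZE y')
    have hpowE : ∀ i, (T ^ i) (Z y') = (-1 : F) ^ i • Z y' := by
      intro i
      induction i with
      | zero => simp
      | succ i ih => rw [pow_succ', Module.End.mul_apply, ih, map_smul, hyE, pow_succ, smul_neg]; simp
    have e1 : Z (actHom Q (g ^ k) y') = (T ^ k) (Z y') := by
      rw [map_pow, ← hT, hZ, ← Module.End.mul_apply, ← Module.End.mul_apply,
        ((commute_aeval (Commute.refl T) H).pow_left k).eq]
    conv_lhs => rw [hZ, hT, polar_aeval, ← Module.End.mul_apply, map_pow, ← hT, hrev]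
    rw [e1, hpowE, LinearMap.smul_apply, polar_smul_right, polar_smul_right, smul_eq_mul, smul_eq_mul]
    have hk : ((-1 : F) ^ k) * (-1) ^ k = 1 := by rw [← mul_pow, neg_mul_neg, one_mul, one_pow]
    linear_combination (polar Q x (Z y') * (-1) ^ k) * hsign - c * polar Q x (Z y') * hk
  have halt : ∀ x, polar Q (Z x) x = 0 := fun x => by
    have h := hskew x x
    rw [polar_comm Q x (Z x)] at h
    exact (mul_eq_zero.1 (show (2 : F) * polar Q (Z x) x = 0 by linear_combination h)).resolve_left h2
  refine LinearMap.ext fun x₀ => ?_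
  by_contra hx₀
  rw [LinearMap.zero_apply] at hx₀
  have hspan : ∀ w ∈ E, ∃ t : F, t • Z x₀ = w := by
    intro w hw
    have h1 : Module.finrank F E = 1 := by
      have : Module.finrank F E ≠ 0 := fun h => hx₀ (by
        have := hZE x₀
        rwa [Submodule.finrank_eq_zero.1 h, Submodule.mem_bot] at this)
      omega
    obtain ⟨t, ht⟩ := (finrank_eq_one_iff_of_nonzero' (⟨Z x₀, hZE x₀⟩ : E) (fun h => hx₀ (congrArg Subtype.val h))).1 h1 ⟨w, hw⟩
    exact ⟨t, congrArg Subtype.val ht⟩
  obtain ⟨y, hy⟩ : ∃ y, polar Q (Z x₀) y ≠ 0 := by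
    by_contra hc
    push Not at hc
    exact hx₀ (hQ _ hc)
  have key : ∀ z, Z z = 0 ∨ polar Q (Z x₀) z = 0 := fun z => by
    obtain ⟨t, ht⟩ := hspan _ (hZE z)
    rcases eq_or_ne t 0 with rfl | ht0
    · exact Or.inl (by rw [← ht, zero_smul])
    · refine Or.inr ?_
      have h := halt z
      rw [← ht, polar_smul_left, smul_eq_mul] at h
      exact (mul_eq_zero.1 h).resolve_left ht0
  have hy0 := (key y).resolve_right hy
  have hx0 := (key x₀).resolve_left hx₀
  rcases key (x₀ + y) with h | h
  · rw [map_add, hy0, add_zero] at h; exact hx₀ h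
  · rw [polar_add_right, hx0, zero_add] at h; exact hy h

end Isometry

end CfsgLib.OmegaNine
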