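/-
The spinor norm of an isometry of two dual isotropic subspaces.
-/
import Cfsg.Agent.Lib.Spectrum.OmegaNineTwins.Linear
import Cfsg.Agent.Lib.Classical.SpinorPlus
import Cfsg.Agent.Lib.Classical.SpectrumBC
import Cfsg.Agent.Lib.KnownSimple.Spectra.OddConstruct

set_option autoImplicit false
set_option linter.style.haveILetI false
set_option maxHeartbeats 1000000

namespace CfsgLib.OmegaNine

open Polynomial QuadraticMap CfsgLib.Classical CfsgLib.Classical.Spin CfsgLib.Classical.SpOCount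

universe u

variable {F : Type u} [Field F] [Fintype F] {V : Type u} [AddCommGroup V] [Module F V] [FiniteDimensional F V]
  (Q : QuadraticForm F V) (θ : qAut Q →* ℤˣ) (hθ : ∀ (x : V) (hx : Q x ≠ 0), θ (qRefl Q hx) = sqSign (Q x))
include hθ

/-- An isometry of two dual isotropic subspaces, trivial on their complement. -/
theorem theta_of_levi (h2 : (2 : F) ≠ 0) (hQ : PolarNondeg Q) (s : qAut Q) {d : ℕ} (W W' U : Submodule F V)
    (hd : Module.finrank F W = d) (hd' : Module.finrank F W' = d) (hWW : ∀ x ∈ W, ∀ y ∈ W, polar Q x y = 0)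
    (hW'W' : ∀ x ∈ W', ∀ y ∈ W', polar Q x y = 0) (hWU : ∀ x ∈ W ⊔ W', ∀ u ∈ U, polar Q x u = 0)
    (hc : IsCompl (W ⊔ W') U) (hdisj : Disjoint W W') (hs : ∀ x ∈ W, actHom Q s x ∈ W)
    (hs' : ∀ x ∈ W', actHom Q s x ∈ W') (hsU : ∀ u ∈ U, actHom Q s u = u) :
    θ s = sqSign (LinearMap.det ((actHom Q s).restrict hs)) := by
  classical
  have hq0 : ∀ x, polar Q x x = 0 → Q x = 0 := fun x hx => by
    rw [quad_polar_self] at hx
    exact (mul_eq_zero.1 hx).resolve_left h2
  let bW : Module.Basis (Fin d) F W := Module.finBasisOfFinrankEq F W hd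
  let π₀ : W' →ₗ[F] (Fin d → F) := LinearMap.pi fun i => (QuadraticMap.polarBilin Q (bW i : V)).comp W'.subtype
  have hπ₀ : ∀ y i, π₀ y i = polar Q (bW i : V) (y : V) := fun y i => rfl
  have hWdot : ∀ (w : W) (y : W'), polar Q (w : V) (y : V) = ∑ i, bW.equivFun w i * π₀ y i := fun w y => by
    conv_lhs => rw [← bW.sum_equivFun w]
    rw [← QuadraticMap.polarBilin_apply_apply, Submodule.coe_sum, map_sum, LinearMap.sum_apply]
    refine Finset.sum_congr rfl fun i _ => ?_
    rw [hπ₀]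
    simp
  have hπinj : Function.Injective π₀ := (injective_iff_map_eq_zero _).2 fun y hy => Subtype.ext (hQ _ fun z => by
    obtain ⟨r, hr, u, hu, rfl⟩ := Submodule.mem_sup.1 (show z ∈ (W ⊔ W') ⊔ U by rw [hc.sup_eq_top]; trivial)
    obtain ⟨w, hw, w', hw', rfl⟩ := Submodule.mem_sup.1 hr
    rw [polar_add_right, polar_add_right, hW'W' _ y.2 _ hw', hWU _ (Submodule.mem_sup_right y.2) _ hu,
      polar_comm Q (y : V) w, hWdot ⟨w, hw⟩ y, hy]
    simp)
  have hπs : Function.Surjective π₀ :=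
    (LinearMap.injective_iff_surjective_of_finrank_eq_finrank (by rw [hd', Module.finrank_fin_fun])).1 hπinj
  let π : W' ≃ₗ[F] (Fin d → F) := LinearEquiv.ofBijective π₀ ⟨hπinj, hπs⟩
  have hπ : ∀ y, π y = π₀ y := fun y => rfl
  let φ : (Fin d ⊕ Fin d → F) →ₗ[F] V :=
    W.subtype ∘ₗ bW.equivFun.symm.toLinearMap ∘ₗ LinearMap.funLeft F F Sum.inl +
      W'.subtype ∘ₗ π.symm.toLinearMap ∘ₗ LinearMap.funLeft F F Sum.inr
  have hφ : ∀ a, φ a = (bW.equivFun.symm (a ∘ Sum.inl) : V) + (π.symm (a ∘ Sum.inr) : V) := fun a => rfl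
  have hφmem : ∀ a, φ a ∈ W ⊔ W' := fun a => Submodule.add_mem_sup (Submodule.coe_mem _) (Submodule.coe_mem _)
  have hφQ : ∀ a, Q (φ a) = qPlus d F a := fun a => by
    rw [hφ, quad_add, hq0 _ (hWW _ (Submodule.coe_mem _) _ (Submodule.coe_mem _)),
      hq0 _ (hW'W' _ (Submodule.coe_mem _) _ (Submodule.coe_mem _)), hWdot, qPlus_eq_dot, zero_add, zero_add]
    refine Finset.sum_congr rfl fun i _ => ?_
    rw [LinearEquiv.apply_symm_apply, ← hπ, LinearEquiv.apply_symm_apply]
  let E₀ : ((Fin d ⊕ Fin d → F) × U) →ₗ[F] V := φ.coprod U.subtype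
  have hE₀ : ∀ a (u : U), E₀ (a, u) = φ a + (u : V) := fun a u => rfl
  have hEb : Function.Bijective E₀ := by
    constructor
    · refine (injective_iff_map_eq_zero _).2 fun x h => ?_
      obtain ⟨a, u⟩ := x
      rw [hE₀] at h
      have hu : (u : V) = 0 := Submodule.disjoint_def.1 hc.disjoint _ (by
        rw [eq_neg_of_add_eq_zero_right h]; exact Submodule.neg_mem _ (hφmem a)) u.2
      rw [hu, add_zero, hφ] at h
      have h1 : (bW.equivFun.symm (a ∘ Sum.inl) : V) = 0 := Submodule.disjoint_def.1 hdisj _ (Submodule.coe_mem _) (by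
        rw [eq_neg_of_add_eq_zero_left h]; exact Submodule.neg_mem _ (Submodule.coe_mem _))
      rw [h1, zero_add] at h
      have ha1 := bW.equivFun.symm.map_eq_zero_iff.1 (Subtype.ext h1)
      have ha2 := π.symm.map_eq_zero_iff.1 (Subtype.ext h)
      refine Prod.ext (funext fun i => ?_) (Subtype.ext hu)
      rcases i with i | i
      · exact congrFun ha1 i
      · exact congrFun ha2 i
    · intro z
      obtain ⟨r, hr, u, hu, rfl⟩ := Submodule.mem_sup.1 (show z ∈ (W ⊔ W') ⊔ U by rw [hc.sup_eq_top]; trivial)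
      obtain ⟨w, hw, w', hw', rfl⟩ := Submodule.mem_sup.1 hr
      refine ⟨(Sum.elim (bW.equivFun ⟨w, hw⟩) (π ⟨w', hw'⟩), ⟨u, hu⟩), ?_⟩
      rw [hE₀, hφ, Sum.elim_comp_inl, Sum.elim_comp_inr, LinearEquiv.symm_apply_apply, LinearEquiv.symm_apply_apply]
  let E := LinearEquiv.ofBijective E₀ hEb
  have hEQ : ∀ x, Q (E x) = ((qPlus d F).prod (Q.comp U.subtype)) x := fun ⟨a, u⟩ => by
    show Q (φ a + (u : V)) = _
    rw [quad_add, hWU _ (hφmem a) _ u.2, add_zero, hφQ]
    rfl
  let ι : qAut (qPlus d F) →* qAut Q := (qAutCongr E hEQ).toMonoidHom.comp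
    ((CfsgLib.Spectra.qAutProd (qPlus d F) (Q.comp U.subtype)).comp (MonoidHom.inl _ _))
  have hι : ∀ g a (u : U), (ι g).1 (φ a + (u : V)) = φ (g.1 a) + (u : V) := fun g a u => by
    show E ((g.1 (E.symm (E (a, u))).1, (E.symm (E (a, u))).2)) = _
    rw [E.symm_apply_apply]
    rfl
  have hsurj : ∀ z, ∃ a, ∃ u : U, φ a + (u : V) = z := fun z => by
    obtain ⟨⟨a, u⟩, h⟩ := hEb.2 z
    exact ⟨a, u, h⟩
  have hrefl : ∀ v (hv : qPlus d F v ≠ 0), (θ.comp ι) (qRefl _ hv) = sqSign (qPlus d F v) := fun v hv => by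
    have hv' : Q (φ v) ≠ 0 := by rwa [hφQ]
    have e : ι (qRefl _ hv) = qRefl Q hv' := qAut_ext fun z => by
      obtain ⟨a, u, rfl⟩ := hsurj z
      rw [hι, qRefl_apply, qRefl_apply, hφQ, polar_add_left, polar_comm Q (u : V), hWU _ (hφmem v) _ u.2,
        add_zero, map_sub, map_smul,
        show polar Q (φ a) (φ v) = polar (qPlus d F) a v by simp only [polar, ← map_add, hφQ]]
      abel
    rw [MonoidHom.comp_apply, e, hθ, hφQ]
  have hA0 : (LinearMap.toMatrix bW bW ((actHom Q s).restrict hs)).det ≠ 0 := by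
    rw [LinearMap.det_toMatrix]
    intro h
    obtain ⟨x, hx, hx0⟩ := Submodule.exists_mem_ne_zero_of_ne_bot (ne_of_gt (LinearMap.bot_lt_ker_of_det_eq_zero h))
    refine hx0 (Subtype.ext (s.1.injective ?_))
    have := congrArg Subtype.val (LinearMap.mem_ker.1 hx)
    exact this.trans (map_zero s.1).symm
  let A : GL (Fin d) F := Matrix.GeneralLinearGroup.mkOfDetNeZero _ hA0
  obtain ⟨g', hg'⟩ := exists_levi A
  have key : s = ι (isoEquiv _ g') := qAut_ext fun z => by
    obtain ⟨a, u, rfl⟩ := hsurj z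
    rw [hι, map_add, show s.1 (u : V) = (u : V) from hsU _ u.2]
    refine congrArg (· + (u : V)) ?_
    rw [hφ, hφ, map_add, isoEquiv_apply, isoApply, hg', Matrix.fromBlocks_mulVec, Sum.elim_comp_inl,
      Sum.elim_comp_inr]
    simp only [Matrix.zero_mulVec, add_zero, zero_add]
    congr 1
    · obtain ⟨w, hw⟩ : ∃ w, w = bW.equivFun.symm (a ∘ Sum.inl) := ⟨_, rfl⟩
      rw [show a ∘ Sum.inl = bW.equivFun w by rw [hw, LinearEquiv.apply_symm_apply], LinearEquiv.symm_apply_apply]
      have h := LinearMap.toMatrix_mulVec_repr bW bW ((actHom Q s).restrict hs) w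
      show _ = ((bW.equivFun.symm ((LinearMap.toMatrix bW bW ((actHom Q s).restrict hs)).mulVec (bW.equivFun w))) : V)
      rw [show (LinearMap.toMatrix bW bW ((actHom Q s).restrict hs)).mulVec (bW.equivFun w) =
        bW.equivFun ((actHom Q s).restrict hs w) from h, LinearEquiv.symm_apply_apply]
      rfl
    · obtain ⟨y, hy⟩ : ∃ y, y = π.symm (a ∘ Sum.inr) := ⟨_, rfl⟩
      rw [show a ∘ Sum.inr = π y by rw [hy, LinearEquiv.apply_symm_apply], LinearEquiv.symm_apply_apply]
      obtain ⟨y', hy'⟩ : ∃ y' : W', y' = ⟨actHom Q s y, hs' _ y.2⟩ := ⟨_, rfl⟩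
      have hAt : (A.1).transpose.mulVec (π y') = π y := funext fun j => by
        have hsum : ∑ i, A.1 i j • (bW i : V) = actHom Q s (bW j : V) := by
          have h1 := bW.sum_repr ((actHom Q s).restrict hs (bW j))
          have h3 := congrArg Subtype.val h1
          rw [LinearMap.restrict_coe_apply, Submodule.coe_sum] at h3
          simp only [Submodule.coe_smul] at h3
          rw [← h3]
          refine Finset.sum_congr rfl fun i _ => ?_
          congr 1
          exact LinearMap.toMatrix_apply bW bW _ i j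
        rw [hπ, hπ, hπ₀, ← polar_act s, ← hsum]
        show _ = QuadraticMap.polarBilin Q _ _
        simp [Matrix.mulVec, dotProduct, hπ₀, hy', map_sum]
      have h1 : π y' = ((A.1)⁻¹).transpose.mulVec (π y) := by
        rw [← hAt, Matrix.mulVec_mulVec, ← Matrix.transpose_mul,
          Matrix.mul_nonsing_inv _ ((Matrix.isUnit_iff_isUnit_det _).1 A.isUnit), Matrix.transpose_one,
          Matrix.one_mulVec]
      rw [← h1, LinearEquiv.symm_apply_apply, hy']
      rfl
  have hcard : Fintype.card F ≠ 2 := fun h => by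
    have := odd_card_of_two_ne_zero h2
    rw [h] at this
    exact absurd this (by decide)
  conv_lhs => rw [key]
  rw [← MonoidHom.comp_apply, levi_theta (Or.inl hcard) (θ.comp ι) hrefl A g' hg', ← LinearMap.det_toMatrix bW,
    show (A : Matrix (Fin d) (Fin d) F) = LinearMap.toMatrix bW bW ((actHom Q s).restrict hs) from rfl]

end CfsgLib.OmegaNine
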