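/-
Exponents of self-reciprocal polynomials of degree nine over a finite field of odd characteristic, and the
exceptional orbits.
-/
import Cfsg.Agent.Lib.Spectrum.OmegaNineTwins.Arith
import Cfsg.Agent.Lib.Spectrum.SpEightTwins.Poly

set_option autoImplicit false
set_option maxHeartbeats 4000000

namespace CfsgLib.OmegaNine

open Polynomial CfsgLib.SpFourTwins.Eight

universe u

variable {F : Type u} [Field F] [Fintype F]

/-- A single simple orbit besides the root one, not in the half of its torus. -/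
def Exc (P : F[X]) : Prop :=
  ∃ (d : ℕ) (h : F[X]), 1 ≤ d ∧ d ≤ 4 ∧ h.Monic ∧ Irreducible h ∧ P.rootMultiplicity 1 + 2 * d = 9 ∧
    h ∣ X ^ (Fintype.card F ^ (2 * d)) - X ∧ h.eval 1 ≠ 0 ∧
    ((h.natDegree = d ∧ IsCoprime h h.reverse ∧ ¬ IsSquare ((-1) ^ d * h.coeff 0) ∧
        P ∣ (X - 1) ^ 9 * (h * h.reverse)) ∨
      (h.natDegree = 2 * d ∧ P ∣ (X - 1) ^ 9 * h ∧
        ((h ∣ X ^ ((Fintype.card F ^ d + 1) / 2) + 1 ∧ Odd ((Fintype.card F ^ d + 1) / 2) ∧
            ¬ IsSquare (h.eval 1 * h.eval (-1))) ∨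
          (Odd d ∧ ∃ (o : ℕ) (a : F), h ∣ X ^ (2 * o) - C a * X ^ o + 1 ∧ ¬ IsSquare (2 + a) ∧
            ¬ IsSquare (a * a - 4)))))

section Closure

variable {K : Type*} [Field K] [Algebra F K]

/-- The fixed points of `x ↦ x ^ q` are the scalars. -/
lemma mem_range_of_pow_card {x : K} (hx : x ^ Fintype.card F = x) : x ∈ Set.range (algebraMap F K) := by
  classical
  have h1q : 1 < Fintype.card F := Fintype.one_lt_card
  have hsp : (X ^ Fintype.card F - X : F[X]).Splits := by
    refine splits_iff_card_roots.2 ?_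
    rw [FiniteField.roots_X_pow_card_sub_X, FiniteField.X_pow_card_sub_X_natDegree_eq F h1q]
    rfl
  have hr := hsp.roots_map (algebraMap F K)
  rw [Polynomial.map_sub, Polynomial.map_pow, map_X, FiniteField.roots_X_pow_card_sub_X] at hr
  have hmem : x ∈ (X ^ Fintype.card F - X : K[X]).roots := by
    rw [mem_roots (FiniteField.X_pow_card_sub_X_ne_zero K h1q)]
    simp [hx]
  rw [hr] at hmem
  obtain ⟨y, -, rfl⟩ := Multiset.mem_map.1 hmem
  exact ⟨y, rfl⟩

/-- The minimal polynomial over the finite field of an element with a finite orbit under `x ↦ x ^ q`. -/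
lemma minpoly_map_eq_prod [DecidableEq K] {σ : K →+* K} (hσv : ∀ x, σ x = x ^ Fintype.card F) {ρ : K} {S : Finset K}
    (hρ : ρ ∈ S) (hS : ∀ x ∈ S, x ^ Fintype.card F ∈ S)
    (hgen : ∀ x ∈ S, ∃ i : ℕ, ρ ^ Fintype.card F ^ i = x) :
    (minpoly F ρ).map (algebraMap F K) = ∏ x ∈ S, (X - C x) ∧ Irreducible (minpoly F ρ) ∧ (minpoly F ρ).Monic := by
  classical
  set φ := algebraMap F K
  have hSim : S.image σ = S := by
    refine Finset.eq_of_subset_of_card_le (fun y hy => ?_) ?_
    · obtain ⟨x, hx, rfl⟩ := Finset.mem_image.1 hy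
      rw [hσv]; exact hS x hx
    · rw [Finset.card_image_of_injective _ σ.injective]
  have hlifts : (∏ x ∈ S, (X - C x)) ∈ Polynomial.lifts φ := by
    rw [lifts_iff_coeff_lifts]
    intro n
    refine mem_range_of_pow_card ?_
    rw [← hσv, ← coeff_map, Polynomial.map_prod]
    conv_rhs => rw [← hSim, Finset.prod_image σ.injective.injOn]
    simp [Polynomial.map_sub]
  obtain ⟨g, hg, hgd, hgm⟩ := lifts_and_natDegree_eq_and_monic hlifts (monic_prod_X_sub_C _ _)
  have hgρ : aeval ρ g = 0 := by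
    rw [aeval_def, eval₂_eq_eval_map, hg, eval_prod]
    exact Finset.prod_eq_zero hρ (by simp)
  have hint : IsIntegral F ρ := ⟨g, hgm, hgρ⟩
  have hdvd : minpoly F ρ ∣ g := minpoly.dvd F ρ hgρ
  have hz : ∀ i : ℕ, aeval (ρ ^ Fintype.card F ^ i) (minpoly F ρ) = 0 := by
    intro i
    induction i with
    | zero => rw [pow_zero, pow_one, minpoly.aeval]
    | succ i ih =>
      have hp : aeval ((ρ ^ Fintype.card F ^ i) ^ Fintype.card F) (minpoly F ρ) =
          σ (aeval (ρ ^ Fintype.card F ^ i) (minpoly F ρ)) := by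
        rw [← hσv, aeval_def, aeval_def, hom_eval₂]
        congr 1
        ext a
        rw [RingHom.comp_apply, hσv, ← map_pow, FiniteField.pow_card]
      rw [pow_succ, pow_mul, hp, ih, map_zero]
  have hroot : ∀ x ∈ S, x ∈ ((minpoly F ρ).map φ).roots := by
    intro x hx
    obtain ⟨i, rfl⟩ := hgen x hx
    rw [mem_roots (Polynomial.map_ne_zero (minpoly.ne_zero hint)), IsRoot.def, ← eval₂_eq_eval_map, ← aeval_def]
    exact hz i
  have hcard : S.card ≤ (minpoly F ρ).natDegree := by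
    refine le_trans ?_ ((card_roots' ((minpoly F ρ).map φ)).trans natDegree_map_le)
    refine le_trans (Finset.card_le_card fun x hx => Multiset.mem_toFinset.2 (hroot x hx)) (Multiset.toFinset_card_le _)
  have heq : minpoly F ρ = g := by
    refine (eq_of_monic_of_dvd_of_natDegree_le (minpoly.monic hint) hgm hdvd ?_).symm
    rw [hgd, natDegree_finset_prod_X_sub_C_eq_card]
    exact hcard
  exact ⟨by rw [heq, hg], minpoly.irreducible hint, minpoly.monic hint⟩

/-- Euler's criterion, inside an extension. -/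
lemma not_isSquare_of_pow (h2 : (2 : F) ≠ 0) {c : F} (hc0 : c ≠ 0)
    (h : algebraMap F K c ^ (Fintype.card F / 2) ≠ 1) : ¬ IsSquare c := by
  intro hsq
  refine h ?_
  rw [← map_pow, (FiniteField.isSquare_iff (fun hc => h2 (by
    haveI := ringChar.charP F
    rw [hc] at this
    exact CharP.cast_eq_zero F 2)) hc0).1 hsq, map_one]

end Closure

/-- Reversing a product of linear factors. -/
lemma reverse_prod_X_sub_C {K : Type*} [Field K] [DecidableEq K] (S : Finset K) (hS : ∀ x ∈ S, x ≠ 0) :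
    (∏ x ∈ S, (X - C x)).reverse = ∏ x ∈ S, C (-x) * (X - C x⁻¹) := by
  induction S using Finset.induction_on with
  | empty => rw [Finset.prod_empty, Finset.prod_empty, ← C_1, reverse_C]
  | insert x S hxS ih =>
    rw [Finset.prod_insert hxS, Finset.prod_insert hxS, reverse_mul_of_domain,
      reverse_X_sub_C (hS x (Finset.mem_insert_self _ _)), ih (fun y hy => hS y (Finset.mem_insert_of_mem hy))]

/-- A single orbit besides one, not in the half of its torus, is exceptional. -/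
theorem exc_of_single (h2F : (2 : F) ≠ 0) (hqodd : Odd (Fintype.card F)) (hq3 : 3 ≤ Fintype.card F) {P : F[X]}
    (hm : P.Monic) {K : Type*} [Field K] [Algebra F K] [DecidableEq K] {σ : K →+* K}
    (hσv : ∀ x, σ x = x ^ Fintype.card F) {R : Multiset K} (hR : R = (P.map (algebraMap F K)).roots)
    (hprod : P.map (algebraMap F K) = (R.map fun ρ => X - C ρ).prod) (hR0 : (0 : K) ∉ R) {a : ℕ}
    (ha : a = R.count 1) {ρ : K} {d : ℕ} (hρ : ρ ∈ R) (hρ1 : ρ ≠ 1) (hρm : ρ ≠ -1) (hd1 : 1 ≤ d) (hd4 : d ≤ 4)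
    (hdρ : ρ ^ Fintype.card F ^ d = ρ ∨ ρ ^ Fintype.card F ^ d = ρ⁻¹)
    (hcA : ((Finset.range d).image fun i => ρ ^ Fintype.card F ^ i).card = d)
    (hAB : Disjoint ((Finset.range d).image fun i => ρ ^ Fintype.card F ^ i)
      ((Finset.range d).image fun i => ρ⁻¹ ^ Fintype.card F ^ i))
    (hcnt : ∀ z ∈ ((Finset.range d).image fun i => ρ ^ Fintype.card F ^ i) ∪
      (Finset.range d).image fun i => ρ⁻¹ ^ Fintype.card F ^ i, R.count z = 1)
    (hall : ∀ z ∈ R, z = 1 ∨ z ∈ ((Finset.range d).image fun i => ρ ^ Fintype.card F ^ i) ∪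
      (Finset.range d).image fun i => ρ⁻¹ ^ Fintype.card F ^ i)
    (had : a + 2 * d = 9) (hhm : ρ ^ ((Fintype.card F ^ d - 1) / 2) ≠ 1)
    (hhp : ρ ^ ((Fintype.card F ^ d + 1) / 2) ≠ 1) : Exc P := by
  classical
  set q := Fintype.card F with hqdef
  set φ : F →+* K := algebraMap F K with hφ
  have Q := qFacts hqodd hq3
  have h2K : (2 : K) ≠ 0 := fun h => h2F (φ.injective (by rwa [map_ofNat, map_zero]))
  have hneg : (-1 : K) ≠ 1 := fun h => h2K (by linear_combination -h)
  have hρ0 : ρ ≠ 0 := fun h => hR0 (h ▸ hρ)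
  obtain ⟨dd, hdd⟩ : ∃ c, q ^ d = 2 * c + 1 := (hqodd.pow : Odd (q ^ d))
  have hmult : P.rootMultiplicity 1 + 2 * d = 9 := by
    rw [← had, ha, hR, count_roots, eq_rootMultiplicity_map (f := φ) φ.injective (1 : F), map_one]
  have hpow2 : ρ ^ q ^ (2 * d) = ρ := by
    rw [two_mul, pow_add, pow_mul]
    rcases hdρ with h | h <;> rw [h]
    · exact h
    · rw [inv_pow, h, inv_inv]
  -- the polynomial divides once its roots do
  have hPdvd : ∀ S : Finset K, (∀ z ∈ R, z = 1 ∨ z ∈ S) → (∀ z ∈ S, R.count z = 1) → (1 : K) ∉ S →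
      P.map φ ∣ ((X : K[X]) - 1) ^ 9 * ∏ x ∈ S, (X - C x) := by
    intro S hS hS1 h1S
    rw [hprod, Finset.prod_multiset_map_count]
    refine Finset.prod_dvd_of_coprime ((pairwise_coprime_X_sub_C Function.injective_id).set_pairwise _ |>.imp
      fun _ _ h => h.pow) ?_
    intro z hz
    rw [Multiset.mem_toFinset] at hz
    rcases hS z hz with rfl | h
    · rw [C_1]
      exact (pow_dvd_pow _ (by rw [← ha]; omega)).trans (dvd_mul_right _ _)
    · rw [hS1 z h, pow_one]
      exact (Finset.dvd_prod_of_mem (fun x : K => X - C x) h).trans (dvd_mul_left _ _)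
  have hne1 : (1 : K) ∉ ((Finset.range d).image fun i => ρ ^ q ^ i) ∪ (Finset.range d).image fun i => ρ⁻¹ ^ q ^ i := fun h => by
    simp only [Finset.mem_union, Finset.mem_image, Finset.mem_range] at h
    rcases h with ⟨i, hi, h⟩ | ⟨i, hi, h⟩
    · have h1 : ρ ^ q ^ d = 1 := by rw [← Nat.add_sub_cancel' hi.le, pow_add, pow_mul, h, one_pow]
      rcases hdρ with h' | h' <;> rw [h1] at h'
      · exact hρ1 h'.symm
      · exact hρ1 (inv_eq_one.1 h'.symm)
    · rw [inv_pow, inv_eq_one] at h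
      have h1 : ρ ^ q ^ d = 1 := by rw [← Nat.add_sub_cancel' hi.le, pow_add, pow_mul, h, one_pow]
      rcases hdρ with h' | h' <;> rw [h1] at h'
      · exact hρ1 h'.symm
      · exact hρ1 (inv_eq_one.1 h'.symm)
  set A := (Finset.range d).image (fun i => ρ ^ q ^ i) with hA
  set B := (Finset.range d).image fun i => ρ⁻¹ ^ q ^ i with hB
  have hev1 : ∀ {h : F[X]} {S : Finset K}, h.map φ = ∏ x ∈ S, (X - C x) → ∀ c : F,
      φ (h.eval c) = ∏ x ∈ S, (φ c - x) := fun {h S} hh c => by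
    rw [← eval₂_hom, eval₂_eq_eval_map, hh, eval_prod]
    simp
  have hfield : ∀ {h : F[X]} {S : Finset K}, h.map φ = ∏ x ∈ S, (X - C x) → (∀ x ∈ S, x ^ q ^ (2 * d) = x) →
      h.Monic → h ∣ X ^ (q ^ (2 * d)) - X := fun {h S} hh hS hmh => by
    refine (map_dvd_map φ φ.injective hmh).1 ?_
    rw [hh]
    refine Finset.prod_dvd_of_coprime ((pairwise_coprime_X_sub_C Function.injective_id).set_pairwise _) fun x hx => ?_
    rw [dvd_iff_isRoot]
    simp [hS x hx]
  have horbpow : ∀ x ∈ A ∪ B, x ^ q ^ (2 * d) = x := by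
    intro x hx
    simp only [hA, hB, Finset.mem_union, Finset.mem_image] at hx
    rcases hx with ⟨i, -, rfl⟩ | ⟨i, -, rfl⟩
    · rw [← pow_mul, mul_comm, pow_mul, hpow2]
    · rw [← pow_mul, mul_comm, pow_mul, inv_pow ρ (q ^ (2 * d)), hpow2]
  have hsum : ∀ n, ((q : ℕ) - 1) * ∑ i ∈ Finset.range n, q ^ i = q ^ n - 1 := fun n => by
    rw [mul_comm]
    exact geom_sum_mul_of_one_le (by omega) n
  by_cases hplus : ρ ^ q ^ d = ρ
  · -- a dual pair
    have hAmem : ∀ i, ρ ^ q ^ i ∈ A := by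
      intro i
      have hper : ∀ m, ρ ^ q ^ (d * m) = ρ := fun m => by
        induction m with
        | zero => simp
        | succ m ih => rw [Nat.mul_succ, pow_add, pow_mul, ih, hplus]
      rw [← Nat.div_add_mod i d, pow_add, pow_mul, hper]
      exact Finset.mem_image.2 ⟨i % d, Finset.mem_range.2 (Nat.mod_lt _ hd1), rfl⟩
    obtain ⟨hh, hirr, hmh⟩ := minpoly_map_eq_prod (F := F) hσv (S := A) (ρ := ρ)
      (by simpa using hAmem 0) (fun x hx => by
        obtain ⟨i, -, rfl⟩ := Finset.mem_image.1 hx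
        rw [← pow_mul, ← pow_succ]; exact hAmem _)
      (fun x hx => by obtain ⟨i, -, rfl⟩ := Finset.mem_image.1 hx; exact ⟨i, rfl⟩)
    set h := minpoly F ρ
    have hdeg : h.natDegree = d := by
      rw [← natDegree_map φ, hh, natDegree_finset_prod_X_sub_C_eq_card, hcA]
    have hA0 : ∀ x ∈ A, x ≠ 0 := fun x hx => by
      obtain ⟨i, -, rfl⟩ := Finset.mem_image.1 hx
      exact pow_ne_zero _ hρ0
    have hrev : ∃ c : K, c ≠ 0 ∧ h.reverse.map φ = C c * ∏ x ∈ B, (X - C x) := by
      refine ⟨∏ x ∈ A, -x, Finset.prod_ne_zero_iff.2 fun x hx => neg_ne_zero.2 (hA0 x hx), ?_⟩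
      rw [show h.reverse.map φ = (h.map φ).reverse by rw [reverse, reverse, natDegree_map, reflect_map], hh,
        show B = A.image fun x => x⁻¹ from ?_, Finset.prod_image inv_injective.injOn, map_prod,
        ← Finset.prod_mul_distrib]
      · exact reverse_prod_X_sub_C A hA0
      · rw [hB, hA, Finset.image_image]
        exact Finset.image_congr fun i _ => by simp [inv_pow]
    obtain ⟨c, hc0, hrev⟩ := hrev
    refine ⟨d, h, hd1, hd4, hmh, hirr, hmult,
      hfield hh (fun x hx => horbpow x (Finset.mem_union_left _ hx)) hmh, fun h1 => ?_, Or.inl ⟨hdeg, ?_, ?_, ?_⟩⟩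
    · have := hev1 hh 1
      rw [h1, map_zero, map_one, eq_comm, Finset.prod_eq_zero_iff] at this
      obtain ⟨x, hx, hx1⟩ := this
      exact hne1 (Finset.mem_union_left _ ((sub_eq_zero.1 hx1).symm ▸ hx))
    · refine (isCoprime_map φ).1 ?_
      rw [hrev, hh]
      refine (isCoprime_mul_unit_left_right (isUnit_C.2 (isUnit_iff_ne_zero.2 hc0)) _ _).2 ?_
      refine IsCoprime.prod_left fun x hx => IsCoprime.prod_right fun y hy => ?_
      exact pairwise_coprime_X_sub_C Function.injective_id (show x ≠ y from fun hxy =>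
        Finset.disjoint_left.1 hAB hx (hxy ▸ hy))
    · refine not_isSquare_of_pow (K := K) h2F (mul_ne_zero (pow_ne_zero _ (neg_ne_zero.2 one_ne_zero)) ?_) ?_
      · intro h0'
        have := hev1 hh 0
        rw [← coeff_zero_eq_eval_zero, h0', map_zero, eq_comm, Finset.prod_eq_zero_iff] at this
        obtain ⟨x, hx, hx1⟩ := this
        exact hA0 x hx (by simpa using hx1)
      · have h0' : φ ((-1) ^ d * h.coeff 0) = ρ ^ ∑ i ∈ Finset.range d, q ^ i := by
          rw [map_mul, map_pow, map_neg, map_one, coeff_zero_eq_eval_zero, hev1 hh 0, map_zero,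
            show (-1 : K) ^ d = ∏ x ∈ A, (-1 : K) by rw [Finset.prod_const, hcA], ← Finset.prod_mul_distrib,
            ← Finset.prod_pow_eq_pow_sum]
          simp only [neg_one_mul, zero_sub, neg_neg]
          rw [hA]
          exact Finset.prod_image (Finset.card_image_iff.1 (hcA.trans (Finset.card_range d).symm))
        rw [← hqdef, h0', ← pow_mul]
        convert hhm using 2
        obtain ⟨q', hq'⟩ := hqodd
        have := hsum d
        rw [show q - 1 = 2 * (q / 2) by omega, mul_assoc] at this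
        rw [← this, Nat.mul_div_cancel_left _ (by norm_num : 0 < 2), mul_comm]
    · refine (map_dvd_map φ φ.injective hm).1 ?_
      simp only [Polynomial.map_mul, Polynomial.map_pow, Polynomial.map_sub, map_X, Polynomial.map_one]
      refine (hPdvd (A ∪ B) hall hcnt hne1).trans (mul_dvd_mul_left _ ?_)
      rw [Finset.prod_union hAB, hh, hrev]
      exact mul_dvd_mul_left _ (dvd_mul_left _ _)
  · -- a self-dual orbit
    have hminus : ρ ^ q ^ d = ρ⁻¹ := hdρ.resolve_left hplus
    have hO : ∀ i, ρ ^ q ^ i ∈ A ∪ B := by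
      intro i
      have hper : ∀ m, ρ ^ q ^ (2 * d * m) = ρ := fun m => by
        induction m with
        | zero => simp
        | succ m ih => rw [Nat.mul_succ, pow_add, pow_mul, ih, hpow2]
      rw [← Nat.div_add_mod i (2 * d), pow_add, pow_mul, hper]
      have hlt := Nat.mod_lt i (show 2 * d > 0 by omega)
      rcases Nat.lt_or_ge (i % (2 * d)) d with h | h
      · exact Finset.mem_union_left _ (Finset.mem_image.2 ⟨_, Finset.mem_range.2 h, rfl⟩)
      · refine Finset.mem_union_right _ (Finset.mem_image.2 ⟨i % (2 * d) - d, Finset.mem_range.2 (by omega), ?_⟩)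
        conv_rhs => rw [← Nat.add_sub_cancel' h, pow_add, pow_mul, hminus]
    obtain ⟨hh, hirr, hmh⟩ := minpoly_map_eq_prod (F := F) hσv (S := A ∪ B) (ρ := ρ)
      (by simpa using hO 0) (fun x hx => by
        simp only [hA, hB, Finset.mem_union, Finset.mem_image] at hx
        rcases hx with ⟨i, -, rfl⟩ | ⟨i, -, rfl⟩
        · rw [← pow_mul, ← pow_succ]; exact hO _
        · rw [← hminus, ← pow_mul, ← pow_mul, ← pow_succ, ← pow_add]; exact hO _)
      (fun x hx => by
        simp only [hA, hB, Finset.mem_union, Finset.mem_image] at hx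
        rcases hx with ⟨i, -, rfl⟩ | ⟨i, -, rfl⟩
        · exact ⟨i, rfl⟩
        · exact ⟨d + i, by rw [pow_add, pow_mul, hminus]⟩)
    set h := minpoly F ρ
    have hcB : B.card = d := by
      rw [show B = A.image fun x => x⁻¹ from ?_, Finset.card_image_of_injective _ inv_injective, hcA]
      rw [hB, hA, Finset.image_image]
      exact Finset.image_congr fun i _ => by simp [inv_pow]
    have hcO : (A ∪ B).card = 2 * d := by rw [Finset.card_union_of_disjoint hAB, hcA, hcB, two_mul]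
    have hdeg : h.natDegree = 2 * d := by
      rw [← natDegree_map φ, hh, natDegree_finset_prod_X_sub_C_eq_card, hcO]
    have hρQ : ρ ^ (q ^ d + 1) = 1 := by rw [pow_succ, hminus, inv_mul_cancel₀ hρ0]
    obtain ⟨H, hH⟩ : ∃ H, H = (q ^ d + 1) / 2 := ⟨_, rfl⟩
    have h2H : q ^ d + 1 = 2 * H := by omega
    rw [← hH] at hhp
    have hρH : ρ ^ H = -1 := by
      have h2 : ρ ^ H * ρ ^ H = 1 := by rw [← pow_add, ← two_mul, ← h2H, hρQ]
      exact (mul_self_eq_one_iff.1 h2).resolve_left hhp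
    have hdvd_of : ∀ {G : F[X]}, aeval ρ G = 0 → h ∣ G := fun {G} hG => minpoly.dvd F ρ hG
    refine ⟨d, h, hd1, hd4, hmh, hirr, hmult, hfield hh horbpow hmh, fun h1 => ?_, Or.inr ⟨hdeg, ?_, ?_⟩⟩
    · have := hev1 hh 1
      rw [h1, map_zero, map_one, eq_comm, Finset.prod_eq_zero_iff] at this
      obtain ⟨x, hx, hx1⟩ := this
      exact hne1 ((sub_eq_zero.1 hx1).symm ▸ hx)
    · refine (map_dvd_map φ φ.injective hm).1 ?_
      simp only [Polynomial.map_mul, Polynomial.map_pow, Polynomial.map_sub, map_X, Polynomial.map_one]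
      rw [hh]
      exact hPdvd _ hall hcnt hne1
    rw [← hqdef, ← hH]
    rcases Nat.even_or_odd H with hHev | hHodd
    · -- d is odd and q + 1 carries the two-part
      refine Or.inr ⟨?_, ?_⟩
      · by_contra hdo
        obtain ⟨m, hm'⟩ := Nat.not_odd_iff_even.1 hdo
        obtain ⟨c, hc⟩ := (hqodd.pow : Odd (q ^ m))
        obtain ⟨k, hk⟩ := hHev
        have h8 : q ^ d + 1 = 4 * (c * c + c) + 2 := by rw [hm', pow_add, hc]; ring
        omega
      · obtain ⟨o, ho⟩ : q + 1 ∣ q ^ d + 1 := by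
          have hdo : Odd d := by
            by_contra hdo
            obtain ⟨m, hm'⟩ := Nat.not_odd_iff_even.1 hdo
            obtain ⟨c, hc⟩ := (hqodd.pow : Odd (q ^ m))
            obtain ⟨k, hk⟩ := hHev
            have h8 : q ^ d + 1 = 4 * (c * c + c) + 2 := by rw [hm', pow_add, hc]; ring
            omega
          simpa using hdo.nat_add_dvd_pow_add_pow q 1
        obtain ⟨r, hr'⟩ : ∃ r, r = ρ ^ o := ⟨_, rfl⟩
        have hr1 : r ^ (q + 1) = 1 := by rw [hr', ← pow_mul, mul_comm, ← ho, hρQ]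
        have hHo : H = (q + 1) / 2 * o := by
          have := Q.ep
          nlinarith
        have hrH : r ^ ((q + 1) / 2) = -1 := by rw [hr', ← pow_mul, mul_comm, ← hHo, hρH]
        have hr0 : r ≠ 0 := hr' ▸ pow_ne_zero _ hρ0
        have hrq : r ^ q = r⁻¹ := eq_inv_of_mul_eq_one_left (by rw [← pow_succ, hr1])
        obtain ⟨a₀, ha₀⟩ : r + r⁻¹ ∈ Set.range φ :=
          mem_range_of_pow_card (by rw [← hσv, map_add, map_inv₀, hσv, hrq, inv_inv, add_comm])
        have hr2 : r * r ≠ 1 := fun h => by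
          have hev : Even ((q + 1) / 2) := by
            by_contra hne
            obtain ⟨k, hk⟩ := hHev
            obtain ⟨i, hi⟩ := Nat.not_even_iff_odd.1 hne
            have hoo : Odd o := by
              obtain ⟨m, hm'⟩ | ho' := Nat.even_or_odd o
              · exfalso
                have hdo : Odd d := by
                  by_contra hdo
                  obtain ⟨m, hm'⟩ := Nat.not_odd_iff_even.1 hdo
                  obtain ⟨c, hc⟩ := (hqodd.pow : Odd (q ^ m))
                  have h8 : q ^ d + 1 = 4 * (c * c + c) + 2 := by rw [hm', pow_add, hc]; ring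
                  omega
                obtain ⟨j, hj⟩ := hdo
                obtain ⟨c, hc⟩ := (hqodd.pow : Odd (q ^ j))
                have h8 : q ^ d + 1 = q * (4 * (c * c + c)) + (q + 1) := by rw [hj, pow_add, pow_mul', hc]; ring
                rw [ho, hm'] at h8
                have h9 : (q + 1) * (m + m) = 4 * ((2 * i + 1) * m) := by rw [Q.ep, hi]; ring
                have h10 : q + 1 = 4 * i + 2 := by have := Q.ep; omega
                rw [h9, mul_left_comm q 4, h10] at h8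
                omega
              · exact ho'
            obtain ⟨j, hj⟩ := hoo
            rw [hi, hj] at hHo
            have : (2 * i + 1) * (2 * j + 1) = 2 * (2 * i * j + i + j) + 1 := by ring
            omega
          obtain ⟨i, hi⟩ := hev
          have : r ^ ((q + 1) / 2) = 1 := by rw [hi, pow_add, ← mul_pow, h, one_pow]
          exact hneg (hrH ▸ this)
        refine ⟨o, a₀, hdvd_of ?_, ?_, ?_⟩
        · simp only [map_add, map_sub, map_mul, map_pow, aeval_X, aeval_C, map_one]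
          rw [ha₀, two_mul, pow_add, ← hr']
          field_simp
          ring
        · rintro ⟨b, hb⟩
          have hb' : φ b * φ b = 2 + (r + r⁻¹) := by rw [← map_mul, ← hb, map_add, map_ofNat, ha₀]
          have hb0 : φ b ≠ 0 := fun h0 => by
            rw [h0, zero_mul] at hb'
            have : (r + 1) * (r + 1) = 0 := by field_simp at hb'; linear_combination -hb'
            have hr1' : r = -1 := eq_neg_of_add_eq_zero_left (mul_self_eq_zero.1 this)
            exact hr2 (by rw [hr1']; ring)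
          obtain ⟨w, hw⟩ : ∃ w, w = (1 + r) / φ b := ⟨_, rfl⟩
          have hw2 : w * w = r := by
            rw [hw, div_mul_div_comm, hb', div_eq_iff (hb' ▸ mul_ne_zero hb0 hb0)]
            field_simp
            ring
          have hwq : w ^ q = w / r := by
            rw [hw, div_pow, ← map_pow, FiniteField.pow_card, ← hσv, map_add, map_one, hσv, hrq]
            field_simp
            ring
          have hw1 : w ^ (q + 1) = 1 := by
            rw [pow_succ, hwq, div_mul_eq_mul_div, hw2, div_self hr0]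
          have : r ^ ((q + 1) / 2) = 1 := by rw [← hw2, ← sq, ← pow_mul, ← Q.ep, hw1]
          exact hneg (hrH ▸ this)
        · rintro ⟨b, hb⟩
          have hb' : φ b * φ b = (r - r⁻¹) * (r - r⁻¹) := by
            rw [← map_mul, ← hb, map_sub, map_mul, ha₀, map_ofNat]
            field_simp
            ring
          have hfix : (r - r⁻¹) ^ q = r - r⁻¹ := by
            rcases mul_self_eq_mul_self_iff.1 hb'.symm with h | h <;> rw [h]
            · rw [← map_pow, FiniteField.pow_card]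
            · rw [← map_neg, ← map_pow, FiniteField.pow_card]
          rw [← hσv, map_sub, map_inv₀, hσv, hrq, inv_inv] at hfix
          have h4 : (2 : K) * (r - r⁻¹) = 0 := by linear_combination -hfix
          have : r = r⁻¹ := sub_eq_zero.1 ((mul_eq_zero.1 h4).resolve_left h2K)
          exact hr2 (by nth_rewrite 2 [this]; exact mul_inv_cancel₀ hr0)
    · refine Or.inl ⟨hdvd_of (by simp [hρH]), hHodd, ?_⟩
      have hprod2 : φ (h.eval 1 * h.eval (-1)) = (ρ ^ 2 - 1) ^ ∑ i ∈ Finset.range (2 * d), q ^ i := by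
        rw [map_mul, hev1 hh, hev1 hh, map_neg, map_one, ← Finset.prod_mul_distrib, ← Finset.prod_pow_eq_pow_sum]
        have himg : A ∪ B = (Finset.range (2 * d)).image fun i => ρ ^ q ^ i := by
          symm
          have hsub : (Finset.range (2 * d)).image (fun i => ρ ^ q ^ i) ⊆ A ∪ B := fun x hx => by
            obtain ⟨i, -, rfl⟩ := Finset.mem_image.1 hx
            exact hO i
          refine Finset.Subset.antisymm hsub fun x hx => ?_
          simp only [hA, hB, Finset.mem_union, Finset.mem_image, Finset.mem_range] at hx ⊢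
          rcases hx with ⟨k, hk, rfl⟩ | ⟨k, hk, rfl⟩
          · exact ⟨k, by omega, rfl⟩
          · exact ⟨d + k, by omega, by rw [pow_add, pow_mul, hminus]⟩
        rw [himg, Finset.prod_image (Finset.card_image_iff.1 (by rw [← himg, hcO, Finset.card_range]))]
        refine Finset.prod_congr rfl fun i _ => ?_
        have hpw : ∀ j : ℕ, (ρ ^ 2 - 1) ^ q ^ j = (ρ ^ q ^ j) ^ 2 - 1 := by
          intro j
          induction j with
          | zero => simp
          | succ j ih =>
            rw [pow_succ q, pow_mul, ih, ← hσv, map_sub, map_pow, map_one, hσv, ← pow_mul ρ]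
        rw [hpw i]
        ring
      have hx0 : ρ - ρ⁻¹ ≠ 0 := fun h => by
        have h' : ρ * ρ = 1 := by
          nth_rewrite 2 [sub_eq_zero.1 h]
          exact mul_inv_cancel₀ hρ0
        exact (mul_self_eq_one_iff.1 h').elim hρ1 hρm
      have hxQ : (ρ - ρ⁻¹) ^ (q ^ d - 1) = -1 := by
        have hpw : ∀ (x y : K) (i : ℕ), (x - y) ^ q ^ i = x ^ q ^ i - y ^ q ^ i := by
          intro x y i
          induction i with
          | zero => simp
          | succ i ih => rw [pow_succ, pow_mul, pow_mul, pow_mul, ih, ← hσv, map_sub, hσv, hσv]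
        rw [pow_sub₀ _ hx0 (by omega), pow_one, hpw, inv_pow, hminus, inv_inv,
          show ρ⁻¹ - ρ = -(ρ - ρ⁻¹) by ring, neg_mul, mul_inv_cancel₀ hx0]
      obtain ⟨E, hE⟩ : ∃ E, E = (∑ i ∈ Finset.range (2 * d), q ^ i) * (q / 2) := ⟨_, rfl⟩
      have hE' : E = (q ^ d - 1) * H := by
        have h1 := hsum (2 * d)
        have h2 : q - 1 = 2 * (q / 2) := by obtain ⟨c, hc⟩ := hqodd; omega
        have h3 : q ^ (2 * d) - 1 = (q ^ d - 1) * (q ^ d + 1) := by
          rw [mul_comm 2 d, pow_mul, mul_comm, ← Nat.sq_sub_sq, one_pow]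
        rw [h2, h3, h2H] at h1
        rw [hE]
        linarith
      have hval : (ρ ^ 2 - 1) ^ E = -1 := by
        rw [show ρ ^ 2 - 1 = ρ * (ρ - ρ⁻¹) by field_simp, mul_pow, hE', mul_comm (q ^ d - 1) H, pow_mul ρ H,
          hρH, show (-1 : K) ^ (q ^ d - 1) = 1 from Even.neg_one_pow ⟨dd, by omega⟩, one_mul,
          mul_comm H, pow_mul, hxQ, hHodd.neg_one_pow]
      refine not_isSquare_of_pow (K := K) h2F (fun h0' => ?_) ?_
      · rw [h0', map_zero] at hprod2
        have h0'' : (ρ ^ 2 - 1 : K) ^ E = 0 := by rw [hE, pow_mul, ← hprod2, zero_pow (by omega)]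
        rw [hval] at h0''
        simp at h0''
      · rw [hprod2, ← pow_mul, ← hqdef, ← hE, hval]
        exact hneg

/-- A self-reciprocal polynomial of degree nine with constant coefficient `-1` divides `(X + 1)(X ^ N - 1)` for a
listed `N`, unless it has a single full orbit besides one. -/
theorem exists_exp {p : ℕ} [Fact p.Prime] [CharP F p] (hp2 : p ≠ 2) {P : F[X]} (hm : P.Monic)
    (hd : P.natDegree = 9) (h0 : P.coeff 0 = -1) (hr : P ∣ P.reverse) :
    (∃ N ∈ lst p (Fintype.card F), P ∣ (X + 1) * (X ^ N - 1)) ∨ Exc P := by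
  classical
  have hpp : p.Prime := Fact.out
  have hp3 : 3 ≤ p := by have := hpp.two_le; omega
  obtain ⟨e₀, -, hq⟩ := FiniteField.card F p
  set q := Fintype.card F with hqdef
  have hqodd : Odd q := hq ▸ (hpp.odd_of_ne_two hp2).pow
  have hq3 : 3 ≤ q := hq ▸ hp3.trans (Nat.le_self_pow e₀.pos.ne' p)
  have Q := qFacts hqodd hq3
  have h2F : (2 : F) ≠ 0 := fun h => hp2 ((Nat.prime_dvd_prime_iff_eq hpp Nat.prime_two).1
    ((CharP.cast_eq_zero_iff F p 2).1 (by exact_mod_cast h)))
  let K := AlgebraicClosure F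
  haveI : CharP K p := charP_of_injective_algebraMap (algebraMap F K).injective p
  have h2K : (2 : K) ≠ 0 := fun h => h2F ((algebraMap F K).injective (by rwa [map_ofNat, map_zero]))
  set φ : F →+* K := algebraMap F K with hφ
  set σ : K →+* K := iterateFrobenius K p e₀ with hσ
  have hσv : ∀ x, σ x = x ^ q := fun x => by rw [hσ, iterateFrobenius_def, hq]
  have hinj : ∀ {x y : K}, x ^ q = y ^ q → x = y := fun {x y} h => σ.injective (by rw [hσv, hσv, h])
  have hneg : (-1 : K) ≠ 1 := fun h => h2K (by linear_combination -h)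
  set R := (P.map φ).roots with hR
  have hmon : (P.map φ).Monic := hm.map φ
  have hsp : (P.map φ).Splits := IsAlgClosed.splits _
  have hprod : P.map φ = (R.map fun ρ => X - C ρ).prod := hsp.eq_prod_roots_of_monic hmon
  have hcard : R.card = 9 := by
    rw [← hd, ← natDegree_map φ, hprod, natDegree_multiset_prod_X_sub_C_eq_card]
  have h00 : P.coeff 0 ≠ 0 := by rw [h0]; simp
  have hR0 : (0 : K) ∉ R := fun h => h00 (φ.injective (by
    rw [map_zero, ← coeff_map, coeff_zero_eq_eval_zero]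
    exact (mem_roots hmon.ne_zero).1 h))
  have hprodR : R.prod = 1 := by
    have h := congrArg (Polynomial.eval 0) hprod
    rw [← coeff_zero_eq_eval_zero, coeff_map, h0, map_neg, map_one, eval_multiset_prod, Multiset.map_map,
      show ((Polynomial.eval 0) ∘ fun ρ : K => X - C ρ) = fun ρ => -ρ from funext fun ρ => by simp,
      Multiset.prod_map_neg, hcard] at h
    linear_combination h
  -- closed under inversion and Frobenius
  have hinvR : R.map (fun ρ => ρ⁻¹) = R := by
    have hrev : (P.map φ).reverse = P.reverse.map φ := by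
      rw [reverse, reverse, natDegree_map, reflect_map]
    have hdvd : P.map φ ∣ (P.map φ).reverse := by rw [hrev]; exact map_dvd φ hr
    have hne : (P.map φ).reverse ≠ 0 := by
      rw [hrev, Ne, Polynomial.map_eq_zero, reverse_eq_zero]; exact hm.ne_zero
    rw [← roots_reverse_prod R hR0, ← hprod]
    refine (Multiset.eq_of_le_of_card_le (roots.le_of_dvd hne hdvd) ?_).symm
    refine (card_roots' _).trans ((reverse_natDegree_le _).trans ?_)
    rw [← hR, hprod, natDegree_multiset_prod_X_sub_C_eq_card]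
  have hfrR : R.map σ = R := by
    rw [hR, ← hsp.roots_map σ, Polynomial.map_map]
    congr 2
    ext x
    rw [RingHom.comp_apply, hσv, ← map_pow, FiniteField.pow_card]
  have cinv : ∀ x, R.count x⁻¹ = R.count x := fun x => by
    conv_lhs => rw [← hinvR]
    exact Multiset.count_map_eq_count' _ _ inv_injective x
  have cfr : ∀ x, R.count (x ^ q) = R.count x := fun x => by
    conv_lhs => rw [← hfrR, ← hσv]
    exact Multiset.count_map_eq_count' _ _ σ.injective x
  obtain ⟨a, ha⟩ : ∃ a, a = R.count 1 := ⟨_, rfl⟩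
  obtain ⟨e, he⟩ : ∃ e, e = R.count (-1) := ⟨_, rfl⟩
  -- the root one has odd, minus one even multiplicity
  set T0 : Finset K := {1, -1} with hT0
  set rest : Finset K := R.toFinset \ T0 with hrest
  have hU : R.toFinset ⊆ T0 ∪ rest := fun x hx => by
    by_cases h : x ∈ T0 <;> simp [hrest, hx, h]
  have hdisj : Disjoint T0 rest := Finset.disjoint_sdiff
  have hrinv : ∀ x ∈ rest, x⁻¹ ∈ rest ∧ x⁻¹ ≠ x ∧ x ≠ 0 := by
    intro x hx
    simp only [hrest, hT0, Finset.mem_sdiff, Multiset.mem_toFinset, Finset.mem_insert, Finset.mem_singleton,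
      not_or] at hx
    obtain ⟨hxR, hx1, hx2⟩ := hx
    have hx0 : x ≠ 0 := fun h => hR0 (h ▸ hxR)
    refine ⟨?_, fun h => ?_, hx0⟩
    · simp only [hrest, hT0, Finset.mem_sdiff, Multiset.mem_toFinset, Finset.mem_insert, Finset.mem_singleton,
        not_or, inv_eq_one]
      exact ⟨by rwa [← Multiset.one_le_count_iff_mem, cinv, Multiset.one_le_count_iff_mem], hx1,
        fun h => hx2 (by rw [← inv_inv x, h]; norm_num)⟩
    · have h' : x * x = 1 := by nth_rewrite 1 [← h]; exact inv_mul_cancel₀ hx0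
      exact (mul_self_eq_one_iff.1 h').elim hx1 hx2
  have haodd : Odd a ∧ Even e := by
    have hs : (∑ z ∈ rest, (R.count z : ZMod 2)) = 0 :=
      Finset.sum_involution (fun z _ => z⁻¹) (fun z _ => by rw [cinv]; exact CharTwo.add_self_eq_zero _)
        (fun z hz _ => (hrinv z hz).2.1) (fun z hz => (hrinv z hz).1) (fun z _ => inv_inv z)
    have hpr : (∏ z ∈ rest, z ^ R.count z) = 1 :=
      Finset.prod_involution (fun z _ => z⁻¹)
        (fun z hz => by rw [cinv, ← mul_pow, mul_inv_cancel₀ (hrinv z hz).2.2, one_pow])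
        (fun z hz _ => (hrinv z hz).2.1) (fun z hz => (hrinv z hz).1) (fun z _ => inv_inv z)
    have htot : ∑ z ∈ T0 ∪ rest, R.count z = 9 := by
      rw [← hcard, ← R.toFinset_sum_count_eq]
      exact (Finset.sum_subset hU fun z _ hz => Multiset.count_eq_zero.2 fun h => hz (Multiset.mem_toFinset.2 h)).symm
    have hpt : ∏ z ∈ T0 ∪ rest, z ^ R.count z = 1 := by
      rw [← hprodR, Finset.prod_multiset_count]
      exact (Finset.prod_subset hU fun z _ hz => by
        rw [Multiset.count_eq_zero.2 fun h => hz (Multiset.mem_toFinset.2 h), pow_zero]).symm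
    rw [Finset.prod_union hdisj, hpr, mul_one, hT0, Finset.prod_pair hneg.symm, one_pow, one_mul, ← he,
      neg_one_pow_eq_one_iff_even hneg] at hpt
    refine ⟨?_, hpt⟩
    rw [Finset.sum_union hdisj, hT0, Finset.sum_pair hneg.symm, ← ha, ← he] at htot
    have h9 := congrArg (Nat.cast : ℕ → ZMod 2) htot
    push_cast at h9
    rw [hs, ZMod.natCast_eq_zero_iff_even.2 hpt, add_zero, add_zero] at h9
    rw [← ZMod.natCast_eq_one_iff_odd, h9]
    decide
  obtain ⟨haodd, heven⟩ := haodd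
  have ha1 : 1 ≤ a := haodd.pos
  have sum_le : ∀ T : Finset K, ∑ z ∈ T, R.count z ≤ 9 := fun T => by
    refine le_trans ?_ hcard.le
    rw [← R.toFinset_sum_count_eq, ← Finset.sum_filter_add_sum_filter_not T (· ∈ R.toFinset),
      Finset.sum_eq_zero (s := T.filter fun z => ¬ z ∈ R.toFinset) (fun z hz => by
        simpa using (Finset.mem_filter.1 hz).2), add_zero]
    exact Finset.sum_le_sum_of_subset fun z hz => (Finset.mem_filter.1 hz).2
  -- dividing
  have up : ∀ {z : K} {m N : ℕ}, z ^ m = 1 → m ∣ N → z ^ N = 1 := fun h hd => by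
    obtain ⟨c, rfl⟩ := hd
    rw [pow_mul, h, one_pow]
  have fin : ∀ s L N, N ∈ lst p q → p ^ s * L ∣ N → (∀ z ∈ R, z ^ L = 1) →
      (∀ z ∈ R, z ≠ -1 → R.count z ≤ p ^ s) → e ≤ p ^ s + 1 →
      (∃ N ∈ lst p q, P ∣ (X + 1) * (X ^ N - 1)) ∨ Exc P := by
    intro s L N hN hdN hL hs hse
    refine Or.inl ⟨N, hN, ?_⟩
    refine (map_dvd_map φ φ.injective hm).1 ?_
    simp only [Polynomial.map_mul, Polynomial.map_add, Polynomial.map_sub, Polynomial.map_pow, map_X,
      Polynomial.map_one]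
    obtain ⟨c, hc⟩ := hdN
    have hx : ((X : K[X]) ^ L - 1) ^ p ^ s ∣ X ^ N - 1 := by
      rw [sub_pow_char_pow, ← pow_mul, one_pow, hc, mul_comm (p ^ s), pow_mul _ (L * p ^ s)]
      simpa using sub_dvd_pow_sub_pow ((X : K[X]) ^ (L * p ^ s)) 1 c
    rw [hprod, Finset.prod_multiset_map_count]
    refine Finset.prod_dvd_of_coprime ((pairwise_coprime_X_sub_C Function.injective_id).set_pairwise _ |>.imp
      fun _ _ h => h.pow) ?_
    intro z hz
    rw [Multiset.mem_toFinset] at hz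
    have hdvd : X - C z ∣ (X : K[X]) ^ L - 1 := dvd_iff_isRoot.2 (by simp [hL z hz])
    rcases eq_or_ne z (-1) with rfl | hz1
    · rw [show X - C (-1 : K) = X + 1 by simp] at hdvd ⊢
      refine (pow_dvd_pow _ (he ▸ hse)).trans ?_
      rw [pow_succ']
      exact mul_dvd_mul_left _ ((pow_dvd_pow_of_dvd hdvd _).trans hx)
    · exact (((pow_dvd_pow _ (hs z hz hz1)).trans (pow_dvd_pow_of_dvd hdvd _)).trans hx).trans (dvd_mul_left _ _)
  -- orbits
  let Cl : Finset K → Prop := fun T => ∀ x, (x ^ q ∈ T ↔ x ∈ T) ∧ (x⁻¹ ∈ T ↔ x ∈ T)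
  let fwd : K → ℕ → Finset K := fun ρ d => (Finset.range d).image fun i => ρ ^ q ^ i
  let orb : K → ℕ → Finset K := fun ρ d => fwd ρ d ∪ (Finset.range d).image fun i => ρ⁻¹ ^ q ^ i
  have step : ∀ T : Finset K, Cl T → ∀ ρ ∈ R, ρ ≠ 1 → ρ ≠ -1 → ρ ∉ T → ∃ (d k : ℕ),
      0 < d ∧ 1 ≤ k ∧ (ρ ^ q ^ d = ρ ∨ ρ ^ q ^ d = ρ⁻¹) ∧ (fwd ρ d).card = d ∧
      Disjoint (fwd ρ d) ((Finset.range d).image fun i => ρ⁻¹ ^ q ^ i) ∧
      Cl (T ∪ orb ρ d) ∧ ρ ∈ orb ρ d ∧
      (∀ z ∈ orb ρ d, R.count z = k) ∧ (∀ z ∈ orb ρ d, ∀ N, ρ ^ N = 1 → z ^ N = 1) ∧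
      ∑ z ∈ T ∪ orb ρ d, R.count z = (∑ z ∈ T, R.count z) + 2 * d * k ∧
      (∑ z ∈ T, R.count z) + 2 * d * k ≤ 9 := by
    intro T hT ρ hρ hρ1 hρm hρT
    have hρ0 : ρ ≠ 0 := fun h => hR0 (h ▸ hρ)
    have hself : ρ ≠ ρ⁻¹ := fun h => by
      have h2 : ρ * ρ = 1 := by nth_rewrite 2 [h]; exact mul_inv_cancel₀ hρ0
      exact (mul_self_eq_one_iff.1 h2).elim hρ1 hρm
    have hmemR : ∀ i, ρ ^ q ^ i ∈ R := by
      intro i
      induction i with
      | zero => simpa using hρ
      | succ i ih => rw [pow_succ, pow_mul, ← Multiset.one_le_count_iff_mem, cfr, Multiset.one_le_count_iff_mem]; exact ih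
    have hpow_inj : ∀ i {x y : K}, x ^ q ^ i = y ^ q ^ i → x = y := by
      intro i
      induction i with
      | zero => intro x y h; simpa using h
      | succ i ih => intro x y h; rw [pow_succ, pow_mul, pow_mul] at h; exact ih (hinj h)
    have hex : ∃ d, 0 < d ∧ (ρ ^ q ^ d = ρ ∨ ρ ^ q ^ d = ρ⁻¹) := by
      obtain ⟨i, j, hij, h⟩ : ∃ i j, i < j ∧ ρ ^ q ^ i = ρ ^ q ^ j := by
        obtain ⟨i, -, j, -, hij, h⟩ := Finset.exists_ne_map_eq_of_card_lt_of_maps_to
          (s := Finset.range 10) (t := R.toFinset) (f := fun i => ρ ^ q ^ i)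
          (by rw [Finset.card_range]; exact lt_of_le_of_lt ((Multiset.toFinset_card_le _).trans hcard.le) (by norm_num))
          (fun i _ => Multiset.mem_toFinset.2 (hmemR i))
        rcases hij.lt_or_gt with hlt | hlt
        · exact ⟨i, j, hlt, h⟩
        · exact ⟨j, i, hlt, h.symm⟩
      refine ⟨j - i, by omega, Or.inl (hpow_inj i ?_)⟩
      rw [← pow_mul, ← pow_add, Nat.sub_add_cancel hij.le, h]
    obtain ⟨d, ⟨hd0, hdρ⟩, hmin⟩ : ∃ d, (0 < d ∧ (ρ ^ q ^ d = ρ ∨ ρ ^ q ^ d = ρ⁻¹)) ∧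
        ∀ d' < d, ¬ (0 < d' ∧ (ρ ^ q ^ d' = ρ ∨ ρ ^ q ^ d' = ρ⁻¹)) :=
      ⟨Nat.find hex, Nat.find_spec hex, fun d' h => Nat.find_min hex h⟩
    let A : Finset K := fwd ρ d
    let B : Finset K := (Finset.range d).image fun i => ρ⁻¹ ^ q ^ i
    have hne : ∀ i j, i ≤ j → j < d → (ρ ^ q ^ i = ρ ^ q ^ j ∨ ρ⁻¹ ^ q ^ i = ρ ^ q ^ j) → i = j := by
      intro i j hij hj h
      by_contra hne
      have hj' : ρ ^ q ^ j = (ρ ^ q ^ (j - i)) ^ q ^ i := by rw [← pow_mul, ← pow_add, Nat.sub_add_cancel hij]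
      rw [hj'] at h
      refine hmin (j - i) (by omega) ⟨by omega, ?_⟩
      rcases h with h | h
      · exact Or.inl (hpow_inj i h).symm
      · exact Or.inr (hpow_inj i h).symm
    have hcardA : A.card = d := by
      simp only [A, fwd]
      rw [Finset.card_image_of_injOn, Finset.card_range]
      intro i hi j hj h
      simp only [Finset.coe_range, Set.mem_Iio] at hi hj
      rcases le_total i j with hij | hij
      · exact hne i j hij hj (Or.inl h)
      · exact (hne j i hij hi (Or.inl h.symm)).symm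
    have hcardB : B.card = d := by
      rw [Finset.card_image_of_injOn, Finset.card_range]
      intro i hi j hj h
      simp only [Finset.coe_range, Set.mem_Iio] at hi hj
      simp only [inv_pow] at h
      replace h := inv_injective h
      rcases le_total i j with hij | hij
      · exact hne i j hij hj (Or.inl h)
      · exact (hne j i hij hi (Or.inl h.symm)).symm
    have hAB : Disjoint A B := by
      rw [Finset.disjoint_left]
      rintro x hxA hxB
      simp only [A, fwd, B, Finset.mem_image, Finset.mem_range] at hxA hxB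
      obtain ⟨i, hi, rfl⟩ := hxA
      obtain ⟨j, hj, h⟩ := hxB
      rcases le_total i j with hij | hij
      · obtain rfl := hne i j hij hj (Or.inr (by rw [inv_pow, ← h, inv_pow, inv_inv]))
        exact hself (hpow_inj i h).symm
      · obtain rfl := hne j i hij hi (Or.inr h)
        exact hself (hpow_inj j h).symm
    have hmemO : ∀ x, x ∈ A ∪ B ↔ ∃ i < d, x = ρ ^ q ^ i ∨ x = ρ⁻¹ ^ q ^ i := by
      intro x
      simp only [A, fwd, B, Finset.mem_union, Finset.mem_image, Finset.mem_range]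
      constructor
      · rintro (⟨i, hi, rfl⟩ | ⟨i, hi, rfl⟩)
        · exact ⟨i, hi, Or.inl rfl⟩
        · exact ⟨i, hi, Or.inr rfl⟩
      · rintro ⟨i, hi, rfl | rfl⟩
        · exact Or.inl ⟨i, hi, rfl⟩
        · exact Or.inr ⟨i, hi, rfl⟩
    have hinvO : ∀ x ∈ A ∪ B, x⁻¹ ∈ A ∪ B := by
      intro x hx
      obtain ⟨i, hi, rfl | rfl⟩ := (hmemO x).1 hx
      · exact (hmemO _).2 ⟨i, hi, Or.inr (inv_pow _ _).symm⟩
      · exact (hmemO _).2 ⟨i, hi, Or.inl (by rw [inv_pow, inv_inv])⟩
    have hfrO : ∀ x ∈ A ∪ B, x ^ q ∈ A ∪ B := by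
      have key : ∀ i < d, (ρ ^ q ^ i) ^ q ∈ A ∪ B := by
        intro i hi
        rw [← pow_mul, ← pow_succ]
        rcases Nat.lt_or_ge (i + 1) d with h | h
        · exact (hmemO _).2 ⟨i + 1, h, Or.inl rfl⟩
        · obtain rfl : d = i + 1 := by omega
          rcases hdρ with h' | h' <;> rw [h']
          · exact (hmemO _).2 ⟨0, hd0, Or.inl (by simp)⟩
          · exact (hmemO _).2 ⟨0, hd0, Or.inr (by simp)⟩
      intro x hx
      obtain ⟨i, hi, rfl | rfl⟩ := (hmemO x).1 hx
      · exact key i hi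
      · rw [inv_pow, inv_pow]
        exact hinvO _ (key i hi)
    have hClO : Cl (A ∪ B) := by
      refine fun x => ⟨⟨fun h => ?_, hfrO x⟩, ⟨fun h => inv_inv x ▸ hinvO _ h, hinvO x⟩⟩
      obtain ⟨y, hy, hyx⟩ : ∃ y ∈ A ∪ B, y ^ q = x ^ q := by
        have := Finset.surj_on_of_inj_on_of_card_le (fun (y : K) (_ : y ∈ A ∪ B) => y ^ q)
          (fun y hy => hfrO y hy) (fun y₁ y₂ _ _ h => hinj h) le_rfl (x ^ q) h
        obtain ⟨y, hy, hyx⟩ := this
        exact ⟨y, hy, hyx.symm⟩
      rwa [← hinj hyx]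
    have hcfr : ∀ i, R.count (ρ ^ q ^ i) = R.count ρ := by
      intro i
      induction i with
      | zero => simp
      | succ i ih => rw [pow_succ, pow_mul, cfr, ih]
    have hcount : ∀ z ∈ A ∪ B, R.count z = R.count ρ := by
      intro z hz
      obtain ⟨i, -, rfl | rfl⟩ := (hmemO z).1 hz
      · exact hcfr i
      · rw [inv_pow, cinv, hcfr]
    have hTO : Disjoint T (A ∪ B) := by
      rw [Finset.disjoint_left]
      intro x hxT hx
      obtain ⟨i, -, rfl | rfl⟩ := (hmemO x).1 hx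
      all_goals
        refine hρT ?_
        clear hx
        revert hxT
      · induction i with
        | zero => simp
        | succ i ih => rw [pow_succ, pow_mul, (hT _).1]; exact ih
      · rw [inv_pow, (hT _).2]
        induction i with
        | zero => simp
        | succ i ih => rw [pow_succ, pow_mul, (hT _).1]; exact ih
    have hsum : ∑ z ∈ T ∪ (A ∪ B), R.count z = (∑ z ∈ T, R.count z) + 2 * d * R.count ρ := by
      rw [Finset.sum_union hTO, Finset.sum_congr rfl hcount, Finset.sum_const,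
        Finset.card_union_of_disjoint hAB, hcardA, hcardB, smul_eq_mul, two_mul]
    refine ⟨d, R.count ρ, hd0, Multiset.one_le_count_iff_mem.2 hρ, hdρ, hcardA, hAB, fun x => ?_,
      (hmemO ρ).2 ⟨0, hd0, Or.inl (by simp)⟩, hcount, ?_, hsum, hsum ▸ sum_le _⟩
    · show (x ^ q ∈ T ∪ (A ∪ B) ↔ x ∈ T ∪ (A ∪ B)) ∧ (x⁻¹ ∈ T ∪ (A ∪ B) ↔ x ∈ T ∪ (A ∪ B))
      simp only [Finset.mem_union, (hT x).1, (hT x).2]
      have h1 := (hClO x).1
      have h2 := (hClO x).2
      simp only [Finset.mem_union] at h1 h2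
      exact ⟨or_congr Iff.rfl h1, or_congr Iff.rfl h2⟩
    · intro z hz N hN
      obtain ⟨i, -, rfl | rfl⟩ := (hmemO z).1 hz
      · rw [← pow_mul, mul_comm, pow_mul, hN, one_pow]
      · rw [← pow_mul, mul_comm, pow_mul, inv_pow, hN, inv_one, one_pow]
  -- the points plus and minus one
  have hT1 : Cl T0 := fun x => by
    simp only [hT0, Finset.mem_insert, Finset.mem_singleton]
    refine ⟨⟨?_, ?_⟩, ?_⟩
    · rintro (h | h)
      · exact Or.inl (hinj (by rw [h, one_pow]))
      · exact Or.inr (hinj (by rw [h, hqodd.neg_one_pow]))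
    · rintro (rfl | rfl)
      · exact Or.inl (one_pow _)
      · exact Or.inr hqodd.neg_one_pow
    · constructor
      · rintro (h | h)
        · exact Or.inl (inv_eq_one.1 h)
        · exact Or.inr (by rw [← inv_inv x, h]; norm_num)
      · rintro (rfl | rfl)
        · exact Or.inl inv_one
        · exact Or.inr (by norm_num)
  have hs1 : ∑ z ∈ T0, R.count z = a + e := by rw [hT0, Finset.sum_pair hneg.symm, ha, he]
  have hae : a + e ≤ 9 := hs1 ▸ sum_le _
  have hmem0 : ∀ z, z ∈ T0 ↔ z = 1 ∨ z = -1 := fun z => by simp [hT0]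
  have first : ∀ ρ ∈ R, ρ ≠ 1 → ρ ≠ -1 → ∃ (d k : ℕ), 0 < d ∧ 1 ≤ k ∧ (ρ ^ q ^ d = ρ ∨ ρ ^ q ^ d = ρ⁻¹) ∧
      (fwd ρ d).card = d ∧ Disjoint (fwd ρ d) ((Finset.range d).image fun i => ρ⁻¹ ^ q ^ i) ∧
      Cl (T0 ∪ orb ρ d) ∧ ρ ∈ orb ρ d ∧ (∀ z ∈ orb ρ d, R.count z = k) ∧
      (∀ z ∈ orb ρ d, ∀ N, ρ ^ N = 1 → z ^ N = 1) ∧
      ∑ z ∈ T0 ∪ orb ρ d, R.count z = a + e + 2 * d * k ∧ a + e + 2 * d * k ≤ 9 := fun ρ hρ hρ1 hρm => by
    obtain ⟨d, k, h1, h2, h3, h4, h5, h6, h7, h8, h9, h10, h11⟩ :=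
      step _ hT1 ρ hρ hρ1 hρm (by rw [hmem0]; simp [hρ1, hρm])
    exact ⟨d, k, h1, h2, h3, h4, h5, h6, h7, h8, h9, hs1 ▸ h10, hs1 ▸ h11⟩
  have hexp : ∀ (ρ : K) (d : ℕ), ρ ∈ R → (ρ ^ q ^ d = ρ ∨ ρ ^ q ^ d = ρ⁻¹) →
      ρ ^ (q ^ d - 1) = 1 ∨ ρ ^ (q ^ d + 1) = 1 := by
    intro ρ d hρ hdρ
    have hρ0 : ρ ≠ 0 := fun h => hR0 (h ▸ hρ)
    have h1 : 1 ≤ q ^ d := Nat.one_le_pow _ _ (by omega)
    rcases hdρ with h | h
    · exact Or.inl (by rw [pow_sub₀ _ hρ0 h1, h, pow_one, mul_inv_cancel₀ hρ0])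
    · exact Or.inr (by rw [pow_succ, h, inv_mul_cancel₀ hρ0])
  -- a single orbit besides one
  have single : ∀ (ρ : K) (d : ℕ), ρ ∈ R → ρ ≠ 1 → ρ ≠ -1 → 1 ≤ d → d ≤ 4 →
      (ρ ^ q ^ d = ρ ∨ ρ ^ q ^ d = ρ⁻¹) → (fwd ρ d).card = d →
      Disjoint (fwd ρ d) ((Finset.range d).image fun i => ρ⁻¹ ^ q ^ i) →
      (∀ z ∈ orb ρ d, R.count z = 1) → (∀ z ∈ R, z = 1 ∨ z ∈ orb ρ d) → a + 2 * d = 9 →
      ρ ^ ((q ^ d - 1) / 2) ≠ 1 → ρ ^ ((q ^ d + 1) / 2) ≠ 1 → Exc P :=
    fun ρ d h1 h2 h3 h4 h5 h6 h7 h8 h9 h10 h11 h12 h13 =>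
      exc_of_single h2F hqodd hq3 hm hσv hR hprod hR0 ha h1 h2 h3 h4 h5 h6 h7 h8 h9 h10 h11 h12 h13
  -- the case analysis
  have hother : ∀ (T : Finset K) (m : ℕ), Cl T → (∑ z ∈ T, R.count z) = m → T0 ⊆ T → ∀ z ∈ R, z ∉ T →
      ∃ d k, 1 ≤ d ∧ 1 ≤ k ∧ R.count z = k ∧ (z ^ (q ^ d - 1) = 1 ∨ z ^ (q ^ d + 1) = 1) ∧ m + 2 * d * k ≤ 9 := by
    intro T m hT hm' hT0T z hz hzT
    obtain ⟨d, k, h1, h2, h3, -, -, -, h7, h8, -, -, h11⟩ := step T hT z hz
      (fun h => hzT (hT0T (by simp [hT0, h]))) (fun h => hzT (hT0T (by simp [hT0, h]))) hzT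
    exact ⟨d, k, h1, h2, h8 z h7, hexp z d hz h3, hm' ▸ h11⟩
  have hP5 : 5 ≤ ppow p 5 := le_ppow hpp.one_lt 5
  have hP7 : 7 ≤ ppow p 7 := le_ppow hpp.one_lt 7
  have hP9 : 9 ≤ ppow p 9 := le_ppow hpp.one_lt 9
  have hc1 : p ^ 1 = p := pow_one p
  have hpm1 : ∀ z : K, (z = 1 ∨ z = -1) → ∀ {n : ℕ}, Even n → z ^ n = 1 := fun z hz n hn => by
    rcases hz with rfl | rfl
    · exact one_pow n
    · exact hn.neg_one_pow
  have evm : Even (q - 1) := ⟨(q - 1) / 2, by have := Q.em; omega⟩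
  have evp : Even (q + 1) := ⟨(q + 1) / 2, by have := Q.ep; omega⟩
  have q1p : q ^ 1 = q := pow_one q
  by_cases hbig : ∃ ρ ∈ R, ρ ≠ 1 ∧ ρ ≠ -1 ∧ ρ ^ (q ^ 2 - 1) ≠ 1 ∧ ρ ^ (q ^ 2 + 1) ≠ 1
  · obtain ⟨ρ, hρ, hρ1, hρm, hm2, hp2'⟩ := hbig
    obtain ⟨d, k, hd0, hk, hdρ, hcA, hAB, hCl, hρO, hcnt, hpw, hsum, hle⟩ := first ρ hρ hρ1 hρm
    have hd3 : 3 ≤ d := by
      by_contra h
      have := hexp ρ d hρ hdρ
      obtain rfl | rfl : d = 1 ∨ d = 2 := by omega
      · rw [q1p] at this
        exact hm2 (this.elim (fun h => up h (dvd_trans Q.m2m ⟨2, by have := Q.e2m; omega⟩))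
          (fun h => up h (dvd_trans Q.p2m ⟨2, by have := Q.e2m; omega⟩)))
      · exact this.elim hm2 hp2'
    obtain rfl : k = 1 := by
      by_contra h
      have : 2 * 3 * 2 ≤ 2 * d * k := Nat.mul_le_mul (by omega) (by omega)
      omega
    by_cases hout : e ≠ 0 ∨ ∃ z ∈ R, z ∉ T0 ∪ orb ρ d
    · have hd : d = 3 ∧ a = 1 := by
        rcases hout with he0 | ⟨z, hz, hzT⟩
        · obtain ⟨m, hm'⟩ := heven
          omega
        · obtain ⟨d₁, k₁, h1, h2, -, -, hle1⟩ := hother _ _ hCl hsum Finset.subset_union_left z hz hzT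
          have : 2 * 1 * 1 ≤ 2 * d₁ * k₁ := Nat.mul_le_mul (by omega) h2
          omega
      obtain ⟨rfl, ha'⟩ := hd
      have hall : ∀ w ∈ R, (w ≠ -1 → R.count w ≤ 1) ∧
          (w ∈ orb ρ 3 ∨ w ^ (q - 1) = 1 ∨ w ^ (q + 1) = 1) := by
        intro w hw
        by_cases hwT : w ∈ T0 ∪ orb ρ 3
        · rcases Finset.mem_union.1 hwT with h | h
          · exact ⟨fun hn => by rw [((hmem0 w).1 h).resolve_right hn, ← ha, ha'],
              Or.inr (Or.inl (hpm1 w ((hmem0 w).1 h) evm))⟩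
          · exact ⟨fun _ => (hcnt w h).le, Or.inl h⟩
        · obtain ⟨d₂, k₂, h1, h2, hc2, hexp2, hle2⟩ := hother _ _ hCl hsum Finset.subset_union_left w hw hwT
          obtain rfl : d₂ = 1 := by nlinarith
          obtain rfl : k₂ = 1 := by omega
          exact ⟨fun _ => hc2.le, Or.inr (by simpa using hexp2)⟩
      rcases hexp ρ 3 hρ hdρ with h | h
      · refine fin 0 ((q ^ 3 - 1) * ((q + 1) / 2)) ((q ^ 3 - 1) * ((q + 1) / 2)) (by simp [lst]) (by simp) (fun w hw => ?_)
          (fun w hw hn => by simpa using (hall w hw).1 hn) (by rw [pow_zero]; omega)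
        rcases (hall w hw).2 with h' | h' | h'
        · exact up (hpw w h' _ h) Q.m3mp
        · exact up h' (Q.m3m.trans Q.m3mp)
        · exact up h' Q.a3mp
      · refine fin 0 ((q ^ 3 + 1) * ((q - 1) / 2)) ((q ^ 3 + 1) * ((q - 1) / 2)) (by simp [lst]) (by simp) (fun w hw => ?_)
          (fun w hw hn => by simpa using (hall w hw).1 hn) (by rw [pow_zero]; omega)
        rcases (hall w hw).2 with h' | h' | h'
        · exact up (hpw w h' _ h) Q.p3pm
        · exact up h' Q.a3pm
        · exact up h' (Q.p3p.trans Q.p3pm)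
    push Not at hout
    obtain ⟨he0, hout⟩ := hout
    have hno : (-1 : K) ∉ R := Multiset.count_eq_zero.1 (he.symm.trans he0)
    have hall : ∀ w ∈ R, w = 1 ∨ w ∈ orb ρ d := fun w hw => by
      rcases Finset.mem_union.1 (hout w hw) with h | h
      · exact Or.inl (((hmem0 w).1 h).resolve_right fun hn => hno (hn ▸ hw))
      · exact Or.inr h
    have had : a + 2 * d = 9 := by
      refine le_antisymm (by omega) ?_
      have h9 : R.card ≤ ∑ z ∈ T0 ∪ orb ρ d, R.count z := by
        rw [← R.toFinset_sum_count_eq]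
        exact Finset.sum_le_sum_of_subset fun w hw => hout w (Multiset.mem_toFinset.1 hw)
      omega
    by_cases hhalf : ρ ^ ((q ^ d - 1) / 2) = 1 ∨ ρ ^ ((q ^ d + 1) / 2) = 1
    · have hc : ∀ w ∈ R, ∀ b, a ≤ b → 1 ≤ b → R.count w ≤ b := fun w hw b hab hb => by
        rcases hall w hw with rfl | h
        · omega
        · rw [hcnt w h]; exact hb
      have hL : ∀ L, ρ ^ L = 1 → ∀ w ∈ R, w ^ L = 1 := fun L hL w hw =>
        (hall w hw).elim (fun h => by rw [h, one_pow]) (fun h => hpw w h _ hL)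
      obtain rfl | rfl : d = 3 ∨ d = 4 := by omega
      · rcases hhalf with h | h
        · exact fin 1 _ (p * ((q ^ 3 - 1) / 2)) (by simp [lst]) (by rw [hc1]) (hL _ h)
            (fun w hw _ => hc w hw _ (by omega) (by omega)) (by omega)
        · exact fin 1 _ (p * ((q ^ 3 + 1) / 2)) (by simp [lst]) (by rw [hc1]) (hL _ h)
            (fun w hw _ => hc w hw _ (by omega) (by omega)) (by omega)
      · rcases hhalf with h | h
        · exact fin 0 _ ((q ^ 4 - 1) / 2) (by simp [lst]) (by simp) (hL _ h)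
            (fun w hw _ => hc w hw _ (by simp; omega) (by simp)) (by omega)
        · exact fin 0 _ ((q ^ 4 + 1) / 2) (by simp [lst]) (by simp) (hL _ h)
            (fun w hw _ => hc w hw _ (by simp; omega) (by simp)) (by omega)
    · push Not at hhalf
      exact Or.inr (single ρ d hρ hρ1 hρm (by omega) (by omega) hdρ hcA hAB hcnt hall had hhalf.1 hhalf.2)
  push Not at hbig
  replace hbig : ∀ z ∈ R, z ^ (q ^ 2 - 1) = 1 ∨ z ^ (q ^ 2 + 1) = 1 := fun z hz => by
    rcases eq_or_ne z 1 with h | h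
    · exact Or.inl (by rw [h, one_pow])
    rcases eq_or_ne z (-1) with h' | h'
    · exact Or.inl (hpm1 z (Or.inr h') ⟨(q ^ 2 - 1) / 2, by have := Q.e2m; omega⟩)
    by_cases h'' : z ^ (q ^ 2 - 1) = 1
    · exact Or.inl h''
    · exact Or.inr (hbig z hz h h' h'')
  have hk4 : ∀ z ∈ R, z ≠ -1 → z ≠ 1 → ∃ k, R.count z = k ∧ a + e + 2 * k ≤ 9 := fun z hz hzm hz1 => by
    obtain ⟨d, k, hd0, hk, -, -, -, -, hzO, hcnt, -, -, hle⟩ := first z hz hz1 hzm
    refine ⟨k, hcnt z hzO, ?_⟩
    have : 2 * 1 * k ≤ 2 * d * k := Nat.mul_le_mul_right _ (by omega)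
    omega
  -- an orbit of two units with a full torus element
  have two : ∀ ρ ∈ R, ρ ≠ 1 → ρ ≠ -1 → ρ ^ (q - 1) ≠ 1 → ρ ^ (q + 1) ≠ 1 → ∃ k, 1 ≤ k ∧
      (ρ ^ q ^ 2 = ρ ∨ ρ ^ q ^ 2 = ρ⁻¹) ∧ (fwd ρ 2).card = 2 ∧
      Disjoint (fwd ρ 2) ((Finset.range 2).image fun i => ρ⁻¹ ^ q ^ i) ∧ Cl (T0 ∪ orb ρ 2) ∧ ρ ∈ orb ρ 2 ∧
      (∀ z ∈ orb ρ 2, R.count z = k) ∧ (∀ z ∈ orb ρ 2, ∀ N, ρ ^ N = 1 → z ^ N = 1) ∧
      ∑ z ∈ T0 ∪ orb ρ 2, R.count z = a + e + 2 * 2 * k ∧ a + e + 2 * 2 * k ≤ 9 := by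
    intro ρ hρ hρ1 hρm hn1 hn2
    obtain ⟨d, k, hd0, hk, hdρ, hcA, hAB, hCl, hρO, hcnt, hpw, hsum, hle⟩ := first ρ hρ hρ1 hρm
    have hd : d ≠ 1 := fun h => by
      have := hexp ρ d hρ hdρ
      rw [h, q1p] at this
      exact this.elim hn1 hn2
    by_cases h2 : d = 2
    · subst h2; exact ⟨k, hk, hdρ, hcA, hAB, hCl, hρO, hcnt, hpw, hsum, hle⟩
    exfalso
    obtain ⟨m, hm'⟩ : ∃ m, m = d := ⟨_, rfl⟩
    have h3 : 3 ≤ d := by omega
    -- a longer orbit cannot be killed by the two exponents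
    have hρ0 : ρ ≠ 0 := fun h => hR0 (h ▸ hρ)
    have h22 : ρ ^ q ^ 2 = ρ ∨ ρ ^ q ^ 2 = ρ⁻¹ := by
      rcases hbig ρ hρ with h | h
      · refine Or.inl ?_
        rw [show q ^ 2 = (q ^ 2 - 1) + 1 by have := Q.e2m; have : 1 ≤ q ^ 2 := Nat.one_le_pow _ _ (by omega); omega,
          pow_succ, h, one_mul]
      · exact Or.inr (eq_inv_of_mul_eq_one_left (by rw [← pow_succ]; exact h))
    have hinj' : Set.InjOn (fun i => ρ ^ q ^ i) (Finset.range d : Set ℕ) :=
      Finset.card_image_iff.1 (hcA.trans (Finset.card_range d).symm)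
    rcases h22 with h | h
    · exact absurd (hinj' (by simp; omega) (by simp; omega) (h.trans (by simp) : ρ ^ q ^ 2 = ρ ^ q ^ 0))
        (by norm_num)
    · exact Finset.disjoint_left.1 hAB
        (show ρ ^ q ^ 2 ∈ fwd ρ d from Finset.mem_image.2 ⟨2, by simp; omega, rfl⟩)
        (Finset.mem_image.2 ⟨0, by simp; omega, by simp [h]⟩)
  by_cases hB : ∀ z ∈ R, z ^ (q ^ 2 - 1) = 1
  · by_cases hc3 : a ≤ 3 ∧ e ≤ 4 ∧ ∀ z ∈ R, z ≠ 1 → z ≠ -1 → R.count z ≤ 3
    · refine fin 1 (q ^ 2 - 1) (p * (q ^ 2 - 1)) (by simp [lst]) (by rw [hc1]) hB (fun z hz hzm => ?_) (by rw [hc1]; omega)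
      rcases eq_or_ne z 1 with rfl | h
      · rw [← ha, hc1]; omega
      · have := hc3.2.2 z hz h hzm; rw [hc1]; omega
    by_cases hhalf : ∀ z ∈ R, z ^ ((q ^ 2 - 1) / 2) = 1
    · by_cases hc5 : a ≤ 5 ∧ e ≤ 6
      · refine fin (Nat.clog p 5) _ (ppow p 5 * ((q ^ 2 - 1) / 2)) (by simp [lst]) dvd_rfl hhalf (fun z hz hzm => ?_)
          (by show e ≤ ppow p 5 + 1; omega)
        show R.count z ≤ ppow p 5
        rcases eq_or_ne z 1 with rfl | h
        · omega
        · obtain ⟨k, hk, hle⟩ := hk4 z hz hzm h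
          omega
      · by_cases ha9 : a = 9
        · refine fin (Nat.clog p 9) 1 (ppow p 9) (by simp [lst]) (by simp [ppow]) (fun z hz => ?_) (fun z hz hzm => ?_)
            (by show e ≤ ppow p 9 + 1; omega)
          · rcases eq_or_ne z 1 with h | h
            · simp [h]
            rcases eq_or_ne z (-1) with h' | h'
            · exfalso
              have := Multiset.one_le_count_iff_mem.2 (h' ▸ hz)
              omega
            · obtain ⟨k, hk, hle⟩ := hk4 z hz h' h
              have := Multiset.one_le_count_iff_mem.2 hz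
              omega
          · show R.count z ≤ ppow p 9
            have : R.count z ≤ 9 := hcard ▸ Multiset.count_le_card _ _
            omega
        -- seven ones, or minus one eight times
        have hsz : a = 7 ∨ e = 8 := by
          obtain ⟨i, hi⟩ := haodd
          obtain ⟨j, hj⟩ := heven
          omega
        have hcl : ∀ L : ℕ, ∀ N ∈ lst p q, ppow p 7 * L ∣ N → (∀ z ∈ R, z ^ L = 1) →
            (∃ N ∈ lst p q, P ∣ (X + 1) * (X ^ N - 1)) ∨ Exc P := fun L N hN hdN hL =>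
          fin (Nat.clog p 7) L N hN hdN hL (fun z hz hzm => by
            show R.count z ≤ ppow p 7
            rcases eq_or_ne z 1 with rfl | h
            · omega
            · obtain ⟨k, hk, hle⟩ := hk4 z hz hzm h
              omega) (by show e ≤ ppow p 7 + 1; omega)
        by_cases hout : ∃ z ∈ R, z ≠ 1 ∧ z ≠ -1
        · obtain ⟨z, hz, hz1, hzm⟩ := hout
          obtain ⟨d, k, hd0, hk, hdρ, hcA, hAB, hCl, hzO, hcnt, hpw, hsum, hle⟩ := first z hz hz1 hzm
          have h1 : 1 ≤ d * k := Nat.one_le_iff_ne_zero.2 (by positivity)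
          have t1 : 2 * d * 1 ≤ 2 * d * k := Nat.mul_le_mul_left _ hk
          have hae' : a + e ≤ 7 := by omega
          obtain rfl : d = 1 := by omega
          obtain rfl : k = 1 := by omega
          have hall : ∀ w ∈ R, w = 1 ∨ w ∈ orb z 1 := fun w hw => by
            by_cases hwT : w ∈ T0 ∪ orb z 1
            · rcases Finset.mem_union.1 hwT with h | h
              · refine Or.inl (((hmem0 w).1 h).resolve_right fun hn => ?_)
                have := Multiset.one_le_count_iff_mem.2 (hn ▸ hw)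
                omega
              · exact Or.inr h
            · obtain ⟨d₂, k₂, h1', h2', -, -, hle2⟩ := hother _ _ hCl hsum Finset.subset_union_left w hw hwT
              have : 2 * 1 * 1 ≤ 2 * d₂ * k₂ := Nat.mul_le_mul (by omega) h2'
              omega
          by_cases hz2 : z ^ ((q - 1) / 2) = 1 ∨ z ^ ((q + 1) / 2) = 1
          · rcases hz2 with h | h
            · exact hcl _ _ (by simp [lst]) dvd_rfl fun w hw =>
                (hall w hw).elim (fun e => by rw [e, one_pow]) (fun e => hpw w e _ h)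
            · exact hcl _ _ (by simp [lst]) dvd_rfl fun w hw =>
                (hall w hw).elim (fun e => by rw [e, one_pow]) (fun e => hpw w e _ h)
          · push Not at hz2
            exact Or.inr (single z 1 hz hz1 hzm le_rfl (by norm_num) hdρ hcA hAB hcnt hall (by omega)
              (by simpa using hz2.1) (by simpa using hz2.2))
        · push Not at hout
          have hev : Even ((q - 1) / 2) ∨ Even ((q + 1) / 2) := by
            rcases Nat.even_or_odd ((q - 1) / 2) with h | ⟨i, hi⟩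
            · exact Or.inl h
            · exact Or.inr ⟨i + 1, by have := Q.em; have := Q.ep; omega⟩
          have hpm : ∀ w ∈ R, w = 1 ∨ w = -1 := fun w hw => (eq_or_ne w 1).imp_right (hout w hw)
          rcases hev with h | h
          · exact hcl _ _ (by simp [lst]) dvd_rfl fun w hw => hpm1 w (hpm w hw) h
          · exact hcl _ _ (by simp [lst]) dvd_rfl fun w hw => hpm1 w (hpm w hw) h
    · push Not at hhalf
      obtain ⟨ρ, hρ, hρh⟩ := hhalf
      have hρ1 : ρ ≠ 1 := fun h => hρh (by rw [h, one_pow])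
      have hq22 : Even ((q ^ 2 - 1) / 2) := by
        obtain ⟨c, hc⟩ := hqodd
        refine ⟨c * c + c, ?_⟩
        have : q ^ 2 = 4 * (c * c + c) + 1 := by rw [hc]; ring
        omega
      have hρm : ρ ≠ -1 := fun h => hρh (hpm1 ρ (Or.inr h) hq22)
      obtain ⟨k, hk, hdρ, hcA, hAB, hCl, hρO, hcnt, hpw, hsum, hle⟩ := two ρ hρ hρ1 hρm
        (fun h => hρh (up h Q.m2m)) (fun h => hρh (up h Q.p2m))
      by_cases hcase : a = 5
      · obtain rfl : k = 1 := by omega
        have hall : ∀ w ∈ R, w = 1 ∨ w ∈ orb ρ 2 := fun w hw => by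
          by_cases hwT : w ∈ T0 ∪ orb ρ 2
          · rcases Finset.mem_union.1 hwT with h | h
            · refine Or.inl (((hmem0 w).1 h).resolve_right fun hn => ?_)
              have := Multiset.one_le_count_iff_mem.2 (hn ▸ hw)
              omega
            · exact Or.inr h
          · obtain ⟨d₂, k₂, h1', h2', -, -, hle2⟩ := hother _ _ hCl hsum Finset.subset_union_left w hw hwT
            have : 2 * 1 * 1 ≤ 2 * d₂ * k₂ := Nat.mul_le_mul (by omega) h2'
            omega
        refine Or.inr (single ρ 2 hρ hρ1 hρm (by norm_num) (by norm_num) hdρ hcA hAB hcnt hall (by omega) hρh ?_)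
        intro h
        refine hρh ?_
        have h1 : ρ ^ (q ^ 2 + 1) = 1 := by rw [Q.e2p, mul_comm, pow_mul, h, one_pow]
        have h2 : ρ ^ 2 = 1 := by
          have := hB ρ hρ
          rw [show q ^ 2 + 1 = (q ^ 2 - 1) + 2 by
            have : 1 ≤ q ^ 2 := Nat.one_le_pow _ _ (by omega); omega, pow_add, this, one_mul] at h1
          exact h1
        obtain ⟨i, hi⟩ := hq22
        rw [hi, ← two_mul, pow_mul, h2, one_pow]
      · exfalso
        obtain ⟨i, hi⟩ := haodd
        obtain ⟨j, hj⟩ := heven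
        have ha3 : a ≤ 3 := by omega
        refine hc3 ⟨ha3, by omega, fun z hz hz1 hzm => ?_⟩
        by_cases hzT : z ∈ T0 ∪ orb ρ 2
        · rcases Finset.mem_union.1 hzT with h | h
          · exact absurd ((hmem0 z).1 h) (by simp [hz1, hzm])
          · rw [hcnt z h]; omega
        · obtain ⟨d₂, k₂, h1', h2', hc2, -, hle2⟩ := hother _ _ hCl hsum Finset.subset_union_left z hz hzT
          have : 2 * 1 * k₂ ≤ 2 * d₂ * k₂ := Nat.mul_le_mul_right _ (by omega)
          omega
  push Not at hB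
  obtain ⟨ρ, hρ, hρn⟩ := hB
  have hρ1 : ρ ≠ 1 := fun h => hρn (by rw [h, one_pow])
  have hρp : ρ ^ (q ^ 2 + 1) = 1 := (hbig ρ hρ).resolve_left hρn
  have hρm : ρ ≠ -1 := fun h => hρn (hpm1 ρ (Or.inr h) ⟨(q ^ 2 - 1) / 2, by have := Q.e2m; omega⟩)
  obtain ⟨k, hk, hdρ, hcA, hAB, hCl, hρO, hcnt, hpw, hsum, hle⟩ := two ρ hρ hρ1 hρm
    (fun h => hρn (up h (dvd_trans Q.m2m ⟨2, by have := Q.e2m; omega⟩)))
    (fun h => hρn (up h (dvd_trans Q.p2m ⟨2, by have := Q.e2m; omega⟩)))
  by_cases hmult : e ≤ 2 ∧ ∀ w ∈ R, w ≠ -1 → R.count w ≤ 1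
  · refine fin 0 ((q ^ 4 - 1) / 2) ((q ^ 4 - 1) / 2) (by simp [lst]) (by simp) (fun w hw => ?_) hmult.2 (by rw [pow_zero]; omega)
    rcases hbig w hw with h | h
    · exact up h Q.m4m
    · exact up h Q.p4m
  by_cases hout : ∃ z ∈ R, z ∉ T0 ∪ orb ρ 2
  · obtain ⟨z, hz, hzT⟩ := hout
    have hz1 : z ≠ 1 := fun h => hzT (Finset.mem_union_left _ (by simp [hT0, h]))
    have hzm : z ≠ -1 := fun h => hzT (Finset.mem_union_left _ (by simp [hT0, h]))
    obtain ⟨d₁, k₁, hd1, hk1, hdz, -, -, hCl1, hzO1, hcnt1, hpw1, hsum1, hle1⟩ := step _ hCl z hz hz1 hzm hzT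
    rw [hsum] at hle1 hsum1
    have h11 : 1 ≤ d₁ * k₁ := Nat.one_le_iff_ne_zero.2 (by positivity)
    have t1 : 2 * 1 * 1 ≤ 2 * d₁ * k₁ := Nat.mul_le_mul (by omega) hk1
    obtain rfl : k = 1 := by omega
    have hd11 : d₁ = 1 := by
      by_contra h
      have t2 : 2 * 2 * k₁ ≤ 2 * d₁ * k₁ := Nat.mul_le_mul_right _ (by omega)
      refine hmult ⟨by omega, fun w hw hwm => ?_⟩
      have hk11 : k₁ = 1 := by omega
      have ha1' : a = 1 := by omega
      by_cases hwT : w ∈ T0 ∪ orb ρ 2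
      · rcases Finset.mem_union.1 hwT with h' | h'
        · rw [((hmem0 w).1 h').resolve_right hwm, ← ha, ha1']
        · rw [hcnt w h']
      by_cases hwT1 : w ∈ orb z d₁
      · rw [hcnt1 w hwT1, hk11]
      · obtain ⟨d₂, k₂, h1', h2', -, -, hle2⟩ := hother _ _ hCl1 hsum1
          (Finset.subset_union_left.trans Finset.subset_union_left) w hw
          (by simp only [Finset.mem_union] at hwT ⊢; exact not_or.2 ⟨hwT, hwT1⟩)
        have : 2 * 1 * 1 ≤ 2 * d₂ * k₂ := Nat.mul_le_mul (by omega) h2'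
        omega
    subst hd11
    have hexz : z ^ (q - 1) = 1 ∨ z ^ (q + 1) = 1 := by simpa using hexp z 1 hz hdz
    have hrest : ∀ w ∈ R, w ∈ T0 ∨ w ∈ orb ρ 2 ∨ w ∈ orb z 1 := fun w hw => by
      by_contra hcon
      push Not at hcon
      obtain ⟨d₂, k₂, h1', h2', hc2, -, hle2⟩ := hother _ _ hCl1 hsum1
        (Finset.subset_union_left.trans Finset.subset_union_left) w hw
        (by simp only [Finset.mem_union]; simp [hcon])
      have t3 : 2 * 1 * k₂ ≤ 2 * d₂ * k₂ := Nat.mul_le_mul_right _ (by omega)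
      have t4 : 2 * d₂ * 1 ≤ 2 * d₂ * k₂ := Nat.mul_le_mul_left _ h2'
      refine hmult ⟨by omega, fun y hy hym => ?_⟩
      have e1 : k₁ = 1 := by omega
      have e3 : a = 1 := by omega
      have e4 : d₂ = 1 := by omega
      have e5 : k₂ = 1 := by omega
      by_cases hyT : y ∈ T0 ∪ orb ρ 2 ∪ orb z 1
      · simp only [Finset.mem_union] at hyT
        rcases hyT with (h | h) | h
        · rw [((hmem0 y).1 h).resolve_right hym, ← ha, e3]
        · rw [hcnt y h]
        · rw [hcnt1 y h, e1]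
      · obtain ⟨d₃, k₃, h3d, h3', hc3, -, hle3⟩ := hother _ _ hCl1 hsum1
          (Finset.subset_union_left.trans Finset.subset_union_left) y hy hyT
        have t5 : 2 * 1 * k₃ ≤ 2 * d₃ * k₃ := Nat.mul_le_mul_right _ (by omega)
        rw [hc3]
        omega
    have hc : ∀ w ∈ R, w ≠ -1 → R.count w ≤ p ^ 1 := fun w hw hwm => by
      rw [hc1]
      rcases hrest w hw with h | h | h
      · rw [((hmem0 w).1 h).resolve_right hwm, ← ha]; omega
      · rw [hcnt w h]; omega
      · rw [hcnt1 w h]; omega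
    have he4 : e ≤ p ^ 1 + 1 := by rw [hc1]; omega
    rcases hexz with h | h
    · refine fin 1 ((q ^ 2 + 1) * ((q - 1) / 2)) (p * ((q ^ 2 + 1) * ((q - 1) / 2))) (by simp [lst]) (by rw [hc1]) (fun w hw => ?_) hc he4
      rcases hrest w hw with h' | h' | h'
      · exact hpm1 w ((hmem0 w).1 h') (evm.trans_dvd Q.a2m)
      · exact up (hpw w h' _ hρp) (dvd_mul_right _ _)
      · exact up (hpw1 w h' _ h) Q.a2m
    · refine fin 1 ((q ^ 2 + 1) * ((q + 1) / 2)) (p * ((q ^ 2 + 1) * ((q + 1) / 2))) (by simp [lst]) (by rw [hc1]) (fun w hw => ?_) hc he4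
      rcases hrest w hw with h' | h' | h'
      · exact hpm1 w ((hmem0 w).1 h') (evp.trans_dvd Q.a2p)
      · exact up (hpw w h' _ hρp) (dvd_mul_right _ _)
      · exact up (hpw1 w h' _ h) Q.a2p
  push Not at hout
  by_cases hcase : a = 5
  · obtain rfl : k = 1 := by omega
    have he0 : e = 0 := by omega
    have hall : ∀ w ∈ R, w = 1 ∨ w ∈ orb ρ 2 := fun w hw => by
      rcases Finset.mem_union.1 (hout w hw) with h | h
      · refine Or.inl (((hmem0 w).1 h).resolve_right fun hn => ?_)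
        have := Multiset.one_le_count_iff_mem.2 (hn ▸ hw)
        omega
      · exact Or.inr h
    by_cases hh : ρ ^ ((q ^ 2 + 1) / 2) = 1
    · refine fin (Nat.clog p 5) _ (ppow p 5 * ((q ^ 2 + 1) / 2)) (by simp [lst]) dvd_rfl
        (fun w hw => (hall w hw).elim (fun h => by rw [h, one_pow]) (fun h => hpw w h _ hh))
        (fun w hw _ => ?_) (by show e ≤ ppow p 5 + 1; omega)
      show R.count w ≤ ppow p 5
      rcases hall w hw with rfl | h
      · omega
      · rw [hcnt w h]; omega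
    · refine Or.inr (single ρ 2 hρ hρ1 hρm (by norm_num) (by norm_num) hdρ hcA hAB hcnt hall (by omega) ?_ hh)
      intro h
      exact hρn (up h ⟨2, by have := Q.e2m; omega⟩)
  · have hlast : a ≤ 3 ∧ e ≤ 4 ∧ k ≤ 2 := by
      obtain ⟨i, hi⟩ := haodd
      obtain ⟨j, hj⟩ := heven
      omega
    refine fin 1 ((q ^ 2 + 1) * ((q + 1) / 2)) (p * ((q ^ 2 + 1) * ((q + 1) / 2))) (by simp [lst]) (by rw [hc1]) (fun w hw => ?_)
      (fun w hw hwm => ?_) (by rw [hc1]; omega)
    · rcases Finset.mem_union.1 (hout w hw) with h' | h'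
      · exact hpm1 w ((hmem0 w).1 h') (evp.trans_dvd Q.a2p)
      · exact up (hpw w h' _ hρp) (dvd_mul_right _ _)
    · rw [hc1]
      rcases Finset.mem_union.1 (hout w hw) with h' | h'
      · rw [((hmem0 w).1 h').resolve_right hwm, ← ha]; omega
      · rw [hcnt w h']; omega

end CfsgLib.OmegaNine
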