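/-
Tori and regular unipotent isometries of orthogonal spaces in odd characteristic, with their spinor norms.
-/
import Cfsg.Agent.Lib.Spectrum.SpEightTwins.Pieces
import Cfsg.Agent.Lib.Classical.SpinorPlus
import Cfsg.Agent.Lib.Classical.SpinorTorus
import Cfsg.Agent.Lib.Classical.SpOrthPrimeCounts
import Cfsg.Agent.Lib.Spectrum.OmegaNineTwins.Poly

set_option autoImplicit false
set_option linter.style.haveILetI false
set_option maxHeartbeats 1000000

namespace CfsgLib.OmegaNine

open Module QuadraticMap CfsgLib.Classical CfsgLib.Classical.Spin CfsgLib.Classical.QuadSign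
  CfsgLib.Classical22.OrthType CfsgLib.SpFourTwins.Eight CfsgLib.Classical.SpOCount

universe u

variable {F : Type u} [Field F] [Fintype F]

section Spinor

variable {V : Type u} [AddCommGroup V] [Module F V] [FiniteDimensional F V]

/-- The spinor norm of an isometry, for every candidate homomorphism. -/
def Sn (Q : QuadraticForm F V) (g : qAut Q) (ε : ℤˣ) : Prop :=
  ∀ θ : qAut Q →* ℤˣ, (∀ (v : V) (hv : Q v ≠ 0), θ (qRefl Q hv) = sqSign (Q v)) → θ g = ε

omit [Fintype F] [FiniteDimensional F V] in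
theorem Sn.pow {Q : QuadraticForm F V} {g : qAut Q} {ε : ℤˣ} (h : Sn Q g ε) (k : ℕ) : Sn Q (g ^ k) (ε ^ k) :=
  fun θ hθ => by rw [map_pow, h θ hθ]

omit [Fintype F] [FiniteDimensional F V] in
theorem Sn.congr {W : Type u} [AddCommGroup W] [Module F W] {Q : QuadraticForm F V} {R : QuadraticForm F W}
    (e : V ≃ₗ[F] W) (he : ∀ v, R (e v) = Q v) {g : qAut Q} {ε : ℤˣ} (h : Sn Q g ε) : Sn R (qAutCongr e he g) ε :=
  fun θ hθ => h (θ.comp (qAutCongr e he).toMonoidHom) fun v hv => by
    have hv' : R (e v) ≠ 0 := by rwa [he]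
    have e1 : qAutCongr e he (qRefl Q hv) = qRefl R hv' := qAut_ext fun w => by
      show e ((qRefl Q hv).1 (e.symm w)) = _
      obtain ⟨x, rfl⟩ := e.surjective w
      rw [e.symm_apply_apply, qRefl_apply, qRefl_apply, map_sub, map_smul, he,
        show QuadraticMap.polar R (e x) (e v) = QuadraticMap.polar Q x v by
          simp only [QuadraticMap.polar, ← map_add, he]]
    show θ (qAutCongr e he (qRefl Q hv)) = _
    rw [e1, hθ, he]

omit [Fintype F] [FiniteDimensional F V] in
/-- Spinor norms multiply along orthogonal sums. -/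
theorem Sn.prod {W : Type u} [AddCommGroup W] [Module F W] {Q : QuadraticForm F V} {R : QuadraticForm F W}
    {g : qAut Q} {h : qAut R} {ε η : ℤˣ} (hg : Sn Q g ε) (hh : Sn R h η) :
    Sn (Q.prod R) (CfsgLib.Spectra.qAutProd Q R (g, h)) (ε * η) := by
  intro θ hθ
  set f := θ.comp (CfsgLib.Spectra.qAutProd Q R) with hf
  have h1 : f.comp (MonoidHom.inl (qAut Q) (qAut R)) g = ε := hg _ fun v hv => by
    have hv' : Q.prod R (v, 0) ≠ 0 := by simpa using hv
    have e1 : CfsgLib.Spectra.qAutProd Q R (qRefl Q hv, 1) = qRefl (Q.prod R) hv' := qAut_ext fun x => by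
      rw [qRefl_apply]
      refine Prod.ext ?_ ?_
      · show (qRefl Q hv).1 x.1 = _
        rw [qRefl_apply]
        simp [QuadraticMap.polar]
      · show x.2 = _
        simp
    show θ (CfsgLib.Spectra.qAutProd Q R (qRefl Q hv, 1)) = _
    rw [e1, hθ]
    simp
  have h2 : f.comp (MonoidHom.inr (qAut Q) (qAut R)) h = η := hh _ fun v hv => by
    have hv' : Q.prod R (0, v) ≠ 0 := by simpa using hv
    have e1 : CfsgLib.Spectra.qAutProd Q R (1, qRefl R hv) = qRefl (Q.prod R) hv' := qAut_ext fun x => by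
      rw [qRefl_apply]
      refine Prod.ext ?_ ?_
      · show x.1 = _
        simp
      · show (qRefl R hv).1 x.2 = _
        rw [qRefl_apply]
        simp [QuadraticMap.polar]
    show θ (CfsgLib.Spectra.qAutProd Q R (1, qRefl R hv)) = _
    rw [e1, hθ]
    simp
  show f (g, h) = _
  rw [show ((g, h) : qAut Q × qAut R) = MonoidHom.inl _ _ g * MonoidHom.inr _ _ h by simp, map_mul]
  exact congrArg₂ (· * ·) h1 h2

end Spinor

/-- An element of the commutator subgroup. -/
def El.Good (A : El F) : Prop := Even A.rk ∧ Sn A.S.form A.g 1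

/-- The power of an element. -/
@[reducible] def El.pw (A : El F) (k : ℕ) : El F := ⟨A.S, A.g ^ k⟩

omit [Fintype F] in
lemma card_ne_two [Fintype F] (h2 : (2 : F) ≠ 0) : Fintype.card F ≠ 2 := fun h => by
  have := odd_card_of_two_ne_zero h2
  rw [h] at this
  exact absurd this (by decide)

theorem El.Good.mem (h2 : (2 : F) ≠ 0) {A : El F} (h : El.Good A) : A.g ∈ commutator (qAut A.S.form) := by
  obtain ⟨θ, hθ, hiff⟩ := exists_spin A.S.form A.S.nondeg (Or.inl (card_ne_two h2))
  exact (hiff _).2 ⟨h.1, h.2 θ hθ⟩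

omit [Fintype F] in
theorem El.Good.sum [Fintype F] {A B : El F} (hA : El.Good A) (hB : El.Good B) : El.Good (A.sum B) :=
  ⟨by rw [El.rk_sum]; exact hA.1.add hB.1, by
    have h := hA.2.prod hB.2
    rwa [mul_one] at h⟩

/-- Two odd spinor norms cancel. -/
theorem good_sum_of_neg {A B : El F} (hA : Even A.rk) (hA' : Sn A.S.form A.g (-1)) (hB : Even B.rk)
    (hB' : Sn B.S.form B.g (-1)) : El.Good (A.sum B) :=
  ⟨by rw [El.rk_sum]; exact hA.add hB, by
    have h := hA'.prod hB'
    rwa [neg_mul_neg, one_mul] at h⟩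

theorem good_pw (h2 : (2 : F) ≠ 0) {A : El F} (hA : Even A.rk) {k : ℕ} (hk : Even k) : El.Good (El.pw A k) := by
  obtain ⟨D, hD, -⟩ := exists_parity_hom A.S.form A.S.nondeg
    (reflGroup_eq_top A.S.form A.S.nondeg (Or.inl (card_ne_two h2)))
  refine ⟨?_, fun θ hθ => ?_⟩
  · have h1 : D A.g = 1 := by
      rw [hD, ← ofAdd_zero, Multiplicative.ofAdd.apply_eq_iff_eq, ZMod.natCast_eq_zero_iff_even]
      exact hA
    have h3 : D (A.g ^ k) = 1 := by rw [map_pow, h1, one_pow]
    rw [hD, ← ofAdd_zero, Multiplicative.ofAdd.apply_eq_iff_eq, ZMod.natCast_eq_zero_iff_even] at h3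
    exact h3
  · show θ (A.g ^ k) = 1
    obtain ⟨j, rfl⟩ := hk
    rw [map_pow, pow_add]
    exact Int.units_mul_self _

theorem good_of_odd (h2 : (2 : F) ≠ 0) (A : El F) (h : Odd (orderOf A.g)) : El.Good A := by
  obtain ⟨D, hD, -⟩ := exists_parity_hom A.S.form A.S.nondeg
    (reflGroup_eq_top A.S.form A.S.nondeg (Or.inl (card_ne_two h2)))
  refine ⟨?_, fun θ hθ => ?_⟩
  · have h1 : D A.g = 1 := by
      have e := (map_pow D A.g (orderOf A.g)).symm
      rw [pow_orderOf_eq_one, map_one] at e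
      obtain ⟨j, hj⟩ := h
      have hsq : D A.g * D A.g = 1 :=
        (by decide : ∀ x : Multiplicative (ZMod 2), x * x = 1) _
      rwa [hj, pow_succ, pow_mul, _root_.sq, hsq, one_pow, one_mul] at e
    rw [hD, ← ofAdd_zero, Multiplicative.ofAdd.apply_eq_iff_eq, ZMod.natCast_eq_zero_iff_even] at h1
    exact h1
  · have e := (map_pow θ A.g (orderOf A.g)).symm
    rwa [pow_orderOf_eq_one, map_one, Int.units_pow_eq_pow_mod_two, Nat.odd_iff.1 h, pow_one] at e

/-! ### Tori -/

/-- The split torus has odd spinor norm. -/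
theorem exists_torus_split (h2 : (2 : F) ≠ 0) {m : ℕ} (hm : 1 ≤ m) : ∃ A : El F, A.Is m 1 ∧
    orderOf A.g = Fintype.card F ^ m - 1 ∧ Even A.rk ∧ Sn A.S.form A.g (-1) := by
  classical
  obtain ⟨p, hp⟩ := CharP.exists F
  obtain ⟨e₀, hpp, hq⟩ := FiniteField.card F p
  haveI := Fact.mk hpp
  haveI : NeZero m := ⟨by omega⟩
  let L := FiniteField.Extension F p m
  haveI : Fintype L := Fintype.ofFinite L
  have hfr : finrank F L = m := FiniteField.finrank_extension F p m
  have hL : Fintype.card L = Fintype.card F ^ m := by rw [← hfr, ← Module.card_eq_pow_finrank]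
  obtain ⟨z, hz⟩ := IsCyclic.exists_generator (α := Lˣ)
  have hord : orderOf z = Fintype.card F ^ m - 1 := by
    rw [orderOf_eq_card_of_forall_mem_zpowers hz, Nat.card_eq_fintype_card, Fintype.card_units, hL]
  let b : Basis (Fin m) F L := Module.finBasisOfFinrankEq F L hfr
  let f : Lˣ →* GL (Fin m) F := Units.map (Algebra.leftMulMatrix b).toRingHom.toMonoidHom
  have hf : Function.Injective f := Units.map_injective (Algebra.leftMulMatrix_injective b)
  obtain ⟨g, hg⟩ := exists_levi (f z)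
  refine ⟨⟨⟨Fin m ⊕ Fin m → F, qPlus m F, polarNondeg_qPlus m⟩, isoEquiv _ g⟩, ⟨by simp; omega, sg_qPlus m⟩,
    ?_, levi_even (f z) g hg, ?_⟩
  · show orderOf (isoEquiv _ g) = _
    rw [MulEquiv.orderOf_eq, ← hord, ← orderOf_injective f hf z]
    refine orderOf_eq_orderOf_iff.2 fun n => ?_
    have hpow : (((g ^ n : Cfsg.isometryGroup F ⇑(qPlus m F)) : GL (Fin m ⊕ Fin m) F) :
        Matrix (Fin m ⊕ Fin m) (Fin m ⊕ Fin m) F) =
        Matrix.fromBlocks (((f z) ^ n : GL (Fin m) F) : Matrix (Fin m) (Fin m) F) 0 0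
          (((((f z) ^ n : GL (Fin m) F) : Matrix (Fin m) (Fin m) F))⁻¹).transpose := by
      induction n with
      | zero => simp
      | succ n ih =>
        rw [pow_succ, Subgroup.coe_mul, Units.val_mul, ih, hg, Matrix.fromBlocks_multiply, pow_succ', Units.val_mul,
          Matrix.mul_inv_rev, Matrix.transpose_mul]
        simp only [mul_zero, zero_mul, add_zero, zero_add]
        rw [← Units.val_mul, ← Units.val_mul, (Commute.self_pow (f z) n).symm.eq,
          show (((f z ^ n : GL (Fin m) F) : Matrix (Fin m) (Fin m) F)⁻¹).transpose *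
            ((f z : Matrix (Fin m) (Fin m) F)⁻¹).transpose =
            ((f z : Matrix (Fin m) (Fin m) F)⁻¹).transpose *
              (((f z ^ n : GL (Fin m) F) : Matrix (Fin m) (Fin m) F)⁻¹).transpose by
            rw [← Matrix.transpose_mul, ← Matrix.transpose_mul, ← Matrix.mul_inv_rev, ← Matrix.mul_inv_rev,
              ← Units.val_mul, ← Units.val_mul, (Commute.self_pow (f z) n).eq]]
    constructor
    · intro h
      rw [h] at hpow
      refine Units.ext (Matrix.ext fun i j => ?_)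
      have := congrFun (congrFun hpow (Sum.inl i)) (Sum.inl j)
      simp only [Matrix.fromBlocks_apply₁₁] at this
      rw [← this]
      simp [Matrix.one_apply]
    · intro h
      refine Subtype.ext (Units.ext ?_)
      rw [hpow, h]
      simp
  · intro θ hθ
    rw [levi_theta (Or.inl (card_ne_two h2)) θ hθ (f z) g hg]
    refine sqSign_of_not ?_
    show ¬ IsSquare (Algebra.leftMulMatrix b (z : L)).det
    rw [← Algebra.norm_eq_matrix_det]
    rintro ⟨c, hc⟩
    have hn := FiniteField.algebraMap_norm_eq_pow_sum F L (z : L)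
    rw [hfr, Nat.card_eq_fintype_card, hc, map_mul] at hn
    have hc0 : c ≠ 0 := fun h => by
      rw [h, map_zero, mul_zero] at hn
      exact pow_ne_zero _ z.ne_zero hn.symm
    obtain ⟨r, hr⟩ : ∃ r, Fintype.card F = 2 * r + 1 := odd_card_of_two_ne_zero h2
    have h1 := congrArg (· ^ r) hn
    simp only [← _root_.sq, ← pow_mul, ← map_pow] at h1
    rw [show 2 * r = Fintype.card F - 1 by omega, FiniteField.pow_card_sub_one_eq_one c hc0, map_one] at h1
    have h3 : z ^ ((∑ i ∈ Finset.range m, Fintype.card F ^ i) * r) = 1 :=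
      Units.ext (by rw [Units.val_pow_eq_pow_val, ← h1, Units.val_one])
    have h4 := orderOf_dvd_of_pow_eq_one h3
    have h5 := geom_sum_mul_of_one_le (x := Fintype.card F) (by omega) m
    rw [hord, ← h5] at h4
    have hS : 0 < ∑ i ∈ Finset.range m, Fintype.card F ^ i :=
      Finset.sum_pos (fun i _ => pow_pos Fintype.card_pos i) ⟨0, Finset.mem_range.2 (by omega)⟩
    have h6 : Fintype.card F - 1 ≤ r := Nat.le_of_dvd (by
      rcases Nat.eq_zero_or_pos r with h | h
      · have := Fintype.one_lt_card (α := F); omega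
      · exact h) (Nat.dvd_of_mul_dvd_mul_left hS h4)
    have := Fintype.one_lt_card (α := F)
    omega

/-- The nonsplit torus is of minus type. -/
theorem sg_torus_inert (h2 : (2 : F) ≠ 0) {m : ℕ} (hm : 1 ≤ m) {L : Type u} [Field L] [Finite L] [Algebra F L]
    [FiniteDimensional F L] {R : QuadraticForm F L} (hR : PolarNondeg R) (hfr : finrank F L = 2 * m) {z : Lˣ}
    (hz : orderOf z = Fintype.card F ^ m + 1) (hzR : ∀ v, R ((z : L) * v) = R v)
    (h1 : m = 1 → ∀ v, R v = 0 → v = 0) : Sg R (-1) := by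
  classical
  obtain ⟨ε, hε, hs⟩ := sg_cases hR (by rw [hfr]; exact even_two_mul m)
  rcases hε with rfl | rfl
  swap
  · exact hs
  exfalso
  rcases Nat.eq_or_lt_of_le hm with rfl | hm2
  · obtain ⟨U, hU, hUd⟩ := (sg_one_iff hR (by rw [hfr]; exact even_two_mul 1)).1 hs
    obtain ⟨u, hu, hu0⟩ := U.exists_mem_ne_zero_of_ne_bot fun h => by rw [h, finrank_bot, hfr] at hUd; omega
    exact hu0 (h1 rfl u (hU u hu))
  set q := Fintype.card F with hq
  have hq3 : 3 ≤ q := by
    obtain ⟨c, hc⟩ := odd_card_of_two_ne_zero h2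
    have := Fintype.one_lt_card (α := F)
    omega
  obtain ⟨k, hk, hs⟩ := hs
  obtain rfl : m = k := by omega
  have h0 := hs 0
  set S : Set Lˣ := {x | R (x : L) = 0}
  have hpow : ∀ (n : ℕ) v, R (((z ^ n : Lˣ) : L) * v) = R v := by
    intro n
    induction n with
    | zero => simp
    | succ n ih => intro v; rw [pow_succ', Units.val_mul, mul_assoc, hzR, ih]
  have hstab : ∀ y ∈ Subgroup.zpowers z, ∀ s ∈ S, s * y ∈ S := by
    intro y hy s hs'
    obtain ⟨n, rfl⟩ : ∃ n : ℕ, z ^ n = y := by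
      obtain ⟨n, -, h⟩ := Finset.mem_image.1 (mem_zpowers_iff_mem_range_orderOf.1 hy)
      exact ⟨n, h⟩
    show R ((s * z ^ n : Lˣ) : L) = 0
    rw [Units.val_mul, mul_comm (s : L), hpow]
    exact hs'
  have hdvd := card_dvd_of_stable _ S hstab
  rw [Nat.card_zpowers, hz] at hdvd
  have hreps : reps R 0 = Nat.card S + 1 := by
    let e1 : Option S ≃ {v : L // R v = 0} :=
      { toFun := fun o => o.elim ⟨0, QuadraticMap.map_zero R⟩ fun x => ⟨(x.1 : L), x.2⟩
        invFun := fun v => if h : v.1 = 0 then none else some ⟨Units.mk0 v.1 h, v.2⟩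
        left_inv := fun o => by
          rcases o with _ | x
          · simp
          · simp
        right_inv := fun v => by
          by_cases h : v.1 = 0
          · simp only [dif_pos h]
            exact Subtype.ext h.symm
          · simp only [dif_neg h]
            rfl }
    rw [reps, ← Nat.card_congr e1, Finite.card_option]
  rw [hreps] at h0
  obtain ⟨Q', hQ'⟩ : ∃ Q' : ℕ, q ^ m = q * Q' := ⟨q ^ (m - 1), by rw [← pow_succ', Nat.sub_add_cancel hm]⟩
  have hS : (Nat.card S : ℤ) = ((q ^ m : ℕ) - 1) * ((Q' : ℤ) + 1) := by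
    refine mul_left_cancel₀ (show (q : ℤ) ≠ 0 by omega) ?_
    rw [dfun, if_pos rfl, ← hq] at h0
    push_cast at h0
    have hQ'' : (q : ℤ) ^ m = q * Q' := by exact_mod_cast hQ'
    rw [show (q : ℤ) ^ (2 * m) = (q : ℤ) ^ m * (q : ℤ) ^ m by rw [← pow_add, two_mul]] at h0
    push_cast
    rw [hQ''] at h0 ⊢
    linear_combination h0
  have hN : ((q ^ m + 1 : ℕ) : ℤ) ∣ 2 * ((Q' : ℤ) + 1) := by
    have h3 : ((q ^ m + 1 : ℕ) : ℤ) ∣ (Nat.card S : ℤ) := Int.natCast_dvd_natCast.2 hdvd
    rw [hS] at h3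
    have h4 := dvd_sub (dvd_mul_right ((q ^ m + 1 : ℕ) : ℤ) ((Q' : ℤ) + 1)) h3
    rw [show 2 * ((Q' : ℤ) + 1) = ((q ^ m + 1 : ℕ) : ℤ) * ((Q' : ℤ) + 1) -
      (((q ^ m : ℕ) : ℤ) - 1) * ((Q' : ℤ) + 1) by push_cast; ring]
    exact h4
  have hle := Nat.le_of_dvd (by omega) (show q ^ m + 1 ∣ 2 * (Q' + 1) by exact_mod_cast hN)
  have h3 : 3 * Q' ≤ q * Q' := Nat.mul_le_mul_right _ hq3
  have h4 : 3 ≤ Q' := by
    have : q * 3 ≤ q * Q' := by
      rw [← hQ']
      calc q * 3 ≤ q * q := Nat.mul_le_mul_left _ hq3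
        _ = q ^ 2 := (_root_.sq q).symm
        _ ≤ q ^ m := Nat.pow_le_pow_right (by omega) hm2
    exact Nat.le_of_mul_le_mul_left this (by omega)
  omega

/-- The trace of a plane rotation of full order. -/
theorem exists_rotation_scalar (h2 : (2 : F) ≠ 0) {L : Type u} [Field L] [Algebra F L] {w : L} (hw0 : w ≠ 0)
    (hwne : ∀ i, 0 < i → i < Fintype.card F + 1 → w ^ i ≠ 1) (hwq' : w ^ Fintype.card F = w⁻¹) :
    ∃ a : F, ¬ IsSquare (a * a - 4) ∧ ¬ IsSquare (2 + a) ∧ ∀ x : L, w * (w * x) = a • (w * x) - x := by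
  obtain ⟨p, hp⟩ := CharP.exists F
  obtain ⟨e₀, hpp, hqe⟩ := FiniteField.card F p
  haveI := Fact.mk hpp
  haveI : CharP L p := charP_of_injective_algebraMap (algebraMap F L).injective p
  set q := Fintype.card F with hqdef
  obtain ⟨c, hc⟩ : Odd q := odd_card_of_two_ne_zero h2
  set φ := algebraMap F L with hφ
  have hq1 : 1 < q := Fintype.one_lt_card
  have h2L : (2 : L) ≠ 0 := fun h => h2 (φ.injective (by rwa [map_ofNat, map_zero]))
  have hfix : ∀ t : F, φ t ^ q = φ t := fun t => by rw [← map_pow, FiniteField.pow_card]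
  have hfrob : ∀ x y : L, (x + y) ^ q = x ^ q + y ^ q := fun x y => by rw [hqe]; exact add_pow_char_pow x y p e₀
  obtain ⟨a, ha⟩ : w + w⁻¹ ∈ Set.range φ :=
    mem_range_of_pow_card (by rw [← hqdef, hfrob, inv_pow, hwq', inv_inv, add_comm])
  have hw2 : w * w ≠ 1 := by rw [← _root_.sq]; exact hwne 2 two_pos (by omega)
  have hwH : w ^ (c + 1) ≠ 1 := hwne (c + 1) (by omega) (by omega)
  have hna : ¬ IsSquare (a * a - 4) := by
    rintro ⟨t, ht⟩
    have ht' : φ t * φ t = (w - w⁻¹) * (w - w⁻¹) := by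
      rw [← map_mul, ← ht, map_sub, map_mul, ha, map_ofNat]
      field_simp
      ring
    have hfx : (w - w⁻¹) ^ q = w - w⁻¹ := by
      rcases mul_self_eq_mul_self_iff.1 ht'.symm with h | h <;> rw [h]
      · exact hfix t
      · rw [← map_neg]; exact hfix _
    have hsub : (w - w⁻¹) ^ q = w⁻¹ - w := by
      rw [sub_eq_add_neg, hfrob, Odd.neg_pow ⟨c, hc⟩, inv_pow, hwq', inv_inv, sub_eq_add_neg]
    rw [hsub] at hfx
    have h4 : (2 : L) * (w - w⁻¹) = 0 := by linear_combination -hfx
    refine hw2 ?_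
    nth_rewrite 2 [sub_eq_zero.1 ((mul_eq_zero.1 h4).resolve_left h2L)]
    exact mul_inv_cancel₀ hw0
  have hns : ¬ IsSquare (2 + a) := by
    rintro ⟨t, ht⟩
    have ht' : φ t * φ t = 2 + (w + w⁻¹) := by rw [← map_mul, ← ht, map_add, map_ofNat, ha]
    have ht0 : φ t ≠ 0 := fun h0 => by
      rw [h0, zero_mul] at ht'
      have h5 : (w + 1) * (w + 1) = 0 := by field_simp at ht'; linear_combination -ht'
      refine hw2 ?_
      rw [eq_neg_of_add_eq_zero_left (mul_self_eq_zero.1 h5)]
      ring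
    obtain ⟨r, hr⟩ : ∃ r, r = (1 + w) / φ t := ⟨_, rfl⟩
    have hr2 : r * r = w := by
      rw [hr, div_mul_div_comm, ht', div_eq_iff (ht' ▸ mul_ne_zero ht0 ht0)]
      field_simp
      ring
    have hrq : r ^ q = r / w := by
      rw [hr, div_pow, hfix, hfrob, one_pow, hwq']
      field_simp
      ring
    have hr1 : r ^ (q + 1) = 1 := by rw [pow_succ, hrq, div_mul_eq_mul_div, hr2, div_self hw0]
    refine hwH ?_
    rw [← hr2, ← _root_.sq, ← pow_mul, show 2 * (c + 1) = q + 1 by omega, hr1]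
  refine ⟨a, hna, hns, fun x => ?_⟩
  rw [Algebra.smul_def, ← hφ, ha]
  field_simp
  ring

/-- The nonsplit torus has odd spinor norm. -/
theorem exists_torus_inert (h2 : (2 : F) ≠ 0) {m : ℕ} (hm : 1 ≤ m) : ∃ A : El F, A.Is m (-1) ∧
    orderOf A.g = Fintype.card F ^ m + 1 ∧ Even A.rk ∧ Sn A.S.form A.g (-1) := by
  classical
  obtain ⟨p, hp⟩ := CharP.exists F
  obtain ⟨e₀, hpp, hqe⟩ := FiniteField.card F p
  haveI := Fact.mk hpp
  haveI : NeZero (2 * m) := ⟨by omega⟩
  set q := Fintype.card F with hqdef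
  obtain ⟨c, hc⟩ : Odd q := odd_card_of_two_ne_zero h2
  have hq1 : 1 < q := Fintype.one_lt_card
  let L₀ := FiniteField.Extension F p (2 * m)
  let L := ULift.{u} L₀
  haveI : FiniteDimensional F L := Module.Finite.equiv (ULift.moduleEquiv (R := F) (M := L₀)).symm
  haveI : Fintype L := Fintype.ofFinite L
  haveI : CharP L p := charP_of_injective_algebraMap (algebraMap F L).injective p
  set φ := algebraMap F L with hφ
  have h2L : (2 : L) ≠ 0 := fun h => h2 (φ.injective (by rwa [map_ofNat, map_zero]))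
  have hfr : finrank F L = 2 * m :=
    (ULift.moduleEquiv (R := F) (M := L₀)).finrank_eq.trans (FiniteField.finrank_extension F p _)
  have hL : Fintype.card L = q ^ m * q ^ m := by rw [← pow_add, ← two_mul, ← hfr, ← Module.card_eq_pow_finrank]
  have hQ3 : 3 ≤ q ^ m := le_trans (by omega) (Nat.le_self_pow (by omega) q)
  obtain ⟨u₀, hu⟩ := IsCyclic.exists_generator (α := Lˣ)
  have hu0 : orderOf u₀ = (q ^ m + 1) * (q ^ m - 1) := by
    rw [orderOf_eq_card_of_forall_mem_zpowers hu, Nat.card_eq_fintype_card, Fintype.card_units, hL]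
    have := Nat.sq_sub_sq (q ^ m) 1
    rw [one_pow, _root_.sq] at this
    exact this
  obtain ⟨z, hzdef⟩ : ∃ z : Lˣ, z = u₀ ^ (q ^ m - 1) := ⟨_, rfl⟩
  have hord : orderOf z = q ^ m + 1 := by
    rw [hzdef, orderOf_pow_of_dvd (by omega) (hu0 ▸ dvd_mul_left _ _), hu0, Nat.mul_div_cancel _ (by omega)]
  have hzne : (z : L) ≠ 1 := fun h => by
    rw [Units.val_eq_one.1 h, orderOf_one] at hord
    omega
  let σ₀ : L →ₐ[F] L := (FiniteField.frobeniusAlgHom F L) ^ m
  have hσ₀ : ∀ x, σ₀ x = x ^ q ^ m := fun x => by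
    show ((FiniteField.frobeniusAlgHom F L) ^ m) x = _
    rw [AlgHom.coe_pow, FiniteField.coe_frobeniusAlgHom, pow_iterate]
  have hσσ₀ : ∀ x, σ₀ (σ₀ x) = x := fun x => by rw [hσ₀, hσ₀, ← pow_mul, ← hL, FiniteField.pow_card]
  let σ : L ≃ₐ[F] L := AlgEquiv.ofBijective σ₀ ⟨σ₀.toRingHom.injective, fun x => ⟨σ₀ x, hσσ₀ x⟩⟩
  have hσ : ∀ x, σ x = x ^ q ^ m := hσ₀
  have hσσ : ∀ x, σ (σ x) = x := hσσ₀
  let B : LinearMap.BilinMap F L F := LinearMap.mk₂ F (fun x y => Algebra.trace F L (x * σ y))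
    (fun x y w => by rw [add_mul, map_add]) (fun t x y => by rw [smul_mul_assoc, map_smul])
    (fun x y w => by rw [map_add, mul_add, map_add]) (fun t x y => by rw [map_smul, mul_smul_comm, map_smul])
  let R : QuadraticForm F L := B.toQuadraticMap
  have hR : ∀ v, R v = Algebra.trace F L (v * σ v) := fun v => rfl
  have hnd : PolarNondeg R := by
    intro v hv
    refine (traceForm_nondegenerate F L).1 v fun w => ?_
    rw [Algebra.traceForm_apply, ← hσσ w]
    have h := hv (σ w)
    rw [LinearMap.BilinMap.polar_toQuadraticMap] at h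
    change Algebra.trace F L (v * σ (σ w)) + Algebra.trace F L (σ w * σ v) = 0 at h
    rw [← Algebra.trace_eq_of_algEquiv σ (σ w * σ v), map_mul σ, hσσ, hσσ, mul_comm w v] at h
    rw [hσσ]
    exact (mul_eq_zero.1 (show (2 : F) * Algebra.trace F L (v * w) = 0 by linear_combination h)).resolve_left h2
  have hzσ : σ (z : L) * z = 1 := by
    rw [hσ, ← pow_succ, ← Units.val_pow_eq_pow_val, ← hord, pow_orderOf_eq_one, Units.val_one]
  have hzR : ∀ v, R ((z : L) * v) = R v := fun v => by
    rw [hR, hR, map_mul σ, show (z : L) * v * (σ z * σ v) = σ z * z * (v * σ v) by ring, hzσ, one_mul]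
  let g : qAut R := ⟨(LinearEquiv.smulOfUnit z).restrictScalars F, hzR⟩
  have hg : ∀ v, g.1 v = (z : L) * v := fun v => rfl
  have hpow : ∀ (n : ℕ) v, (g ^ n).1 v = ((z ^ n : Lˣ) : L) * v := by
    intro n
    induction n with
    | zero => intro v; simp
    | succ n ih =>
      intro v
      rw [pow_succ', qAut_mul_apply, ih, hg, pow_succ', Units.val_mul, mul_assoc]
  have hsg : Sg R (-1) := by
    refine sg_torus_inert h2 hm hnd hfr hord hzR ?_
    rintro rfl v hv
    -- the norm of a plane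
    rw [hR, hσ, pow_one, ← pow_succ'] at hv
    have ht := FiniteField.algebraMap_trace_eq_sum_pow F L (v ^ (q + 1))
    rw [hv, map_zero, hfr] at ht
    simp only [Nat.mul_one, Finset.sum_range_succ, Finset.sum_range_zero, zero_add, pow_zero, pow_one,
      Nat.card_eq_fintype_card] at ht
    rw [← hqdef, ← pow_mul] at ht
    have hvq : v ^ ((q + 1) * q) = v ^ (q + 1) := by
      rw [add_mul, one_mul, pow_add, pow_add, pow_one, show q * q = Fintype.card L by rw [hL, pow_one],
        FiniteField.pow_card, mul_comm]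
    rw [hvq, ← two_mul] at ht
    exact pow_eq_zero_iff (n := q + 1) (by omega) |>.1 ((mul_eq_zero.1 ht.symm).resolve_left h2L)
  let b : L ≃ₗ[F] (Fin (2 * m) → F) := (Module.finBasisOfFinrankEq F L hfr).equivFun
  let R' : QuadraticForm F (Fin (2 * m) → F) := R.comp b.symm.toLinearMap
  have hb : ∀ v, R' (b v) = R v := fun v => by simp [R']
  have hrk : qRank R g = 2 * m := by
    unfold qRank
    rw [LinearMap.range_eq_top.2, finrank_top, hfr]
    refine LinearMap.surjective_of_injective ((injective_iff_map_eq_zero _).2 fun v hv => ?_)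
    have hv' : (z : L) * v = v := sub_eq_zero.1 hv
    exact (mul_left_eq_self₀.1 hv').resolve_left hzne
  refine ⟨⟨⟨L, R, hnd⟩, g⟩, ⟨hfr, hsg⟩, ?_, by show Even (qRank R g); rw [hrk]; exact even_two_mul m, ?_⟩
  · show orderOf g = _
    rw [← hord]
    refine orderOf_eq_orderOf_iff.2 fun n => ?_
    constructor
    · intro h
      have := hpow n 1
      rw [h] at this
      exact Units.ext (by simpa using this.symm)
    · intro h
      exact qAut_ext fun v => by rw [hpow, h]; simp
  intro θ hθ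
  rcases Nat.even_or_odd m with ⟨r, rfl⟩ | hodd
  · -- minus one, outside the commutator subgroup
    obtain ⟨a, e, hae⟩ := exists_binAniso (F := F)
    obtain ⟨l, hl⟩ : ∃ l, r + r = l + 1 := ⟨r + r - 1, by omega⟩
    obtain ⟨k, hk, hks⟩ := hsg
    obtain rfl : l + 1 = k := by omega
    obtain ⟨E, hE⟩ := exists_isometry_of_hasSign (l + 1) R (qExt l (qBin a e)) (-1) hnd
      (polarNondeg_qExt (polarNondeg_qBin hae) l) hk (by simp; omega) hks (hasSign_qExt_qBin hae l)
    obtain ⟨d, hd⟩ := (show Odd (q ^ r) from (Odd.pow ⟨c, hc⟩))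
    obtain ⟨H, hH⟩ : ∃ H, q ^ (r + r) + 1 = 2 * H := ⟨2 * (d * d + d) + 1, by rw [pow_add, hd]; ring⟩
    have hHodd : Odd H := ⟨d * d + d, by
      have h4 : q ^ (r + r) = 4 * (d * d + d) + 1 := by rw [pow_add, hd]; ring
      omega⟩
    have hzH : ((z : L)) ^ H = -1 := by
      have h' : (z : L) ^ H * (z : L) ^ H = 1 := by
        rw [← pow_add, show H + H = q ^ (r + r) + 1 by omega, ← hord, ← Units.val_pow_eq_pow_val, pow_orderOf_eq_one, Units.val_one]
      refine (mul_self_eq_one_iff.1 h').resolve_left fun h1 => ?_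
      have hlt : orderOf z ∣ H := orderOf_dvd_of_pow_eq_one (Units.ext (by simpa using h1))
      have := Nat.le_of_dvd (by omega) hlt
      omega
    have hdis : ¬ IsSquare (polarGram (qExt l (qBin a e))).det := by
      rw [isSquare_det_polarGram_qExt_qBin h2 hae, ← hl, ← hqdef, pow_add, hd]
      rw [show (2 * d + 1) * (2 * d + 1) = 4 * (d * d + d) + 1 by ring]
      omega
    obtain ⟨θ', hθ', hiff⟩ := exists_spin R hnd (Or.inl (card_ne_two h2))
    have hneg : θ (g ^ H) = -1 := by
      rcases Int.units_eq_one_or (θ (g ^ H)) with h1 | h1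
      swap
      · exact h1
      exfalso
      refine hdis ?_
      have hgE : ∀ x, (qAutCongr E hE (g ^ H)).1 x = -x := fun x => by
        show E ((g ^ H).1 (E.symm x)) = -x
        rw [hpow, Units.val_pow_eq_pow_val, hzH, neg_one_mul, map_neg, E.apply_symm_apply]
      have hrkH : Even (qRank R (g ^ H)) := by
        obtain ⟨D, hD, -⟩ := exists_parity_hom R hnd (reflGroup_eq_top R hnd (Or.inl (card_ne_two h2)))
        have h5 : D g = 1 := by
          rw [hD, hrk, ← ofAdd_zero, Multiplicative.ofAdd.apply_eq_iff_eq, ZMod.natCast_eq_zero_iff_even]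
          exact even_two_mul _
        have h6 : D (g ^ H) = 1 := by rw [map_pow, h5, one_pow]
        rw [hD, ← ofAdd_zero, Multiplicative.ofAdd.apply_eq_iff_eq, ZMod.natCast_eq_zero_iff_even] at h6
        exact h6
      -- homomorphisms agreeing on reflections agree
      have hθθ : θ' (g ^ H) = θ (g ^ H) := by
        obtain ⟨vs, hvs⟩ := exists_refl_list R hnd (Or.inl (card_ne_two h2)) (g ^ H)
        rw [hvs, map_list_prod, map_list_prod, List.map_map, List.map_map]
        congr 1
        exact List.map_congr_left fun v _ => (hθ' v.1 v.2).trans (hθ v.1 v.2).symm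
      have hmem : qAutCongr E hE (g ^ H) ∈ commutator (qAut (qExt l (qBin a e))) := by
        rw [← map_commutator_equiv (qAutCongr E hE)]
        exact Subgroup.mem_map_of_mem _ ((hiff _).2 ⟨hrkH, hθθ.trans h1⟩)
      have h7 := (neg_one_mem_commutator_iff _ h2 (polarNondeg_qExt (polarNondeg_qBin hae) l)
        (by simp; exact ⟨l + 1, by omega⟩) (by simp) (Pi.basisFun F _) hgE).1 hmem
      rw [show (Matrix.of fun i j => QuadraticMap.polar (qExt l (qBin a e)) (Pi.basisFun F _ i) (Pi.basisFun F _ j)) =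
        polarGram (qExt l (qBin a e)) from Matrix.ext fun i j => by simp [polarGram]] at h7
      exact h7
    rw [map_pow, Int.units_pow_eq_pow_mod_two, Nat.odd_iff.1 hHodd, pow_one] at hneg
    exact hneg
  · -- a plane rotation of full order
    obtain ⟨o, ho⟩ : q + 1 ∣ q ^ m + 1 := by simpa using hodd.nat_add_dvd_pow_add_pow q 1
    have ho0 : 0 < o := by
      rcases Nat.eq_zero_or_pos o with rfl | h
      · omega
      · exact h
    obtain ⟨ζ, hζdef⟩ : ∃ ζ : Lˣ, ζ = z ^ o := ⟨_, rfl⟩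
    have hζo : orderOf ζ = q + 1 := by
      rw [hζdef, orderOf_pow_of_dvd ho0.ne' (by rw [hord, ho]; exact dvd_mul_left _ _), hord, ho,
        Nat.mul_div_cancel _ ho0]
    obtain ⟨w, hw⟩ : ∃ w : L, w = (ζ : L) := ⟨_, rfl⟩
    have hw0 : w ≠ 0 := hw ▸ ζ.ne_zero
    have hwne : ∀ i, 0 < i → i < q + 1 → w ^ i ≠ 1 := fun i hi hiq h => by
      have h' : ζ ^ i = 1 := Units.ext (by rw [Units.val_pow_eq_pow_val, ← hw, h, Units.val_one])
      have := Nat.le_of_dvd hi (hζo ▸ orderOf_dvd_of_pow_eq_one h')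
      omega
    have hwq : w ^ q * w = 1 := by
      rw [← pow_succ, hw, ← Units.val_pow_eq_pow_val, ← hζo, pow_orderOf_eq_one, Units.val_one]
    have hwq' : w ^ q = w⁻¹ := eq_inv_of_mul_eq_one_left hwq
    have hfix : ∀ t : F, φ t ^ q = φ t := fun t => by rw [← map_pow, FiniteField.pow_card]
    obtain ⟨a, hna, hns, hquad⟩ := exists_rotation_scalar h2 hw0 hwne hwq'
    have hZ : ∀ x, R ((actHom R (g ^ o)) x) = R x := fun x => qAut_map _ x
    obtain ⟨j, k, hj, hk1, -, hθk⟩ := SpinTorus.exists_quadratic_part R θ hθ h2 hna (actHom R (g ^ o)) hZ (2 * m) ⊤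
      (by rw [finrank_top, hfr]) (fun _ _ => Submodule.mem_top) (fun x _ => by
        show (g ^ o).1 ((g ^ o).1 x) = a • (g ^ o).1 x - x
        rw [hpow, hpow, ← hζdef, ← hw]
        exact hquad x) (fun x _ h => hnd x fun y => h y Submodule.mem_top)
    obtain rfl : j = m := by omega
    have hgk : g ^ o = k := qAut_ext fun x => (hk1 x Submodule.mem_top).symm
    have hθo : θ g ^ o = -1 := by
      rw [← map_pow, hgk, hθk]
      refine sqSign_of_not fun hsq => hns ?_
      obtain ⟨i, rfl⟩ := hodd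
      have h0 : (2 + a) ≠ 0 := fun h0 => hns (h0 ▸ IsSquare.zero)
      rw [pow_succ, two_mul i, pow_add] at hsq
      have h4 := hsq.mul (show IsSquare (((2 + a) ^ i * (2 + a) ^ i)⁻¹) from isSquare_inv.2 ⟨_, rfl⟩)
      rwa [mul_comm _ (2 + a), mul_inv_cancel_right₀ (mul_ne_zero (pow_ne_zero _ h0) (pow_ne_zero _ h0))] at h4
    rcases Int.units_eq_one_or (θ g) with h' | h'
    · rw [h', one_pow] at hθo
      exact absurd hθo (by decide)
    · exact h'

end CfsgLib.OmegaNine
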