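/-
Regular unipotent isometries of odd-dimensional spaces.
-/
import Cfsg.Agent.Lib.Spectrum.OmegaNineTwins.Pieces

set_option autoImplicit false
set_option linter.style.haveILetI false

namespace CfsgLib.OmegaNine

open Module QuadraticMap CfsgLib.Classical CfsgLib.Classical.QuadSign CfsgLib.Classical22.OrthType
  CfsgLib.SpFourTwins.Eight

universe u

variable {F : Type u} [Field F]

/-- The vector space has odd dimension with a regular nilpotent part. -/
def IsRegular (A : El F) (k : ℕ) : Prop :=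
  finrank F A.S.carrier = 2 * k + 1 ∧ A.N ^ (2 * k + 1) = 0 ∧
    ∃ v, QuadraticMap.polar A.S.form (A.g.1 ((A.N ^ (2 * k)) v)) v ≠ 0

variable [Fintype F]

/-- One more hyperbolic pair. -/
theorem exists_regular_succ (A : El F) {k : ℕ} (hA : IsRegular A k) : ∃ B : El F, IsRegular B (k + 1) := by
  obtain ⟨hd, hN0, v, hv⟩ := hA
  set R := A.S.form
  set u := A.g
  let ξ : (F × F) × A.S.carrier →ₗ[F] (F × F) × A.S.carrier :=
    LinearMap.prod
      (LinearMap.prod (LinearMap.fst F F F ∘ₗ LinearMap.fst F (F × F) A.S.carrier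
          - (LinearMap.flip (QuadraticMap.polarBilin R) v) ∘ₗ u.1.toLinearMap ∘ₗ LinearMap.snd F (F × F) A.S.carrier
          - R v • (LinearMap.snd F F F ∘ₗ LinearMap.fst F (F × F) A.S.carrier))
        (LinearMap.snd F F F ∘ₗ LinearMap.fst F (F × F) A.S.carrier))
      (u.1.toLinearMap ∘ₗ LinearMap.snd F (F × F) A.S.carrier
        + (LinearMap.snd F F F ∘ₗ LinearMap.fst F (F × F) A.S.carrier).smulRight v)
  have hξ : ∀ x, ξ x = ((x.1.1 - QuadraticMap.polar R (u.1 x.2) v - R v * x.1.2, x.1.2), u.1 x.2 + x.1.2 • v) :=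
    fun x => rfl
  have hinj : Function.Injective ξ := (injective_iff_map_eq_zero _).2 fun x hx => by
    rw [hξ, Prod.mk_eq_zero, Prod.mk_eq_zero] at hx
    obtain ⟨⟨h1, h2⟩, h3⟩ := hx
    rw [h2, zero_smul, add_zero] at h3
    have h4 : x.2 = 0 := u.1.injective (by rw [h3, map_zero])
    rw [h2, h4, map_zero, mul_zero, sub_zero, QuadraticMap.polar_zero_left, sub_zero] at h1
    exact Prod.ext (Prod.ext h1 h2) h4
  have hQξ : ∀ x, hypSum R (ξ x) = hypSum R x := fun x => by
    rw [hypSum_apply, hypSum_apply, hξ]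
    show (x.1.1 - _ - _) * x.1.2 + R (u.1 x.2 + x.1.2 • v) = _
    rw [QuadraticMap.map_add R (u.1 x.2) (x.1.2 • v), qAut_map u, QuadraticMap.map_smul,
      QuadraticMap.polar_smul_right, smul_eq_mul, smul_eq_mul]
    ring
  haveI : Finite A.S.carrier := Module.finite_of_finite F
  let g : qAut (hypSum R) := ⟨LinearEquiv.ofBijective ξ ⟨hinj, LinearMap.surjective_of_injective hinj⟩, hQξ⟩
  let B : El F := ⟨⟨(F × F) × A.S.carrier, hypSum R, polarNondeg_hypSum A.S.nondeg⟩, g⟩
  have hN : ∀ (a b : F) (z : A.S.carrier), B.N ((a, b), z) =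
      ((-QuadraticMap.polar R (u.1 z) v - R v * b, 0), A.N z + b • v) := fun a b z => by
    show ξ ((a, b), z) - ((a, b), z) = _
    rw [hξ]
    refine Prod.ext (Prod.ext ?_ ?_) ?_
    · simp; ring
    · simp
    · show u.1 z + b • v - z = u.1 z - z + b • v
      abel
  have hNsnd : ∀ j, ∀ (a : F) (z : A.S.carrier), ∃ a', (B.N ^ j) ((a, 0), z) = ((a', 0), (A.N ^ j) z) := by
    intro j
    induction j with
    | zero => intro a z; exact ⟨a, rfl⟩
    | succ j ih =>
      intro a z
      obtain ⟨a', ha'⟩ := ih a z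
      refine ⟨_, by rw [pow_succ', Module.End.mul_apply, ha', hN, zero_smul, add_zero, pow_succ',
        Module.End.mul_apply]⟩
  refine ⟨B, ?_, ?_, ((0, 1), 0), ?_⟩
  · show finrank F ((F × F) × A.S.carrier) = _
    rw [Module.finrank_prod, Module.finrank_prod, Module.finrank_self, hd]
    ring
  · refine LinearMap.ext fun x => ?_
    obtain ⟨⟨a, b⟩, z⟩ := x
    rw [show 2 * (k + 1) + 1 = (2 * k + 1) + 1 + 1 by ring, pow_succ, Module.End.mul_apply, hN, pow_succ',
      Module.End.mul_apply]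
    obtain ⟨a', ha'⟩ := hNsnd (2 * k + 1) (-QuadraticMap.polar R (u.1 z) v - R v * b) (A.N z + b • v)
    rw [ha', hN0, LinearMap.zero_apply, hN, QuadraticMap.polar_comm, map_zero, QuadraticMap.polar_zero_right]
    simp
    rfl
  · obtain ⟨a', ha'⟩ := hNsnd (2 * k) (-R v) v
    have he : (B.N ^ (2 * (k + 1))) ((0, 1), 0) =
        ((-QuadraticMap.polar R (u.1 ((A.N ^ (2 * k)) v)) v, 0), 0) := by
      have h3 : A.N ((A.N ^ (2 * k)) v) = 0 := by
        rw [← Module.End.mul_apply, ← pow_succ', hN0]; rfl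
      rw [show 2 * (k + 1) = (2 * k + 1) + 1 by ring, pow_succ, Module.End.mul_apply, hN, pow_succ',
        Module.End.mul_apply, map_zero, one_smul, mul_one, map_zero, zero_add, QuadraticMap.polar_zero_left,
        neg_zero, zero_sub, ha', hN, h3, zero_smul, add_zero, mul_zero, sub_zero]
    rw [he]
    show QuadraticMap.polar (hypSum R) (ξ _) ((0, 1), 0) ≠ 0
    rw [hξ]
    simp [hypSum, QuadraticMap.polar]
    intro h
    refine hv ?_
    show R (u.1 ((A.N ^ (2 * k)) v) + v) - R (u.1 ((A.N ^ (2 * k)) v)) - R v = 0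
    linear_combination -h

/-- Regular unipotent isometries exist in every odd dimension. -/
theorem exists_regular (h2 : (2 : F) ≠ 0) : ∀ k, ∃ A : El F, IsRegular A k
  | 0 => by
    refine ⟨⟨⟨Unit → F, qLine F, polarNondeg_qLine h2⟩, 1⟩, by simp, ?_, fun _ => 1, ?_⟩
    · rw [Nat.mul_zero, zero_add, pow_one]
      exact sub_self _
    · simp [QuadraticMap.polar]
      intro h
      exact h2 (by linear_combination h)
  | k + 1 => by
    obtain ⟨A, hA⟩ := exists_regular h2 k
    exact exists_regular_succ A hA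

variable {p : ℕ} [Fact p.Prime] [CharP F p]

omit [Fintype F] [Fact p.Prime] [CharP F p] in
lemma El.N_eq (A : El F) : A.N = A.e - 1 := rfl

/-- Unipotent elements of the commutator subgroup, of largest order. -/
theorem exists_unipotent (hp2 : p ≠ 2) (k : ℕ) : ∃ A : El F, finrank F A.S.carrier = 2 * k + 1 ∧
    orderOf A.g = ppow p (2 * k + 1) ∧ El.Good A ∧
    (ppow p (2 * k + 1) = 2 * k + 1 → ∃ v, (∑ i ∈ Finset.range (2 * k + 1), A.e ^ i) v ≠ 0) := by
  have hpp : p.Prime := Fact.out
  have h2 : (2 : F) ≠ 0 := fun h => hp2 ((Nat.prime_dvd_prime_iff_eq hpp Nat.prime_two).1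
    ((CharP.cast_eq_zero_iff F p 2).1 (by exact_mod_cast h)))
  obtain ⟨A, hd, hN0, v, hv⟩ := exists_regular (F := F) h2 k
  have hne : (A.N ^ (2 * k)) v ≠ 0 := fun h => hv (by rw [h, map_zero, QuadraticMap.polar_zero_left])
  haveI : Nontrivial A.S.carrier := Module.nontrivial_of_finrank_pos (R := F) (by omega)
  haveI : CharP (Module.End F A.S.carrier) p :=
    charP_of_injective_algebraMap (FaithfulSMul.algebraMap_injective F (Module.End F A.S.carrier)) p
  have hfrob : ∀ j, A.N ^ p ^ j = A.e ^ p ^ j - 1 := fun j => by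
    rw [El.N_eq, sub_pow_char_pow_of_commute (p := p) _ (Commute.one_right A.e), one_pow]
  have hlow : ∀ j, j ≤ 2 * k → A.N ^ j ≠ 0 := fun j hj h => hne (by rw [pow_eq_zero_of_le hj h]; rfl)
  set c := Nat.clog p (2 * k + 1) with hc
  have hone : A.g ^ p ^ c = 1 := by
    rw [A.pow_eq_one_iff, ← sub_eq_zero, ← hfrob]
    exact pow_eq_zero_of_le (Nat.le_pow_clog hpp.one_lt _) hN0
  have hord : orderOf A.g = p ^ c := by
    rcases Nat.eq_zero_or_pos c with h0 | hpos
    · rw [h0, pow_zero] at hone ⊢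
      rw [pow_one] at hone
      rw [hone, orderOf_one]
    · obtain ⟨c', hc'⟩ : ∃ c', c = c' + 1 := ⟨c - 1, by omega⟩
      rw [hc'] at hone ⊢
      refine orderOf_eq_prime_pow (fun h => ?_) hone
      have hlt : p ^ c' < 2 * k + 1 := by
        have := Nat.pow_pred_clog_lt_self hpp.one_lt (x := 2 * k + 1) (by
          rcases Nat.eq_zero_or_pos k with rfl | hk
          · simp [hc] at hpos
          · omega)
        rwa [← hc, hc', Nat.pred_succ] at this
      rw [A.pow_eq_one_iff, ← sub_eq_zero, ← hfrob] at h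
      exact hlow _ (by omega) h
  refine ⟨A, hd, hord, good_of_odd h2 A (hord ▸ (hpp.odd_of_ne_two hp2).pow), fun heq => ⟨v, fun h => hne ?_⟩⟩
  have hpow : p ^ c = 2 * k + 1 := heq
  have hs : ∑ i ∈ Finset.range (2 * k + 1), A.e ^ i = A.N ^ (2 * k) := by
    have hpoly : (∑ i ∈ Finset.range (p ^ c), (Polynomial.X : Polynomial F) ^ i) =
        (Polynomial.X - 1) ^ (p ^ c - 1) := by
      refine mul_right_cancel₀ (Polynomial.X_sub_C_ne_zero (1 : F)) ?_
      rw [Polynomial.C_1, geom_sum_mul, ← pow_succ, Nat.sub_add_cancel (Nat.one_le_pow _ _ hpp.pos),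
        sub_pow_char_pow, one_pow]
    have h2' := congrArg (Polynomial.aeval A.e) hpoly
    simp only [map_sum, map_pow, Polynomial.aeval_X, map_sub, map_one, hpow, Nat.add_sub_cancel] at h2'
    exact h2'
  rw [← hs, h]

end CfsgLib.OmegaNine
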