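/-
Elements of every listed order in `Ω(9, q)` and in the extension of the natural module of `Ω⁻(8, q)`.
-/
import Cfsg.Agent.Lib.Spectrum.OmegaNineTwins.Unipotent
import Cfsg.Agent.Lib.Spectrum.SpEightTwins.Realise

set_option autoImplicit false
set_option linter.style.haveILetI false
set_option maxHeartbeats 1000000

namespace CfsgLib.OmegaNine

open Module QuadraticMap CfsgLib.Classical CfsgLib.Classical.QuadSign CfsgLib.Classical22.OrthType
  CfsgLib.SpFourTwins.Eight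

universe u

/-- A product with half of one factor divides the least common multiple. -/
lemma mul_half_dvd_lcm {a b : ℕ} (hb : b = 2 * (b / 2)) (h : Nat.gcd a b ∣ 2) : a * (b / 2) ∣ a.lcm b := by
  refine Nat.dvd_of_mul_dvd_mul_left (by norm_num : 0 < 2) ?_
  rw [Nat.mul_left_comm, ← hb, ← Nat.gcd_mul_lcm a b]
  exact Nat.mul_dvd_mul_right h _

variable {F : Type u} [Field F] [Fintype F] {p : ℕ} [Fact p.Prime] [CharP F p]

omit [Fintype F] [Fact p.Prime] [CharP F p] in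
lemma El.e_pow_sum (A B : El F) (x : A.S.carrier) (y : B.S.carrier) (i : ℕ) :
    ((A.sum B).e ^ i) (x, y) = ((A.e ^ i) x, (B.e ^ i) y) := by
  induction i with
  | zero => rfl
  | succ i ih => rw [pow_succ', Module.End.mul_apply, ih, pow_succ', pow_succ']; rfl

omit [Fintype F] [Fact p.Prime] [CharP F p] in
lemma El.orderOf_pw_two (A : El F) {o : ℕ} (h : orderOf A.g = 2 * o) : orderOf (El.pw A 2).g = o := by
  show orderOf (A.g ^ 2) = o
  rw [orderOf_pow_of_dvd two_ne_zero (h ▸ dvd_mul_right 2 o), h, Nat.mul_div_cancel_left _ two_pos]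

omit [Fact p.Prime] [CharP F p] in
lemma good_triv (h2 : (2 : F) ≠ 0) (S : Space F) : El.Good (El.triv S) :=
  good_of_odd h2 _ (by rw [show (El.triv S).g = 1 from rfl, orderOf_one]; exact odd_one)

/-- A witness for a listed order. -/
def Wit (F : Type u) [Field F] [Fintype F] (p N : ℕ) : Prop :=
  (∃ A : El F, A.Is 4 (-1) ∧ El.Good A ∧ N ∣ orderOf A.g) ∨
    ∃ (T : El F) (m : ℕ) (ε : ℤ), 1 ≤ m ∧ m ≤ 4 ∧ (ε = 1 ∨ ε = -1) ∧ T.Is (4 - m) ε ∧ El.Good T ∧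
      (orderOf T.g).Coprime p ∧ N ∣ ppow p (2 * m + 1) * orderOf T.g

theorem exists_wit (hp2 : p ≠ 2) {N : ℕ} (hN : N ∈ lst p (Fintype.card F)) : Wit F p N := by
  classical
  have hpp : p.Prime := Fact.out
  have h2 : (2 : F) ≠ 0 := fun h => hp2 ((Nat.prime_dvd_prime_iff_eq hpp Nat.prime_two).1
    ((CharP.cast_eq_zero_iff F p 2).1 (by exact_mod_cast h)))
  obtain ⟨e₀, -, hqe⟩ := FiniteField.card F p
  have hodd := odd_card_of_two_ne_zero h2
  set q := Fintype.card F with hq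
  have hq3 : 3 ≤ q := by
    obtain ⟨c, hc⟩ := hodd
    have := Fintype.one_lt_card (α := F)
    omega
  have Q := qFacts hodd hq3
  have hpow1 : ∀ n, 1 ≤ q ^ n := fun n => Nat.one_le_pow _ _ (by omega)
  have hdq : ∀ n, 1 ≤ n → p ∣ q ^ n := fun n hn =>
    (hqe ▸ dvd_pow_self p e₀.pos.ne' : p ∣ q).trans (dvd_pow_self q (by omega))
  have copm : ∀ n, 1 ≤ n → (q ^ n - 1).Coprime p := fun n hn => by
    refine (hpp.coprime_iff_not_dvd.2 fun h => hpp.not_dvd_one ?_).symm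
    have h1 := Nat.dvd_sub (hdq n hn) h
    rwa [show q ^ n - (q ^ n - 1) = 1 by have := hpow1 n; omega] at h1
  have copp : ∀ n, 1 ≤ n → (q ^ n + 1).Coprime p := fun n hn => by
    refine (hpp.coprime_iff_not_dvd.2 fun h => hpp.not_dvd_one ?_).symm
    have h1 := Nat.dvd_sub h (hdq n hn)
    rwa [show q ^ n + 1 - q ^ n = 1 by omega] at h1
  have gcd2 : ∀ {a b x y : ℕ}, a ∣ x → b ∣ y → x + 2 = y → Nat.gcd a b ∣ 2 := fun {a b x y} hx hy hxy => by
    have h1 := Nat.dvd_sub ((Nat.gcd_dvd_right a b).trans hy) ((Nat.gcd_dvd_left a b).trans hx)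
    rwa [show y - x = 2 by omega] at h1
  have cop_lcm : ∀ {a b : ℕ}, a.Coprime p → b.Coprime p → (a.lcm b).Coprime p := fun ha hb =>
    (ha.mul_left hb).coprime_dvd_left (Nat.lcm_dvd (dvd_mul_right _ _) (dvd_mul_left _ _))
  have hc3 : p ∣ ppow p 3 := dvd_pow_self p (Nat.clog_pos hpp.one_lt (by norm_num)).ne'
  obtain ⟨P1, hP1, oP1, rP1, sP1⟩ := exists_torus_split (F := F) h2 (m := 1) le_rfl
  obtain ⟨P2, hP2, oP2, rP2, sP2⟩ := exists_torus_split (F := F) h2 (m := 2) (by norm_num)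
  obtain ⟨P3, hP3, oP3, rP3, sP3⟩ := exists_torus_split (F := F) h2 (m := 3) (by norm_num)
  obtain ⟨M1, hM1, oM1, rM1, sM1⟩ := exists_torus_inert (F := F) h2 (m := 1) le_rfl
  obtain ⟨M2, hM2, oM2, rM2, sM2⟩ := exists_torus_inert (F := F) h2 (m := 2) (by norm_num)
  obtain ⟨M3, hM3, oM3, rM3, sM3⟩ := exists_torus_inert (F := F) h2 (m := 3) (by norm_num)
  obtain ⟨M4, hM4, oM4, rM4, -⟩ := exists_torus_inert (F := F) h2 (m := 4) (by norm_num)
  rw [pow_one, ← hq] at oP1 oM1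
  rw [← hq] at oP2 oP3 oM2 oM3 oM4
  -- a square of a torus generator
  have sq' : ∀ (A : El F) (k : ℕ) (ε : ℤ) (o : ℕ), A.Is k ε → Even A.rk → orderOf A.g = 2 * o → o.Coprime p →
      ∃ T : El F, T.Is k ε ∧ El.Good T ∧ (orderOf T.g).Coprime p ∧ orderOf T.g = o := fun A k ε o hA hr ho hc =>
    ⟨El.pw A 2, hA, good_pw h2 hr even_two, by rw [El.orderOf_pw_two A ho]; exact hc, El.orderOf_pw_two A ho⟩
  have one_m : (q - 1).Coprime p := by simpa using copm 1 le_rfl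
  have one_p : (q + 1).Coprime p := by simpa using copp 1 le_rfl
  simp only [lst, List.mem_cons, List.not_mem_nil, or_false] at hN
  rcases hN with rfl | rfl | rfl | rfl | rfl | rfl | rfl | rfl | rfl | rfl | rfl | rfl | rfl | rfl
  · refine Or.inr ⟨El.triv ⟨Fin 0 ⊕ Fin 0 → F, qPlus 0 F, polarNondeg_qPlus 0⟩, 4, 1, by norm_num, le_rfl,
      Or.inl rfl, ⟨by simp, sg_qPlus 0⟩, good_triv h2 _, by simp, ?_⟩
    exact dvd_mul_right _ _
  · obtain ⟨T, hT, hg, hc, ho⟩ := sq' P1 _ _ _ hP1 rP1 (oP1.trans Q.em)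
      (one_m.coprime_dvd_left (Dvd.intro_left _ Q.em.symm))
    exact Or.inr ⟨T, 3, 1, by norm_num, by norm_num, Or.inl rfl, hT, hg, hc, by rw [ho]⟩
  · obtain ⟨T, hT, hg, hc, ho⟩ := sq' M1 _ _ _ hM1 rM1 (oM1.trans Q.ep)
      (one_p.coprime_dvd_left (Dvd.intro_left _ Q.ep.symm))
    exact Or.inr ⟨T, 3, -1, by norm_num, by norm_num, Or.inr rfl, hT, hg, hc, by rw [ho]⟩
  · obtain ⟨T, hT, hg, hc, ho⟩ := sq' P2 _ _ _ hP2 rP2 (oP2.trans Q.e2m)
      ((copm 2 (by norm_num)).coprime_dvd_left (Dvd.intro_left _ Q.e2m.symm))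
    exact Or.inr ⟨T, 2, 1, by norm_num, by norm_num, Or.inl rfl, hT, hg, hc, by rw [ho]⟩
  · obtain ⟨T, hT, hg, hc, ho⟩ := sq' M2 _ _ _ hM2 rM2 (oM2.trans Q.e2p)
      ((copp 2 (by norm_num)).coprime_dvd_left (Dvd.intro_left _ Q.e2p.symm))
    exact Or.inr ⟨T, 2, -1, by norm_num, by norm_num, Or.inr rfl, hT, hg, hc, by rw [ho]⟩
  · obtain ⟨T, hT, hg, hc, ho⟩ := sq' P3 _ _ _ hP3 rP3 (oP3.trans Q.e3m)
      ((copm 3 (by norm_num)).coprime_dvd_left (Dvd.intro_left _ Q.e3m.symm))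
    exact Or.inr ⟨T, 1, 1, le_rfl, by norm_num, Or.inl rfl, hT, hg, hc, by rw [ho]; exact Nat.mul_dvd_mul_right hc3 _⟩
  · obtain ⟨T, hT, hg, hc, ho⟩ := sq' M3 _ _ _ hM3 rM3 (oM3.trans Q.e3p)
      ((copp 3 (by norm_num)).coprime_dvd_left (Dvd.intro_left _ Q.e3p.symm))
    exact Or.inr ⟨T, 1, -1, le_rfl, by norm_num, Or.inr rfl, hT, hg, hc, by rw [ho]; exact Nat.mul_dvd_mul_right hc3 _⟩
  · refine Or.inr ⟨P2.sum P1, 1, 1, le_rfl, by norm_num, Or.inl rfl, by simpa using hP2.sum hP1,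
      good_sum_of_neg rP2 sP2 rP1 sP1, ?_, ?_⟩
    · rw [El.orderOf_sum, oP2, oP1]
      exact cop_lcm (copm 2 (by norm_num)) one_m
    · rw [El.orderOf_sum, oP2, oP1]
      exact Nat.mul_dvd_mul hc3 (Nat.dvd_lcm_left _ _)
  · refine Or.inr ⟨M2.sum P1, 1, -1, le_rfl, by norm_num, Or.inr rfl, by simpa using hM2.sum hP1,
      good_sum_of_neg rM2 sM2 rP1 sP1, ?_, ?_⟩
    · rw [El.orderOf_sum, oM2, oP1]
      exact cop_lcm (copp 2 (by norm_num)) one_m
    · rw [El.orderOf_sum, oM2, oP1]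
      refine Nat.mul_dvd_mul hc3 (mul_half_dvd_lcm Q.em ?_)
      rw [Nat.gcd_comm]
      exact gcd2 (Nat.sub_one_dvd_pow_sub_one q 2) dvd_rfl (by have := hpow1 2; omega)
  · refine Or.inr ⟨M2.sum M1, 1, 1, le_rfl, by norm_num, Or.inl rfl, by simpa using hM2.sum hM1,
      good_sum_of_neg rM2 sM2 rM1 sM1, ?_, ?_⟩
    · rw [El.orderOf_sum, oM2, oM1]
      exact cop_lcm (copp 2 (by norm_num)) one_p
    · rw [El.orderOf_sum, oM2, oM1]
      refine Nat.mul_dvd_mul hc3 (mul_half_dvd_lcm Q.ep ?_)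
      rw [Nat.gcd_comm]
      exact gcd2 (Q.p2m.trans (Dvd.intro_left _ Q.e2m.symm)) dvd_rfl (by have := hpow1 2; omega)
  · refine Or.inl ⟨P2.sum M2, by simpa using hP2.sum hM2, good_sum_of_neg rP2 sP2 rM2 sM2, ?_⟩
    rw [El.orderOf_sum, oP2, oM2]
    have e : (q ^ 4 - 1) / 2 = (q ^ 2 - 1) * ((q ^ 2 + 1) / 2) := by
      have f4 : q ^ 4 - 1 = (q ^ 2 - 1) * (q ^ 2 + 1) := by
        rw [mul_comm, ← Nat.sq_sub_sq, one_pow, ← pow_mul]
      rw [f4]
      nth_rewrite 1 [Q.e2p]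
      rw [Nat.mul_left_comm, Nat.mul_div_cancel_left _ two_pos]
    rw [e]
    exact mul_half_dvd_lcm Q.e2p (gcd2 dvd_rfl dvd_rfl (by have := hpow1 2; omega))
  · exact Or.inl ⟨El.pw M4 2, hM4, good_pw h2 rM4 even_two, by rw [El.orderOf_pw_two M4 (oM4.trans Q.e4p)]⟩
  · refine Or.inl ⟨M3.sum P1, by simpa using hM3.sum hP1, good_sum_of_neg rM3 sM3 rP1 sP1, ?_⟩
    rw [El.orderOf_sum, oM3, oP1]
    refine mul_half_dvd_lcm Q.em ?_
    rw [Nat.gcd_comm]
    exact gcd2 Q.m3m dvd_rfl (by have := hpow1 3; omega)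
  · refine Or.inl ⟨P3.sum M1, by simpa using hP3.sum hM1, good_sum_of_neg rP3 sP3 rM1 sM1, ?_⟩
    rw [El.orderOf_sum, oP3, oM1]
    exact mul_half_dvd_lcm Q.ep (gcd2 dvd_rfl Q.p3p (by have := hpow1 3; omega))

/-- Elements in dimension nine. -/
theorem exists_nine (hp2 : p ≠ 2) {N : ℕ} (hN : N ∈ lst p (Fintype.card F)) :
    ∃ B : El F, finrank F B.S.carrier = 9 ∧ El.Good B ∧ N ∣ orderOf B.g := by
  have h2 : (2 : F) ≠ 0 := fun h => hp2 ((Nat.prime_dvd_prime_iff_eq (Fact.out : p.Prime) Nat.prime_two).1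
    ((CharP.cast_eq_zero_iff F p 2).1 (by exact_mod_cast h)))
  rcases exists_wit hp2 hN with ⟨A, hA, hg, hd⟩ | ⟨T, m, ε, hm1, hm4, -, hT, hg, hc, hd⟩
  · refine ⟨A.sum (El.triv ⟨Unit → F, qLine F, polarNondeg_qLine h2⟩), ?_, hg.sum (good_triv h2 _), ?_⟩
    · show finrank F (A.S.carrier × (Unit → F)) = 9
      rw [Module.finrank_prod, hA.1]
      simp
    · rw [El.orderOf_sum]
      exact hd.trans (Nat.dvd_lcm_left _ _)
  · obtain ⟨U, hUd, hUo, hUg, -⟩ := exists_unipotent (F := F) hp2 m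
    refine ⟨T.sum U, ?_, hg.sum hUg, ?_⟩
    · show finrank F (T.S.carrier × U.S.carrier) = 9
      rw [Module.finrank_prod, hT.1, hUd]
      omega
    · rw [El.orderOf_sum, hUo]
      refine hd.trans ?_
      rw [Nat.Coprime.lcm_eq_mul (by rw [ppow]; exact hc.pow_right _), mul_comm]

/-- Elements in dimension eight, some with a translation. -/
theorem exists_eight (hp2 : p ≠ 2) {N : ℕ} (hN : N ∈ lst p (Fintype.card F)) :
    ∃ B : El F, B.Is 4 (-1) ∧ El.Good B ∧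
      (N ∣ orderOf B.g ∨ (∃ v, (∑ i ∈ Finset.range (orderOf B.g), B.e ^ i) v ≠ 0) ∧ N ∣ p * orderOf B.g) := by
  classical
  have hpp : p.Prime := Fact.out
  have h2 : (2 : F) ≠ 0 := fun h => hp2 ((Nat.prime_dvd_prime_iff_eq hpp Nat.prime_two).1
    ((CharP.cast_eq_zero_iff F p 2).1 (by exact_mod_cast h)))
  rcases exists_wit hp2 hN with ⟨A, hA, hg, hd⟩ | ⟨T, m, ε, hm1, hm4, hε, hT, hg, hc, hd⟩
  · exact ⟨A, hA, hg, Or.inl hd⟩
  obtain ⟨m', rfl⟩ : ∃ m', m = m' + 1 := ⟨m - 1, by omega⟩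
  obtain ⟨U, hUd, hUo, hUg, hUn⟩ := exists_unipotent (F := F) hp2 m'
  obtain ⟨c, hc0, hsg⟩ := exists_odd_pair h2 (Q := U.S.form) (R := qLine F) U.S.nondeg (polarNondeg_qLine h2)
    (by rw [hUd]; exact odd_two_mul_add_one m') (by simp) (ε := -ε) (by rcases hε with rfl | rfl <;> norm_num)
  let L : El F := El.triv ⟨Unit → F, c • qLine F, polarNondeg_smul (polarNondeg_qLine h2) hc0⟩
  have hW : (U.sum L).Is (m' + 1) (-ε) := ⟨by
    show finrank F (U.S.carrier × (Unit → F)) = _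
    rw [Module.finrank_prod, hUd]
    simp
    omega, hsg⟩
  have hL1 : orderOf L.g = 1 := orderOf_one
  have hWo : orderOf (U.sum L).g = ppow p (2 * m' + 1) := by
    rw [El.orderOf_sum, hUo, hL1, Nat.lcm_one_right]
  have hcop : ∀ k, (orderOf T.g).Coprime (ppow p k) := fun k => by rw [ppow]; exact hc.pow_right _
  have hBo : orderOf (T.sum (U.sum L)).g = orderOf T.g * ppow p (2 * m' + 1) := by
    rw [El.orderOf_sum T, hWo, (hcop _).lcm_eq_mul]
  refine ⟨T.sum (U.sum L), ?_, hg.sum (hUg.sum (good_triv h2 _)), ?_⟩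
  · have h := hT.sum hW
    rw [show 4 - (m' + 1) + (m' + 1) = 4 by omega, show ε * -ε = -1 by rcases hε with rfl | rfl <;> norm_num] at h
    exact h
  rw [hBo]
  rcases Nat.lt_or_ge (Nat.clog p (2 * m' + 1)) (Nat.clog p (2 * (m' + 1) + 1)) with hlt | hge
  swap
  · exact Or.inl (hd.trans (by rw [mul_comm (orderOf T.g)]; exact Nat.mul_dvd_mul_right (pow_dvd_pow p hge) _))
  have hlt' := (Nat.lt_clog_iff_pow_lt hpp.one_lt).1 hlt
  have hle := Nat.le_pow_clog hpp.one_lt (2 * m' + 1)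
  have heq : ppow p (2 * m' + 1) = 2 * m' + 1 := by
    obtain ⟨d, hd'⟩ : Odd (p ^ Nat.clog p (2 * m' + 1)) := (hpp.odd_of_ne_two hp2).pow
    rw [ppow]
    omega
  have hc2 : Nat.clog p (2 * (m' + 1) + 1) ≤ Nat.clog p (2 * m' + 1) + 1 := by
    refine Nat.clog_le_of_le_pow ?_
    rw [pow_succ, show p ^ Nat.clog p (2 * m' + 1) = 2 * m' + 1 from heq]
    have h3 : 3 ≤ p := by have := hpp.two_le; omega
    have := Nat.mul_le_mul_left (2 * m' + 1) h3
    omega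
  refine Or.inr ⟨?_, hd.trans ?_⟩
  · obtain ⟨v, hv⟩ := hUn heq
    refine ⟨(0, (v, 0)), fun h => hv ?_⟩
    rw [LinearMap.sum_apply] at h
    have h1 := congrArg (fun x : T.S.carrier × U.S.carrier × (Unit → F) => x.2.1) h
    simp only [Prod.snd_sum, Prod.fst_sum, Prod.snd_zero, Prod.fst_zero] at h1
    have hpow : ∀ i, (((T.sum (U.sum L)).e ^ i) (0, (v, 0))).2.1 = (U.e ^ i) v := fun i =>
      (congrArg (fun x : T.S.carrier × U.S.carrier × (Unit → F) => x.2.1) (El.e_pow_sum T (U.sum L) 0 (v, 0) i)).trans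
        (congrArg Prod.fst (El.e_pow_sum U L v 0 i))
    rw [Finset.sum_congr rfl fun i _ => hpow i] at h1
    rw [← LinearMap.sum_apply, mul_comm, sum_range_mul U.e ((U.pow_eq_one_iff _).1 (by rw [← hUo, pow_orderOf_eq_one])),
      LinearMap.smul_apply, ← Nat.cast_smul_eq_nsmul F, smul_eq_zero, heq] at h1
    refine h1.resolve_left fun h0 => ?_
    exact (hpp.coprime_iff_not_dvd.1 hc.symm) ((CharP.cast_eq_zero_iff F p _).1 h0)
  · rw [mul_comm (ppow p _), ← mul_assoc, mul_comm p, mul_assoc]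
    refine Nat.mul_dvd_mul_left _ ?_
    rw [ppow, ppow, ← pow_succ']
    exact pow_dvd_pow p hc2

end CfsgLib.OmegaNine
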