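/-
The spinor norm of an isometry with a single full orbit besides one.
-/
import Cfsg.Agent.Lib.Spectrum.OmegaNineTwins.Poly
import Cfsg.Agent.Lib.Spectrum.OmegaNineTwins.Levi
import Cfsg.Agent.Lib.Classical.SpinorPlus
import Cfsg.Agent.Lib.Classical.SpectrumBC
import Cfsg.Agent.Lib.KnownSimple.Spectra.OddConstruct

set_option autoImplicit false
set_option linter.style.haveILetI false
set_option maxHeartbeats 1000000

namespace CfsgLib.OmegaNine

open Polynomial QuadraticMap CfsgLib.Classical CfsgLib.Classical.Spin CfsgLib.Classical.SpOCount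

universe u

variable {F : Type u} [Field F] [Fintype F] {V : Type u} [AddCommGroup V] [Module F V] [FiniteDimensional F V]
  (Q : QuadraticForm F V) (θ : qAut Q →* ℤˣ) (hθ : ∀ (x : V) (hx : Q x ≠ 0), θ (qRefl Q hx) = sqSign (Q x))
include hθ

/-- An isometry with an exceptional characteristic polynomial has nontrivial spinor norm. -/
theorem theta_of_exc (h2 : (2 : F) ≠ 0) (hQ : PolarNondeg Q) (g : qAut Q) {P : F[X]} (hm : P.Monic)
    (hd9 : P.natDegree = 9) (hE : Exc P) (hTP : (actHom Q g).charpoly ∣ P)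
    (hPT : P ∣ (X - 1) * (actHom Q g).charpoly) : θ g = -1 := by
  classical
  obtain ⟨p, hp⟩ := CharP.exists F
  obtain ⟨e₀, hpp, hq⟩ := FiniteField.card F p
  haveI := Fact.mk hpp
  obtain ⟨d, h, hd1, -, hhm, hirr, hmult, hhn, hh1, hcase⟩ := hE
  have hqodd : Odd (Fintype.card F) := odd_card_of_two_ne_zero h2
  have hq3 : 3 ≤ Fintype.card F := by
    obtain ⟨c, hc⟩ := hqodd
    have := Fintype.one_lt_card (α := F)
    omega
  obtain ⟨n, hn⟩ : ∃ n, n = Fintype.card F ^ (2 * d) := ⟨_, rfl⟩
  rw [← hn] at hhn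
  have hn9 : 9 ≤ n := by
    rw [hn, pow_mul]
    exact le_trans (Nat.mul_le_mul hq3 hq3 |>.trans (by rw [_root_.sq])) (Nat.le_self_pow (by omega) _)
  have hnodd : Odd n := hn ▸ hqodd.pow
  obtain ⟨T, hT⟩ : ∃ T, T = actHom Q g := ⟨_, rfl⟩
  rw [← hT] at hTP hPT
  have hX1 : Irreducible (X - 1 : F[X]) := by simpa using irreducible_X_sub_C (1 : F)
  have hh0 : h.coeff 0 ≠ 0 := fun h0 => by
    have hXh : Associated (X : F[X]) h := irreducible_X.associated_of_dvd hirr (X_dvd_iff.2 h0)
    obtain rfl : X = h := eq_of_monic_of_associated monic_X hhm hXh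
    rcases hcase with ⟨-, -, hns, -⟩ | ⟨hdeg, -, -⟩
    · exact hns ⟨0, by simp⟩
    · rw [natDegree_X] at hdeg; omega
  -- the product of the orbit polynomials
  obtain ⟨K, hK⟩ : ∃ K : F[X], K.natDegree = 2 * d ∧ P ∣ (X - 1) ^ 9 * K ∧ K.eval 1 ≠ 0 ∧ K ∣ X ^ n - X ∧
      ((h.natDegree = d ∧ IsCoprime h h.reverse ∧ ¬ IsSquare ((-1) ^ d * h.coeff 0) ∧ K = h * h.reverse) ∨
      (h.natDegree = 2 * d ∧ K = h)) := by
    rcases hcase with ⟨hdeg, hco, hns, hPK⟩ | ⟨hdeg, hPK, -⟩
    · have hrev : h.reverse ∣ X ^ n - X := by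
        obtain ⟨r, hr⟩ := hhn
        have hX : IsCoprime h X := hirr.coprime_iff_not_dvd.2 fun hd' => hh0 (by
          obtain ⟨t, ht⟩ := hd'
          have := congrArg natDegree ht
          rw [natDegree_X, natDegree_mul hirr.ne_zero (fun h0 => X_ne_zero (by rw [ht, h0, mul_zero])), hdeg] at this
          obtain rfl : d = 1 := by omega
          have ht0 : t.natDegree = 0 := by omega
          rw [natDegree_eq_zero] at ht0
          obtain ⟨c, rfl⟩ := ht0
          have := congrArg (fun q : F[X] => q.coeff 0) ht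
          simp only [coeff_X_zero, mul_coeff_zero, coeff_C_zero] at this
          exact (mul_eq_zero.1 this.symm).resolve_right fun hc0 => X_ne_zero (R := F) (by rw [ht, hc0, map_zero, mul_zero]))
        have hdiv : h ∣ X ^ (n - 1) - 1 := hX.dvd_of_dvd_mul_left (by
          rw [mul_sub, mul_one, ← pow_succ', Nat.sub_add_cancel (by omega)]
          exact ⟨r, hr⟩)
        obtain ⟨r', hr'⟩ := hdiv
        have hx : (X ^ (n - 1) - 1 : F[X]).reverse = 1 - X ^ (n - 1) := by
          rw [show (X ^ (n - 1) - 1 : F[X]) = X ^ (n - 1) - C 1 by rw [C_1], reverse, natDegree_X_pow_sub_C,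
            reflect_sub, C_1, reflect_monomial, reflect_one, revAt_le le_rfl, Nat.sub_self, pow_zero]
        rw [hr', reverse_mul_of_domain] at hx
        refine dvd_trans ⟨-r'.reverse, ?_⟩ (dvd_mul_left (X ^ (n - 1) - 1) X |>.trans (dvd_of_eq ?_))
        · rw [mul_neg, hx, neg_sub]
        · rw [mul_sub, mul_one, ← pow_succ', Nat.sub_add_cancel (by omega)]
      refine ⟨h * h.reverse, ?_, hPK, ?_, hco.mul_dvd hhn hrev, Or.inl ⟨hdeg, hco, hns, rfl⟩⟩
      · rw [natDegree_mul hirr.ne_zero (mt reverse_eq_zero.1 hirr.ne_zero),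
          reverse_natDegree, natTrailingDegree_eq_zero_of_constantCoeff_ne_zero hh0, Nat.sub_zero, hdeg, two_mul]
      · rw [eval_mul]
        refine mul_ne_zero hh1 fun h0 => hh1 ?_
        letI : Invertible (1 : F) := invertibleOne
        exact (eval₂_reverse_eq_zero_iff (RingHom.id F) (1 : F) h).1 (by rw [invOf_one]; exact h0)
    · exact ⟨h, hdeg, hPK, hh1, hhn, Or.inr ⟨hdeg, rfl⟩⟩
  obtain ⟨hKd, hPK, hK1, hKn, hKcase⟩ := hK
  have hK0 : K ≠ 0 := fun h0 => hK1 (by rw [h0, eval_zero])
  have hcop : IsCoprime ((X - 1 : F[X]) ^ 9) K := (hX1.coprime_iff_not_dvd.2 fun hd' => hK1 (by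
    rw [← C_1, dvd_iff_isRoot] at hd'
    exact hd')).pow_left
  have hKT : K ∣ T.charpoly := by
    obtain ⟨P', hP', hP'1⟩ := exists_eq_pow_rootMultiplicity_mul_and_not_dvd P hm.ne_zero 1
    rw [C_1] at hP' hP'1
    have hdvd : P' ∣ K := ((hX1.coprime_iff_not_dvd.2 hP'1).symm.pow_right (n := 9)).dvd_of_dvd_mul_left
      ((Dvd.intro_left _ hP'.symm).trans hPK)
    have hP'0 : P' ≠ 0 := fun h0 => hm.ne_zero (by rw [hP', h0, mul_zero])
    have hdeg : K.natDegree ≤ P'.natDegree := by
      have := congrArg natDegree hP'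
      rw [natDegree_mul (pow_ne_zero _ hX1.ne_zero) hP'0, natDegree_pow,
        show (X - 1 : F[X]).natDegree = 1 by simpa using natDegree_X_sub_C (1 : F), hd9] at this
      omega
    have hKP : K ∣ P := by
      refine dvd_trans ?_ (Dvd.intro_left _ hP'.symm)
      exact (associated_of_dvd_of_natDegree_le hdvd hK0 hdeg).dvd'
    exact ((hcop.of_isCoprime_of_dvd_left (dvd_pow_self _ (by norm_num))).symm).dvd_of_dvd_mul_left (hKP.trans hPT)
  obtain ⟨A, B, hAB⟩ := hcop
  obtain ⟨N, hN⟩ : ∃ N, N = (T - 1) ^ 9 := ⟨_, rfl⟩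
  have hNK : ∀ x, aeval T K (N x) = 0 := fun x => by
    obtain ⟨r, hr⟩ := hTP.trans hPK
    rw [mul_comm ((X - 1 : F[X]) ^ 9) K] at hr
    have h' := congrArg (aeval T) hr
    rw [map_mul, map_mul, LinearMap.aeval_self_charpoly, zero_mul, map_pow, map_sub, aeval_X, map_one, ← hN] at h'
    rw [← Module.End.mul_apply, h']
    rfl
  set R := LinearMap.range N with hR
  set U := LinearMap.ker N with hU
  have hbez : ∀ x, x = N (aeval T A x) + aeval T B (aeval T K x) := fun x => by
    have h' := congrArg (fun q : F[X] => aeval T q x) hAB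
    simp only [map_add, map_one, LinearMap.add_apply, Module.End.one_apply] at h'
    conv_lhs => rw [← h']
    congr 1
    · rw [mul_comm, map_mul, map_pow, map_sub, aeval_X, map_one, ← hN]
      rfl
    · rw [map_mul]
      rfl
  have hRK : ∀ x ∈ R, aeval T K x = 0 := by
    rintro _ ⟨x, rfl⟩; exact hNK x
  have hKR : ∀ x, aeval T K x = 0 → x ∈ R := fun x hx => by
    rw [hbez x, hx, map_zero, add_zero]; exact ⟨_, rfl⟩
  have hcommN : ∀ q : F[X], Commute (aeval T q) N := fun q => by
    rw [hN]; exact ((commute_aeval (Commute.refl T) q).symm.sub_right (Commute.one_right _)).pow_right 9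
  have hinv : ∀ (S : Module.End F V), Commute S N → (∀ x ∈ R, S x ∈ R) ∧ ∀ x ∈ U, S x ∈ U := fun S hS => by
    refine ⟨?_, fun x hx => ?_⟩
    · rintro _ ⟨w, rfl⟩
      exact ⟨S w, by rw [← Module.End.mul_apply, ← hS.eq]; rfl⟩
    · rw [hU, LinearMap.mem_ker] at hx ⊢
      rw [← Module.End.mul_apply, ← hS.eq, Module.End.mul_apply, hx, map_zero]
  obtain ⟨hTR, hTU⟩ := hinv T (by simpa using hcommN X)
  have hcRU : IsCompl R U := by
    constructor
    · refine Submodule.disjoint_def.2 fun x hxR hxU => ?_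
      rw [hbez x, hRK x hxR, map_zero, add_zero]
      rw [hU, LinearMap.mem_ker] at hxU
      rw [← Module.End.mul_apply, ← (hcommN A).eq, Module.End.mul_apply, hxU, map_zero]
    · rw [codisjoint_iff, eq_top_iff]
      intro x _
      rw [hbez x]
      refine Submodule.add_mem_sup ⟨_, rfl⟩ ?_
      rw [hU, LinearMap.mem_ker, ← Module.End.mul_apply, ← (hcommN B).eq, Module.End.mul_apply,
        ← Module.End.mul_apply N, ← (hcommN K).eq, Module.End.mul_apply, hNK, map_zero]
  have horth : ∀ r ∈ R, ∀ u ∈ U, polar Q r u = 0 := by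
    rintro _ ⟨x, rfl⟩ u hu
    have e : N = aeval (actHom Q g) ((X - 1 : F[X]) ^ 9) := by simp [hN, hT]
    rw [e, polar_aeval]
    have hc : Commute T (actHom Q g⁻¹) := hT ▸ commute_act g g⁻¹ (by group)
    have e2 : aeval (actHom Q g⁻¹) ((X - 1 : F[X]) ^ 9) = (-(actHom Q g⁻¹)) ^ 9 * N := by
      rw [hN, ← ((hc.symm.sub_right (Commute.one_right _)).neg_left).mul_pow, hT, mul_sub, mul_one, neg_mul,
        ← map_mul, inv_mul_cancel, map_one, sub_neg_eq_add, neg_add_eq_sub]
      simp
    rw [e2, Module.End.mul_apply, LinearMap.mem_ker.1 hu, map_zero, polar_zero_right]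
  -- the power that fixes the orbit part and kills the rest
  obtain ⟨s, hs⟩ : ∃ s, s = g ^ n := ⟨_, rfl⟩
  have hθs : θ g = θ s := by
    rw [hs, map_pow, Int.units_pow_eq_pow_mod_two, Nat.odd_iff.1 hnodd, pow_one]
  rw [hθs]
  have hsR : ∀ x ∈ R, actHom Q s x = T x := fun x hx => by
    obtain ⟨r, hr⟩ := hKn
    have h' := congrArg (fun q : F[X] => aeval T q x) hr
    simp only [map_sub, map_pow, aeval_X, LinearMap.sub_apply, mul_comm K r, map_mul, Module.End.mul_apply,
      hRK x hx, map_zero, sub_eq_zero] at h'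
    rw [hs, map_pow, ← hT, h']
  have hsU : ∀ u ∈ U, actHom Q s u = u := fun u hu => by
    haveI : CharP (Module.End F V) p ∨ Subsingleton V := by
      rcases subsingleton_or_nontrivial V with h' | h'
      · exact Or.inr h'
      · exact Or.inl (charP_of_injective_algebraMap (FaithfulSMul.algebraMap_injective F (Module.End F V)) p)
    rcases this with hch | hss
    · have hne : n = p ^ ((e₀ : ℕ) * (2 * d)) := by rw [hn, hq, ← pow_mul]
      have e : (T - 1) ^ n = T ^ n - 1 := by
        rw [hne, sub_pow_char_pow_of_commute (p := p) _ (Commute.one_right T), one_pow]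
      have hz : ((T - 1) ^ n) u = 0 := by
        rw [← Nat.sub_add_cancel hn9, pow_add, Module.End.mul_apply, ← hN, LinearMap.mem_ker.1 hu, map_zero]
      rw [e, LinearMap.sub_apply, Module.End.one_apply, sub_eq_zero] at hz
      rw [hs, map_pow, ← hT, hz]
    · exact Subsingleton.elim _ _
  have hfix : ∀ x, (∀ y ∈ R, polar Q x y = 0) → x ∈ U := fun x hx => by
    obtain ⟨r, hr, u, hu, rfl⟩ := Submodule.mem_sup.1 (show x ∈ R ⊔ U by rw [hcRU.sup_eq_top]; trivial)
    have : r = 0 := hQ r fun z => by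
      obtain ⟨r', hr', u', hu', rfl⟩ := Submodule.mem_sup.1 (show z ∈ R ⊔ U by rw [hcRU.sup_eq_top]; trivial)
      have := hx r' hr'
      rw [polar_add_left, polar_comm Q u r', horth r' hr' u hu, add_zero] at this
      rw [polar_add_right, this, horth r hr u' hu', add_zero]
    rwa [this, zero_add]
  have hndR : ∀ x ∈ R, (∀ y ∈ R, polar Q x y = 0) → x = 0 := fun x hx h' =>
    Submodule.disjoint_def.1 hcRU.disjoint x hx (hfix x h')
  obtain ⟨S, hS⟩ : ∃ S, S = T.restrict hTR := ⟨_, rfl⟩
  have hSK : aeval S K = 0 := LinearMap.ext fun x => Subtype.ext (by rw [hS, aeval_restrict_apply]; exact hRK x x.2)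
  have hTchar : T.charpoly = S.charpoly * (X - 1) ^ Module.finrank F U := by
    rw [hS, ← charpoly_of_unipotent (T.restrict hTU) (k := 9) (LinearMap.ext fun x => Subtype.ext (by
      have e : T.restrict hTU - 1 = (T - 1).restrict (fun y hy => U.sub_mem (hTU y hy) hy) := rfl
      rw [e, Module.End.pow_restrict _, LinearMap.restrict_coe_apply, ← hN]
      exact LinearMap.mem_ker.1 x.2)), ← LinearMap.charpoly_prodMap]
    let e := Submodule.prodEquivOfIsCompl R U hcRU
    rw [← LinearEquiv.charpoly_conj e]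
    congr 1
    refine LinearMap.ext fun z => ?_
    obtain ⟨⟨a, b⟩, rfl⟩ := e.surjective z
    rw [LinearEquiv.conj_apply_apply, LinearEquiv.symm_apply_apply]
    show T ((a : V) + (b : V)) = T (a : V) + T (b : V)
    exact map_add T _ _
  have hKS : K ∣ S.charpoly := by
    rw [hTchar] at hKT
    exact ((hX1.coprime_iff_not_dvd.2 fun hd' => hK1 (by
      rw [← C_1, dvd_iff_isRoot] at hd'
      exact hd')).symm.pow_right).dvd_of_dvd_mul_right hKT
  have hdimR : Module.finrank F R = 2 * d := by
    refine le_antisymm ?_ (hKd ▸ (natDegree_le_of_dvd hKS S.charpoly_monic.ne_zero).trans S.charpoly_natDegree.le)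
    have hTd : S.charpoly ∣ (X - 1) ^ 9 * K := (Dvd.intro _ hTchar.symm).trans (hTP.trans hPK)
    have hco' : IsCoprime S.charpoly ((X - 1) ^ 9) := (hX1.coprime_iff_not_dvd.2 fun hd' => hK1 (by
      have := dvd_of_dvd_charpoly S hX1 hd' hSK
      rw [← C_1, dvd_iff_isRoot] at this
      exact this)).symm.pow_right
    rw [← S.charpoly_natDegree, ← hKd]
    exact natDegree_le_of_dvd (hco'.dvd_of_dvd_mul_left hTd) hK0
  rcases hKcase with ⟨hdeg, hco, hns, rfl⟩ | ⟨hdeg, hKeq⟩
  · -- a dual pair
    obtain ⟨A', B', hAB'⟩ := hco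
    let Kr : F[X] → Submodule F V := fun q => R ⊓ LinearMap.ker (aeval T q)
    set W := Kr h with hW
    set W' := Kr h.reverse with hW'
    have hbez' : ∀ x, x = aeval T h (aeval T A' x) + aeval T h.reverse (aeval T B' x) := fun x => by
      have h' := congrArg (fun q : F[X] => aeval T q x) hAB'
      simp only [map_add, map_one, LinearMap.add_apply, Module.End.one_apply, mul_comm A', mul_comm B', map_mul,
        Module.End.mul_apply] at h'
      exact h'.symm
    have hdual : ∀ x y, polar Q (aeval T h.reverse x) y =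
        polar Q x (aeval T h (actHom Q (g ^ d)⁻¹ y)) := fun x y => by
      have e : aeval T h.reverse = actHom Q (g ^ d) * aeval (actHom Q g⁻¹) h := by
        rw [reverse, hdeg]
        have key : ∀ q : F[X], q.natDegree ≤ d → aeval T (reflect d q) = actHom Q (g ^ d) * aeval (actHom Q g⁻¹) q := by
          intro q hq'
          rw [q.as_sum_range_C_mul_X_pow' (Nat.lt_succ_of_le hq')]
          rw [show ∀ f : ℕ → F[X], reflect d (∑ i ∈ Finset.range (d + 1), f i) = ∑ i ∈ Finset.range (d + 1), reflect d (f i) from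
            fun f => map_sum (AddMonoidHom.mk' (reflect d) (fun a b => reflect_add a b d)) f (Finset.range (d + 1)),
            map_sum, map_sum,
            Finset.mul_sum]
          refine Finset.sum_congr rfl fun i hi => ?_
          rw [Finset.mem_range] at hi
          rw [reflect_C_mul_X_pow, revAt_le (by omega)]
          simp only [map_mul, aeval_C, aeval_X, map_pow]
          rw [hT, ← map_pow, ← map_pow, ← map_pow, ← mul_assoc,
            ← (Algebra.commute_algebraMap_left (q.coeff i) (actHom Q (g ^ d))).eq, mul_assoc, ← map_mul]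
          congr 2
          rw [inv_pow, eq_mul_inv_iff_mul_eq, ← pow_add, Nat.sub_add_cancel (by omega)]
        exact key h hdeg.le
      rw [e, Module.End.mul_apply, polar_act_left, polar_aeval, inv_inv, ← hT]
    have hmemW : ∀ x, x ∈ W ↔ x ∈ R ∧ aeval T h x = 0 := fun x => Submodule.mem_inf
    have hmemW' : ∀ x, x ∈ W' ↔ x ∈ R ∧ aeval T h.reverse x = 0 := fun x => Submodule.mem_inf
    have hcomm2 : ∀ (a b : F[X]) x, aeval T a (aeval T b x) = aeval T b (aeval T a x) := fun a b x => by
      rw [← Module.End.mul_apply, ← map_mul, mul_comm, map_mul, Module.End.mul_apply]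
    have hgd : ∀ (q : F[X]) x, aeval T q x = 0 → aeval T q (actHom Q (g ^ d)⁻¹ x) = 0 := fun q x hx => by
      rw [← Module.End.mul_apply, ← (commute_aeval (z := actHom Q (g ^ d)⁻¹)
        (hT ▸ commute_act _ g (by group)) q).eq, Module.End.mul_apply, hx, map_zero]
    have hWW : ∀ x ∈ W, ∀ y ∈ W, polar Q x y = 0 := fun x hx y hy => by
      rw [hmemW] at hx hy
      rw [hbez' x, hcomm2 h, hx.2, map_zero, zero_add, hdual, hgd _ _ hy.2, polar_zero_right]
    have hW'W' : ∀ x ∈ W', ∀ y ∈ W', polar Q x y = 0 := fun x hx y hy => by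
      rw [hmemW'] at hx hy
      rw [hbez' x, hcomm2 h.reverse B', hx.2, map_zero, add_zero, polar_comm,
        ← act_inv_act (g ^ d) (aeval T A' x), ← hdual, hy.2, polar_zero_left]
    have hsup : W ⊔ W' = R := by
      refine le_antisymm (sup_le inf_le_left inf_le_left) fun x hx => ?_
      rw [hbez' x, add_comm]
      refine Submodule.add_mem_sup ((hmemW _).2 ?_) ((hmemW' _).2 ?_)
      all_goals refine ⟨(hinv _ (hcommN _)).1 _ ((hinv _ (hcommN _)).1 _ hx), ?_⟩
      · rw [← Module.End.mul_apply, ← map_mul, hcomm2 _ B', hRK x hx, map_zero]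
      · rw [← Module.End.mul_apply, ← map_mul, mul_comm, hcomm2 _ A', hRK x hx, map_zero]
    have hdisj : Disjoint W W' := Submodule.disjoint_def.2 fun x hx hx' => by
      rw [hbez' x, hcomm2 h, ((hmemW x).1 hx).2, hcomm2 h.reverse, ((hmemW' x).1 hx').2, map_zero, map_zero, add_zero]
    have hWinv : ∀ q : F[X], ∀ x ∈ Kr q, T x ∈ Kr q := fun q x hx => Submodule.mem_inf.2
      ⟨hTR x (Submodule.mem_inf.1 hx).1, LinearMap.mem_ker.2 (by
        rw [show T x = aeval T (X : F[X]) x by rw [aeval_X], hcomm2, LinearMap.mem_ker.1 (Submodule.mem_inf.1 hx).2, map_zero])⟩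
    have hdW : ∀ q r : F[X], Irreducible q → q.natDegree = d → IsCoprime q r → q ∣ S.charpoly →
        Kr q ⊔ Kr r = R → Disjoint (Kr q) (Kr r) →
        d ≤ Module.finrank F (Kr q) ∧ q ∣ (T.restrict (hWinv q)).charpoly := by
      intro q r hq hqd hqr hqS hsup' hdisj'
      obtain ⟨C1, hC1⟩ : ∃ C1, C1 = (Kr q).comap R.subtype := ⟨_, rfl⟩
      obtain ⟨C2, hC2⟩ : ∃ C2, C2 = (Kr r).comap R.subtype := ⟨_, rfl⟩
      have hc12 : IsCompl C1 C2 := by
        constructor
        · rw [Submodule.disjoint_def]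
          intro x h1 h2
          rw [hC1] at h1; rw [hC2] at h2
          exact Subtype.ext (Submodule.disjoint_def.1 hdisj' _ h1 h2)
        · rw [codisjoint_iff, eq_top_iff]
          rintro ⟨x, hx⟩ -
          obtain ⟨a, ha, b, hb, hab⟩ := Submodule.mem_sup.1 (hsup' ▸ hx : x ∈ Kr q ⊔ Kr r)
          refine Submodule.mem_sup.2 ⟨⟨a, ha.1⟩, hC1 ▸ ha, ⟨b, hb.1⟩, hC2 ▸ hb, Subtype.ext hab⟩
      let ψ : (Kr q × Kr r) ≃ₗ[F] R := LinearEquiv.ofBijective
        ((Submodule.inclusion inf_le_left).coprod (Submodule.inclusion inf_le_left)) ⟨by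
          refine (injective_iff_map_eq_zero _).2 fun ⟨a, b⟩ h' => ?_
          have h'' : (a : V) + (b : V) = 0 := congrArg Subtype.val h'
          have ha : (a : V) = 0 := Submodule.disjoint_def.1 hdisj' _ a.2 (by
            rw [eq_neg_of_add_eq_zero_left h'']; exact Submodule.neg_mem _ b.2)
          rw [ha, zero_add] at h''
          exact Prod.ext (Subtype.ext ha) (Subtype.ext h''), fun ⟨x, hx⟩ => by
          obtain ⟨a, ha, b, hb, hab⟩ := Submodule.mem_sup.1 (hsup' ▸ hx : x ∈ Kr q ⊔ Kr r)
          exact ⟨(⟨a, ha⟩, ⟨b, hb⟩), Subtype.ext hab⟩⟩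
      have hprod : S.charpoly = (T.restrict (hWinv q)).charpoly * (T.restrict (hWinv r)).charpoly := by
        rw [← LinearMap.charpoly_prodMap, ← LinearEquiv.charpoly_conj ψ]
        congr 1
        refine LinearMap.ext fun z => ?_
        obtain ⟨⟨a, b⟩, rfl⟩ := ψ.surjective z
        rw [LinearEquiv.conj_apply_apply, LinearEquiv.symm_apply_apply, hS]
        exact Subtype.ext (map_add T (a : V) (b : V))
      have hd' : q ∣ (T.restrict (hWinv q)).charpoly := by
        rw [hprod] at hqS
        refine (hq.prime.dvd_or_dvd hqS).resolve_right fun hr' => ?_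
        exact hq.not_isUnit (hqr.isUnit_of_dvd' dvd_rfl (dvd_of_dvd_charpoly _ hq hr' (LinearMap.ext fun x =>
          Subtype.ext (by rw [aeval_restrict_apply]; exact LinearMap.mem_ker.1 (Submodule.mem_inf.1 x.2).2))))
      exact ⟨hqd ▸ (natDegree_le_of_dvd hd' (LinearMap.charpoly_monic _).ne_zero).trans
        (LinearMap.charpoly_natDegree _).le, hd'⟩
    have hirr' : Irreducible h.reverse ∧ h.reverse.natDegree = d := by
      have hdr : h.reverse.natDegree = d := by
        rw [reverse_natDegree, natTrailingDegree_eq_zero_of_constantCoeff_ne_zero hh0, Nat.sub_zero, hdeg]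
      refine ⟨⟨fun hu => by have := natDegree_eq_zero_of_isUnit hu; omega, fun a b hab => ?_⟩, hdr⟩
      have hrr : h = a.reverse * b.reverse := by
        rw [← reverse_mul_of_domain, ← hab, reverse, hdr, reverse, hdeg, reflect_reflect]
      have hab0 : a.coeff 0 ≠ 0 ∧ b.coeff 0 ≠ 0 := by
        have : h.reverse.coeff 0 ≠ 0 := by rw [coeff_zero_reverse]; exact leadingCoeff_ne_zero.2 hirr.ne_zero
        rw [hab, mul_coeff_zero] at this
        exact ⟨left_ne_zero_of_mul this, right_ne_zero_of_mul this⟩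
      have hu : ∀ c : F[X], c.coeff 0 ≠ 0 → IsUnit c.reverse → IsUnit c := fun c hc hu => by
        have h0 := natDegree_eq_zero_of_isUnit hu
        rw [reverse_natDegree, natTrailingDegree_eq_zero_of_constantCoeff_ne_zero hc, Nat.sub_zero] at h0
        rw [eq_C_of_natDegree_eq_zero h0]
        exact isUnit_C.2 (isUnit_iff_ne_zero.2 hc)
      exact (hirr.isUnit_or_isUnit hrr).imp (hu a hab0.1) (hu b hab0.2)
    obtain ⟨hdW1, hhW⟩ := hdW h h.reverse hirr hdeg ⟨A', B', hAB'⟩ ((dvd_mul_right _ _).trans hKS) hsup hdisj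
    obtain ⟨hdW2, -⟩ := hdW h.reverse h hirr'.1 hirr'.2 (IsCoprime.symm ⟨A', B', hAB'⟩)
      ((dvd_mul_left _ _).trans hKS) (by rw [sup_comm]; exact hsup) hdisj.symm
    have hsum : Module.finrank F W + Module.finrank F W' = 2 * d := by
      rw [← hdimR, ← hsup, ← Submodule.finrank_sup_add_finrank_inf_eq, hdisj.eq_bot, finrank_bot, add_zero]
    have hdWeq : Module.finrank F W = d := by
      have h1 : d ≤ Module.finrank F W := hdW1
      have h3 : d ≤ Module.finrank F W' := hdW2
      omega
    have hdW'eq : Module.finrank F W' = d := by omega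
    have hsW : ∀ x ∈ W, actHom Q s x ∈ W := fun x hx => by
      rw [hsR x ((hmemW x).1 hx).1]; exact hWinv h x hx
    rw [theta_of_levi Q θ hθ h2 hQ s W W' U hdWeq hdW'eq hWW hW'W' (hsup ▸ horth) (hsup ▸ hcRU) hdisj hsW
      (fun x hx => by rw [hsR x ((hmemW' x).1 hx).1]; exact hWinv _ x hx) hsU]
    refine sqSign_of_not ?_
    have hWc : (T.restrict (hWinv h)).charpoly = h :=
      eq_of_monic_of_dvd_of_natDegree_le hhm (LinearMap.charpoly_monic _) hhW
        (by rw [LinearMap.charpoly_natDegree, hdeg]; exact hdWeq.le)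
    rw [show (actHom Q s).restrict hsW = T.restrict (hWinv h) from LinearMap.ext fun x =>
      Subtype.ext (hsR x ((hmemW x).1 x.2).1), LinearMap.det_eq_sign_charpoly_coeff, hdWeq, hWc]
    exact hns
  · -- a self-dual orbit
    rcases hcase with ⟨hdeg', -, -, -⟩ | ⟨-, -, hsub⟩
    · omega
    rw [hKeq] at hKS hRK
    have hSh : S.charpoly = h :=
      eq_of_monic_of_dvd_of_natDegree_le hhm S.charpoly_monic hKS (by rw [LinearMap.charpoly_natDegree, hdimR, hdeg])
    have hSpow : ∀ i (x : R), ((S ^ i) x : V) = (T ^ i) (x : V) := fun i x => by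
      have h' := aeval_restrict_apply T hTR (X ^ i) x
      simpa [hS] using h'
    have hsTi : ∀ i, ∀ x ∈ R, actHom Q (s ^ i) x = (T ^ i) x := fun i => by
      induction i with
      | zero => intro x _; simp
      | succ i ih =>
        intro x hx
        rw [pow_succ, map_mul, Module.End.mul_apply, hsR x hx, ih _ (hTR x hx), pow_succ, Module.End.mul_apply]
    have hsiU : ∀ i, ∀ u ∈ U, actHom Q (s ^ i) u = u := fun i => by
      induction i with
      | zero => intro u _; simp
      | succ i ih =>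
        intro u hu
        rw [pow_succ, map_mul, Module.End.mul_apply, hsU u hu, ih u hu]
    have hagree : ∀ i (k : qAut Q), (∀ x ∈ R, k.1 x = (T ^ i) x) → (∀ u ∈ U, k.1 u = u) → s ^ i = k := by
      intro i k hk1 hk2
      refine actHom_inj Q (LinearMap.ext fun z => ?_)
      obtain ⟨r, hr, u, hu, rfl⟩ := Submodule.mem_sup.1 (show z ∈ R ⊔ U by rw [hcRU.sup_eq_top]; trivial)
      rw [map_add, map_add, hsTi i r hr, hsiU i u hu]
      exact (congrArg₂ (· + ·) (hk1 r hr) (hk2 u hu)).symm
    have hperp : ∀ u ∈ U, ∀ y ∈ R, polar Q u y = 0 := fun u hu y hy => by rw [polar_comm]; exact horth y hy u hu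
    rcases hsub with ⟨hhalf, hHodd, hns⟩ | ⟨hdodd, o, a, hho, hns2, hna⟩
    · obtain ⟨H, hH⟩ : ∃ H, H = (Fintype.card F ^ d + 1) / 2 := ⟨_, rfl⟩
      rw [← hH] at hhalf hHodd
      obtain ⟨r, hr⟩ := hhalf
      have hneg : ∀ x ∈ R, (T ^ H) x = -x := fun x hx => by
        have h' := congrArg (fun q : F[X] => aeval T q x) hr
        simp only [map_add, map_pow, aeval_X, map_one, LinearMap.add_apply, Module.End.one_apply, mul_comm h r,
          map_mul, Module.End.mul_apply, hRK x hx, map_zero] at h'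
        exact eq_neg_of_add_eq_zero_left h'
      obtain ⟨e, k, hne, heo, hk1, hk2, hθk⟩ := SpinTorus.exists_neg_part Q θ hθ h2 R hndR
      have hsk : s ^ H = k := hagree H k (fun x hx => by rw [hk1 x hx, hneg x hx])
        (fun u hu => hk2 u fun y hy => hperp u hu y hy)
      have hθsk : θ s = θ k := by
        rw [← hsk, map_pow, Int.units_pow_eq_pow_mod_two, Nat.odd_iff.1 hHodd, pow_one]
      rw [hθsk, hθk]
      refine sqSign_of_not fun hsq => hns ?_
      obtain ⟨M, hM⟩ : ∃ M, M = LinearMap.toMatrix e e S := ⟨_, rfl⟩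
      obtain ⟨G, hG⟩ : ∃ G : Matrix (Fin (Module.finrank F R)) (Fin (Module.finrank F R)) F,
          G = Matrix.diagonal fun i => 2 * Q (e i : V) := ⟨_, rfl⟩
      let BR : LinearMap.BilinForm F R := (QuadraticMap.polarBilin Q).domRestrict₁₂ R R
      have hGB : G = LinearMap.BilinForm.toMatrix e BR := Matrix.ext fun i j => by
        rw [hG, LinearMap.BilinForm.toMatrix_apply]
        show _ = polar Q (e i : V) (e j : V)
        rcases eq_or_ne i j with rfl | hij
        · rw [Matrix.diagonal_apply_eq, quad_polar_self]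
        · rw [Matrix.diagonal_apply_ne _ hij, heo i j hij]
      have hMG : M.transpose * G * M = G := by
        rw [hGB, hM, ← LinearMap.BilinForm.toMatrix_comp e e BR S S]
        congr 1
        refine LinearMap.ext fun x => LinearMap.ext fun y => ?_
        show polar Q (S x : V) (S y : V) = polar Q (x : V) (y : V)
        rw [hS, LinearMap.restrict_coe_apply, LinearMap.restrict_coe_apply, hT, polar_act]
      have hGdet : G.det ≠ 0 := by
        rw [hG, Matrix.det_diagonal]
        exact Finset.prod_ne_zero_iff.2 fun i _ => mul_ne_zero h2 (hne i)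
      have hMc : M.charpoly = h := by rw [hM, LinearMap.charpoly_toMatrix, hSh]
      have hm1 : (M + 1).det ≠ 0 := fun h0 => by
        have h' := Matrix.eval_charpoly M (-1)
        rw [show Matrix.scalar (Fin (Module.finrank F R)) (-1 : F) - M = -(M + 1) by
            simp [Matrix.scalar_apply, ← Matrix.diagonal_neg, sub_eq_add_neg, add_comm],
          Matrix.det_neg, h0, mul_zero, hMc] at h'
        exact hns ⟨0, by rw [h', mul_zero, mul_zero]⟩
      have h3 := isSquare_gram_mul h2 hMG (by rw [hG, Matrix.diagonal_transpose]) hGdet hm1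
      rw [hMc, hG, Matrix.det_diagonal, Finset.prod_mul_distrib, Finset.prod_const, Finset.card_univ, Fintype.card_fin,
        show (2 : F) ^ Module.finrank F R = 2 ^ (2 * d) from congrArg _ hdimR] at h3
      have hQ0 : ∏ i, Q (e i : V) ≠ 0 := Finset.prod_ne_zero_iff.2 fun i _ => hne i
      have h4 := h3.mul (isSquare_inv.2 ((show IsSquare ((2 : F) ^ (2 * d)) from ⟨2 ^ d, by rw [two_mul d, pow_add]⟩).mul hsq))
      rwa [mul_comm ((2 : F) ^ (2 * d) * _) (h.eval 1 * h.eval (-1)),
        mul_inv_cancel_right₀ (mul_ne_zero (pow_ne_zero _ h2) hQ0)] at h4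
    · obtain ⟨r, hr⟩ := hho
      have hquad : ∀ x ∈ R, (T ^ o) ((T ^ o) x) = a • (T ^ o) x - x := fun x hx => by
        have h' := congrArg (fun q : F[X] => aeval T q x) hr
        simp only [map_add, map_sub, map_mul, map_pow, aeval_X, aeval_C, map_one, LinearMap.add_apply,
          LinearMap.sub_apply, Module.End.one_apply, Module.End.mul_apply, mul_comm h r, hRK x hx, map_zero,
          Module.algebraMap_end_apply] at h'
        rw [two_mul, pow_add, Module.End.mul_apply] at h'
        rw [eq_sub_iff_add_eq, ← sub_eq_zero, ← h']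
        abel
      have hinvo : ∀ x ∈ R, (T ^ o) x ∈ R := fun x hx => by
        have := hinv (T ^ o) (by simpa using hcommN (X ^ o))
        exact this.1 x hx
      obtain ⟨j, k, hj, hk1, hk2, hθk⟩ := SpinTorus.exists_quadratic_part Q θ hθ h2 hna (T ^ o)
        (fun x => by rw [hT, ← map_pow]; exact qAut_map _ x) (2 * d) R hdimR hinvo hquad hndR
      obtain rfl : j = d := by omega
      have hsk : s ^ o = k := hagree o k hk1 (fun u hu => hk2 u fun y hy => hperp u hu y hy)
      have hθo : θ s ^ o = -1 := by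
        rw [← map_pow, hsk, hθk]
        refine sqSign_of_not fun hsq => hns2 ?_
        obtain ⟨i, rfl⟩ := hdodd
        have h0 : (2 + a) ≠ 0 := fun h0 => hns2 (h0 ▸ IsSquare.zero)
        rw [pow_succ, two_mul i, pow_add] at hsq
        have h4 := hsq.mul (show IsSquare (((2 + a) ^ i * (2 + a) ^ i)⁻¹) from isSquare_inv.2 ⟨_, rfl⟩)
        rwa [mul_comm _ (2 + a), mul_inv_cancel_right₀ (mul_ne_zero (pow_ne_zero _ h0) (pow_ne_zero _ h0))] at h4
      rcases Int.units_eq_one_or (θ s) with h' | h'
      · rw [h', one_pow] at hθo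
        exact absurd hθo (by decide)
      · exact h'

end CfsgLib.OmegaNine
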