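/-
Upper bounds for the element orders of `Ω(9, q)` and of the extension of the natural module of `Ω⁻(8, q)`.
-/
import Cfsg.Agent.Lib.Spectrum.OmegaNineTwins.Spinor
import Cfsg.Agent.Lib.Known.ClassicalOrderBoundGroups

set_option autoImplicit false
set_option linter.style.haveILetI false

namespace CfsgLib.OmegaNine

open Polynomial QuadraticMap CfsgLib.Classical CfsgLib.Classical.Spin CfsgLib.Classical.SpOCount

universe u

variable {F : Type u} [Field F] [Fintype F] {p : ℕ} [Fact p.Prime] [CharP F p]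

omit [Fintype F] [Fact p.Prime] [CharP F p] in
/-- The eigenvalue minus one is never simple. -/
lemma sq_dvd_of_dvd (h2 : (2 : F) ≠ 0) {P : F[X]} (hm : P.Monic) (hd : P.natDegree = 9) (h0 : P.coeff 0 = -1)
    (hr : P ∣ P.reverse) (h : X + 1 ∣ P) : (X + 1) ^ 2 ∣ P := by
  obtain ⟨P', hP'⟩ := h
  obtain ⟨r, hr'⟩ := hr
  have hX1 : (X + 1 : F[X]).natDegree = 1 := by simpa using natDegree_X_add_C (1 : F)
  have hXne : (X + 1 : F[X]) ≠ 0 := by simpa using X_add_C_ne_zero (1 : F)
  have hP'0 : P' ≠ 0 := fun h' => hm.ne_zero (by rw [hP', h', mul_zero])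
  have hr0 : r ≠ 0 := fun h' => hm.ne_zero (reverse_eq_zero.1 (by rw [hr', h', mul_zero]))
  have hrc : r = C (-1) := by
    have hdeg := congrArg natDegree hr'
    rw [natDegree_mul hm.ne_zero hr0, hd] at hdeg
    have := reverse_natDegree_le P
    obtain ⟨c, hc⟩ := natDegree_eq_zero.1 (show r.natDegree = 0 by omega)
    have h9 := congrArg (fun f : F[X] => f.coeff 9) hr'
    simp only [← hc, coeff_mul_C] at h9
    rw [coeff_reverse, hd, revAt_le le_rfl, Nat.sub_self, h0, show P.coeff 9 = 1 by rw [← hd]; exact hm, one_mul] at h9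
    rw [← hc, ← h9]
  have hrev : P'.reverse = -P' := by
    have h1 : P.reverse = (X + 1) * P'.reverse := by
      rw [hP', reverse_mul_of_domain]
      congr 1
      rw [reverse, hX1, reflect_add, reflect_one_X, reflect_one, pow_one, add_comm]
    refine mul_left_cancel₀ hXne ?_
    rw [← h1, hr', hrc, hP', map_neg, map_one]
    ring
  have hd' : P'.natDegree = 8 := by
    have := congrArg natDegree hP'
    rw [natDegree_mul hXne hP'0, hX1, hd] at this
    omega
  letI : Invertible (-1 : F) := invertibleOfNonzero (neg_ne_zero.2 one_ne_zero)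
  have hev := eval₂_reverse_mul_pow (RingHom.id F) (-1 : F) P'
  rw [hrev, eval₂_neg, invOf_eq_inv, inv_neg, inv_one, hd', show (-1 : F) ^ 8 = 1 by norm_num, mul_one] at hev
  have hz : P'.eval (-1) = 0 := by
    have h4 : (2 : F) * eval₂ (RingHom.id F) (-1) P' = 0 := by linear_combination -hev
    exact (mul_eq_zero.1 h4).resolve_left h2
  obtain ⟨P'', hP''⟩ := dvd_iff_isRoot.2 (show P'.IsRoot (-1) from hz)
  refine ⟨P'', ?_⟩
  rw [hP', hP'', map_neg, map_one, sub_neg_eq_add, ← mul_assoc, _root_.sq]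

omit [CharP F p] in
/-- Listed numbers are positive. -/
lemma lst_pos (hq : Odd (Fintype.card F)) {N : ℕ} (hN : N ∈ lst p (Fintype.card F)) : 0 < N := by
  have h1 := Fintype.one_lt_card (α := F)
  obtain ⟨c, hc⟩ := hq
  have hp : 0 < p := (Fact.out : p.Prime).pos
  have hpp : ∀ k, 0 < ppow p k := fun k => pow_pos hp _
  have Q := qFacts (q := Fintype.card F) ⟨c, hc⟩ (by omega)
  have p2 : 9 ≤ Fintype.card F ^ 2 := by rw [_root_.sq]; nlinarith [Q.three]
  have p3 : 9 ≤ Fintype.card F ^ 3 := le_trans p2 (Nat.pow_le_pow_right (by omega) (by omega))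
  have p4 : 9 ≤ Fintype.card F ^ 4 := le_trans p2 (Nat.pow_le_pow_right (by omega) (by omega))
  simp only [lst, List.mem_cons, List.not_mem_nil, or_false] at hN
  have := Q.three
  rcases hN with rfl | rfl | rfl | rfl | rfl | rfl | rfl | rfl | rfl | rfl | rfl | rfl | rfl | rfl <;>
    first
      | exact hpp _
      | exact Nat.mul_pos (hpp _) (by omega)
      | exact Nat.mul_pos hp (by omega)
      | exact Nat.mul_pos hp (Nat.mul_pos (by omega) (by omega))
      | exact Nat.mul_pos (by omega) (by omega)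
      | omega

variable {V : Type u} [AddCommGroup V] [Module F V] [FiniteDimensional F V]

omit [Fintype F] [Fact p.Prime] [CharP F p] in
/-- The characteristic polynomial of a special isometry. -/
lemma charpoly_isometry {Q : QuadraticForm F V} (hQ : PolarNondeg Q) (g : qAut Q)
    (hdet : LinearMap.det (actHom Q g) = 1) :
    (actHom Q g).charpoly ∣ (actHom Q g).charpoly.reverse ∧
      (actHom Q g).charpoly.coeff 0 = (-1) ^ Module.finrank F V := by
  classical
  let b := Module.finBasis F V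
  set M := LinearMap.toMatrix b b (actHom Q g) with hM
  have hMdet : M.det = 1 := by rw [hM, LinearMap.det_toMatrix, hdet]
  rw [← LinearMap.charpoly_toMatrix (actHom Q g) b, ← hM]
  refine ⟨Known.ClassicalOrderBound.charpoly_dvd_reverse (G := LinearMap.BilinForm.toMatrix b (QuadraticMap.polarBilin Q))
    ?_ hMdet ?_, ?_⟩
  · exact (LinearMap.BilinForm.nondegenerate_iff_det_ne_zero b).1
      ⟨hQ, fun y hy => hQ y fun x => by rw [polar_comm]; exact hy x⟩
  · rw [hM, ← LinearMap.BilinForm.toMatrix_comp b b]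
    congr 1
    exact LinearMap.ext fun x => LinearMap.ext fun y => polar_act g x y
  · rw [coeff_zero_eq_eval_zero, Known.ClassicalOrderBound.eval_zero_charpoly hMdet, Fintype.card_fin]

/-- The dichotomy for the degree nine polynomial of an element of trivial spinor norm. -/
theorem exists_dvd (hp2 : p ≠ 2) {Q : QuadraticForm F V} (hQ : PolarNondeg Q) {g : qAut Q}
    (hg : g ∈ commutator (qAut Q)) {P : F[X]} (hm : P.Monic) (hd : P.natDegree = 9) (h0 : P.coeff 0 = -1)
    (hr : P ∣ P.reverse) (hTP : (actHom Q g).charpoly ∣ P) (hPT : P ∣ (X - 1) * (actHom Q g).charpoly) :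
    ∃ N ∈ lst p (Fintype.card F), 0 < N ∧ (P ∣ X ^ N - 1 ∨ Even N ∧ P ∣ (X + 1) * (X ^ N - 1)) := by
  classical
  have h2 : (2 : F) ≠ 0 := fun h => hp2 ((Nat.prime_dvd_prime_iff_eq (Fact.out : p.Prime) Nat.prime_two).1
    ((CharP.cast_eq_zero_iff F p 2).1 (by exact_mod_cast h)))
  have hodd := odd_card_of_two_ne_zero h2
  have hcard : Fintype.card F ≠ 2 := fun h => by rw [h] at hodd; exact absurd hodd (by decide)
  rcases exists_exp hp2 hm hd h0 hr with ⟨N, hN, hP⟩ | hE
  · refine ⟨N, hN, lst_pos hodd hN, ?_⟩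
    have hX1 : Irreducible (X + 1 : F[X]) := by simpa using irreducible_X_sub_C (-1 : F)
    by_cases hdvd : X + 1 ∣ P
    · refine Or.inr ⟨?_, hP⟩
      have h4 := (sq_dvd_of_dvd h2 hm hd h0 hr hdvd).trans hP
      rw [_root_.sq, mul_dvd_mul_iff_left hX1.ne_zero, ← sub_neg_eq_add, ← C_1, ← C_neg, dvd_iff_isRoot] at h4
      simp only [IsRoot.def, eval_sub, eval_pow, eval_X, eval_C, sub_eq_zero] at h4
      exact (neg_one_pow_eq_one_iff_even fun h => h2 (by linear_combination -h)).1 h4
    · exact Or.inl ((hX1.coprime_iff_not_dvd.2 hdvd).symm.dvd_of_dvd_mul_left hP)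
  · exfalso
    obtain ⟨θ, hθ, hiff⟩ := exists_spin Q hQ (Or.inl hcard)
    have h := theta_of_exc Q θ hθ h2 hQ g hm hd hE hTP hPT
    rw [((hiff g).1 hg).2] at h
    exact absurd h (by decide)

/-- Exponents in dimension nine. -/
theorem exists_pow_eq_one (hp2 : p ≠ 2) {Q : QuadraticForm F V} (hQ : PolarNondeg Q) (hdim : Module.finrank F V = 9)
    {g : qAut Q} (hg : g ∈ commutator (qAut Q)) : ∃ N ∈ lst p (Fintype.card F), g ^ N = 1 := by
  obtain ⟨hrev, h0⟩ := charpoly_isometry hQ g (SpecBC.det_eq_one_of_commutator Q hg)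
  rw [hdim] at h0
  have h2 : (2 : F) ≠ 0 := fun h => hp2 ((Nat.prime_dvd_prime_iff_eq (Fact.out : p.Prime) Nat.prime_two).1
    ((CharP.cast_eq_zero_iff F p 2).1 (by exact_mod_cast h)))
  obtain ⟨N, hN, -, h⟩ := exists_dvd hp2 hQ hg (LinearMap.charpoly_monic _) (by rw [LinearMap.charpoly_natDegree, hdim])
    (h0.trans (by norm_num)) hrev dvd_rfl (dvd_mul_left _ _)
  refine ⟨N, hN, actHom_inj Q ?_⟩
  have key : aeval (actHom Q g) (X ^ N - 1 : F[X]) = 0 := by
    rcases h with ⟨r, hr⟩ | ⟨hev, hP⟩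
    · rw [hr, map_mul, LinearMap.aeval_self_charpoly, zero_mul]
    · refine aeval_eq_zero_of_mul hQ h2 g (k := N) (c := -1) ?_ (by rw [hev.neg_one_pow, mul_one]) hP
      simp only [map_sub, map_pow, aeval_X, map_one, sub_mul, one_mul, neg_one_smul, neg_sub]
      rw [← map_pow, ← map_pow, ← map_mul, inv_pow, inv_mul_cancel, map_one]
  simp only [map_sub, map_pow, aeval_X, map_one, sub_eq_zero] at key
  rw [map_pow, map_one, key]

/-- Exponents killing the norm in dimension eight. -/
theorem exists_norm_eq_zero (hp2 : p ≠ 2) {Q : QuadraticForm F V} (hQ : PolarNondeg Q)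
    (hdim : Module.finrank F V = 8) {g : qAut Q} (hg : g ∈ commutator (qAut Q)) :
    ∃ N ∈ lst p (Fintype.card F), g ^ N = 1 ∧ ∑ i ∈ Finset.range N, actHom Q g ^ i = 0 := by
  obtain ⟨hrev, h0⟩ := charpoly_isometry hQ g (SpecBC.det_eq_one_of_commutator Q hg)
  rw [hdim] at h0
  have h2 : (2 : F) ≠ 0 := fun h => hp2 ((Nat.prime_dvd_prime_iff_eq (Fact.out : p.Prime) Nat.prime_two).1
    ((CharP.cast_eq_zero_iff F p 2).1 (by exact_mod_cast h)))
  obtain ⟨χ, hχ⟩ : ∃ χ, χ = (actHom Q g).charpoly := ⟨_, rfl⟩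
  have hX1 : (X - 1 : F[X]).Monic := by simpa using monic_X_sub_C (1 : F)
  have hd1 : (X - 1 : F[X]).natDegree = 1 := by simpa using natDegree_X_sub_C (1 : F)
  obtain ⟨N, hN, hN0, h⟩ := exists_dvd (P := (X - 1) * (actHom Q g).charpoly) hp2 hQ hg
    (hX1.mul (LinearMap.charpoly_monic _))
    (by rw [hX1.natDegree_mul (LinearMap.charpoly_monic _), hd1, LinearMap.charpoly_natDegree, hdim])
    (by rw [mul_coeff_zero, h0]; simp [coeff_one]; norm_num)
    (by
      rw [reverse_mul_of_domain]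
      refine mul_dvd_mul ?_ hrev
      refine ⟨-1, ?_⟩
      rw [reverse, hd1, reflect_sub, reflect_one_X, reflect_one, pow_one]
      ring)
    (dvd_mul_left _ _) dvd_rfl
  have hS : (X ^ N - 1 : F[X]) = (X - 1) * ∑ i ∈ Finset.range N, X ^ i := (mul_geom_sum X N).symm
  have key : aeval (actHom Q g) (∑ i ∈ Finset.range N, X ^ i : F[X]) = 0 := by
    rcases h with hd' | ⟨hev, hP⟩
    · rw [hS, mul_dvd_mul_iff_left hX1.ne_zero] at hd'
      obtain ⟨r, hr⟩ := hd'
      rw [hr, map_mul, LinearMap.aeval_self_charpoly, zero_mul]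
    · rw [hS, mul_left_comm, mul_dvd_mul_iff_left hX1.ne_zero] at hP
      obtain ⟨m, rfl⟩ : ∃ m, N = m + 1 := ⟨N - 1, by omega⟩
      refine aeval_eq_zero_of_mul hQ h2 g (k := m) (c := 1) ?_ ?_ hP
      · simp only [map_sum, map_pow, aeval_X, one_smul]
        rw [Finset.sum_mul, ← Finset.sum_range_reflect]
        refine Finset.sum_congr rfl fun i hi => ?_
        rw [Finset.mem_range] at hi
        rw [← map_pow, ← map_pow, ← map_pow, ← map_mul, Nat.add_sub_cancel, inv_pow, inv_mul_eq_iff_eq_mul.2]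
        rw [← pow_add, Nat.sub_add_cancel (by omega)]
      · obtain ⟨i, hi⟩ := hev
        rw [one_mul, Odd.neg_one_pow ⟨i - 1, by omega⟩]
  simp only [map_sum, map_pow, aeval_X] at key
  refine ⟨N, hN, actHom_inj Q ?_, key⟩
  have h4 := mul_geom_sum (actHom Q g) N
  rw [key, mul_zero] at h4
  rw [map_pow, map_one]
  exact (sub_eq_zero.1 h4.symm)

end CfsgLib.OmegaNine
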