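/-
`PΩ(9, q)` and the extension of the natural module by `Ω⁻(8, q)` have the same element orders, `q` odd.
-/
import Cfsg.Agent.Lib.Spectrum.OmegaNineTwins.Upper
import Cfsg.Agent.Lib.Spectrum.OmegaNineTwins.Realise
import Cfsg.Agent.Lib.Classical.OmegaOdd
import Cfsg.Agent.Lib.KnownSimple.SpectrumPowers
import Cfsg.Agent.Lib.Spectrum.Semidirect

set_option autoImplicit false
set_option linter.style.haveILetI false
set_option maxHeartbeats 1000000

namespace CfsgLib.OmegaNine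

open Module QuadraticMap CfsgLib.Classical CfsgLib.Classical.QuadSign CfsgLib.Classical22.OrthType
  CfsgLib.SpFourTwins.Eight CfsgLib.Classical.SpOCount

universe u

variable {F : Type u} [Field F]

/-- A homomorphism maps the derived group into the derived group. -/
lemma hom_mem_commutator {G H : Type*} [Group G] [Group H] (f : G →* H) {x : G} (hx : x ∈ commutator G) :
    f x ∈ commutator H := by
  have h : f x ∈ (commutator G).map f := Subgroup.mem_map_of_mem f hx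
  rw [commutator_def, Subgroup.map_commutator] at h
  rw [commutator_def]
  exact Subgroup.commutator_mono le_top le_top h

/-- The sum of powers of a translated element. -/
lemma left_pow_toAdd {W : Type*} [AddCommGroup W] [Module F W] {G : Type*} [Group G]
    {φ : G →* MulAut (Multiplicative W)} (ρ : G →* Module.End F W)
    (hφ : ∀ (h : G) (w : Multiplicative W), φ h w = Multiplicative.ofAdd (ρ h w.toAdd))
    (x : Multiplicative W ⋊[φ] G) (j : ℕ) :
    (x ^ j).left.toAdd = (∑ i ∈ Finset.range j, (ρ x.right) ^ i) x.left.toAdd := by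
  induction j with
  | zero => simp
  | succ j ih =>
    have hr : (x ^ j).right = x.right ^ j := map_pow SemidirectProduct.rightHom x j
    rw [pow_succ, SemidirectProduct.mul_left, hr, toAdd_mul, hφ, toAdd_ofAdd, map_pow, ih,
      Finset.sum_range_succ, LinearMap.add_apply]

variable [Fintype F] {p : ℕ} [Fact p.Prime] [CharP F p]

omit [Fact p.Prime] [CharP F p] in
/-- A nine-dimensional element moved to the standard form. -/
lemma exists_odd_transfer (h2 : (2 : F) ≠ 0) (B : El F) (hd : finrank F B.S.carrier = 9)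
    (hm : B.g ∈ commutator (qAut B.S.form)) :
    ∃ g ∈ commutator (qAut (qOdd 4 F)), orderOf g = orderOf B.g := by
  classical
  obtain ⟨f⟩ : Nonempty (B.S.carrier ≃ₗ[F] (OddI 4 → F)) :=
    ⟨LinearEquiv.ofFinrankEq _ _ (by simp [hd])⟩
  let Q : QuadraticForm F (OddI 4 → F) := B.S.form.comp f.symm.toLinearMap
  have hf : ∀ v, Q (f v) = B.S.form v := fun v => by simp [Q]
  have hQ : PolarNondeg Q := polarNondeg_congr f hf B.S.nondeg
  have d1 := SylowTwo.det_polarGram_ne Q hQ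
  have d0 := SylowTwo.det_polarGram_ne (qOdd 4 F) (polarNondeg_qOdd h2 4)
  set c := (polarGram Q).det * (polarGram (qOdd 4 F)).det with hc
  have hc0 : c ≠ 0 := mul_ne_zero d1 d0
  have hcQ : PolarNondeg (c • Q) := polarNondeg_smul hQ hc0
  have hG : polarGram (c • Q) = c • polarGram Q := Matrix.ext fun i j => by
    simp [polarGram, QuadraticMap.polar, mul_sub]
  obtain ⟨e', he'⟩ := (isometry_iff_isSquare h2 (c • Q) (qOdd 4 F) hcQ (polarNondeg_qOdd h2 4)).2 (by
    refine ⟨c ^ 5, ?_⟩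
    rw [hG, Matrix.det_smul, mul_assoc, ← hc, ← pow_succ, ← pow_add]
    congr 1)
  let ι : qAut Q →* qAut (c • Q) :=
    { toFun := fun g => ⟨g.1, fun v => by rw [QuadraticMap.smul_apply, QuadraticMap.smul_apply, qAut_map]⟩
      map_one' := rfl
      map_mul' := fun _ _ => rfl }
  have hι : Function.Injective ι := fun a b h => Subtype.ext (congrArg Subtype.val h :)
  refine ⟨((qAutCongr e' he').toMonoidHom.comp (ι.comp (qAutCongr f hf).toMonoidHom)) B.g,
    hom_mem_commutator _ hm, ?_⟩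
  show orderOf (qAutCongr e' he' (ι (qAutCongr f hf B.g))) = _
  rw [MulEquiv.orderOf_eq, orderOf_injective ι hι, MulEquiv.orderOf_eq]

omit [Fintype F] [Fact p.Prime] [CharP F p] in
/-- An eight-dimensional element of minus type moved to a standard form. -/
lemma exists_minus_transfer [Fintype F] (B : El F) (hB : B.Is 4 (-1)) (hm : B.g ∈ commutator (qAut B.S.form))
    {a b : F} (hab : BinAniso a b) :
    ∃ g ∈ commutator (qAut (qExt 3 (qBin a b))), orderOf g = orderOf B.g ∧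
      ((∃ v, (∑ i ∈ Finset.range (orderOf B.g), B.e ^ i) v ≠ 0) →
        ∃ v, (∑ i ∈ Finset.range (orderOf g), actHom (qExt 3 (qBin a b)) g ^ i) v ≠ 0) := by
  obtain ⟨k, hk, hs⟩ := hB.2
  obtain rfl : k = 4 := by have := hB.1; omega
  have hn : finrank F ((Fin 3 ⊕ Fin 3) ⊕ Fin 2 → F) = 2 * 4 := by simp
  obtain ⟨e, he⟩ := exists_isometry_of_hasSign 4 B.S.form (qExt 3 (qBin a b)) (-1) B.S.nondeg
    (polarNondeg_qExt (polarNondeg_qBin hab) 3) hk hn hs (hasSign_qExt_qBin hab 3)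
  refine ⟨qAutCongr e he B.g, hom_mem_commutator (qAutCongr e he).toMonoidHom hm, MulEquiv.orderOf_eq _ _, ?_⟩
  rintro ⟨v, hv⟩
  refine ⟨e v, fun h => hv ?_⟩
  have hp : ∀ i, (actHom (qExt 3 (qBin a b)) (qAutCongr e he B.g) ^ i) (e v) = e ((B.e ^ i) v) := by
    intro i
    induction i with
    | zero => rfl
    | succ i ih =>
      rw [pow_succ', Module.End.mul_apply, ih, pow_succ', Module.End.mul_apply]
      show e (B.g.1 (e.symm (e _))) = _
      rw [e.symm_apply_apply]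
      rfl
  rw [MulEquiv.orderOf_eq, LinearMap.sum_apply] at h
  simp only [hp, ← map_sum, LinearEquiv.map_eq_zero_iff] at h
  rw [LinearMap.sum_apply]
  exact h

theorem pomega_upper (hp2 : p ≠ 2) (y : Cfsg.POmega F (Cfsg.quadFormOdd 4 F)) :
    ∃ N ∈ lst p (Fintype.card F), orderOf y ∣ N := by
  have h2 : (2 : F) ≠ 0 := fun h => hp2 ((Nat.prime_dvd_prime_iff_eq (Fact.out : p.Prime) Nat.prime_two).1
    ((CharP.cast_eq_zero_iff F p 2).1 (by exact_mod_cast h)))
  revert y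
  rw [← coe_qOdd]
  intro y
  obtain ⟨g, rfl⟩ := QuotientGroup.mk'_surjective _ y
  obtain ⟨N, hN, hg⟩ := exists_pow_eq_one hp2 (polarNondeg_qOdd h2 4)
    (by simp) ((mem_Omega_iff (qOdd 4 F)).1 g.2)
  refine ⟨N, hN, (orderOf_map_dvd _ _).trans ?_⟩
  rw [← Subgroup.orderOf_coe, ← MulEquiv.orderOf_eq (isoEquiv (qOdd 4 F))]
  exact orderOf_dvd_of_pow_eq_one hg

theorem pomega_lower (hp2 : p ≠ 2) {N : ℕ} (hN : N ∈ lst p (Fintype.card F)) :
    ∃ y : Cfsg.POmega F (Cfsg.quadFormOdd 4 F), N ∣ orderOf y := by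
  have h2 : (2 : F) ≠ 0 := fun h => hp2 ((Nat.prime_dvd_prime_iff_eq (Fact.out : p.Prime) Nat.prime_two).1
    ((CharP.cast_eq_zero_iff F p 2).1 (by exact_mod_cast h)))
  obtain ⟨B, hd, hg, hNB⟩ := exists_nine (F := F) hp2 hN
  obtain ⟨g, hgm, hgo⟩ := exists_odd_transfer h2 B hd (El.Good.mem h2 hg)
  have hΩ : (isoEquiv (qOdd 4 F)).symm g ∈ Cfsg.Omega F ⇑(qOdd 4 F) := by
    rw [mem_Omega_iff, MulEquiv.apply_symm_apply]; exact hgm
  rw [← coe_qOdd]
  refine ⟨QuotientGroup.mk' _ (⟨_, hΩ⟩ : Cfsg.Omega F ⇑(qOdd 4 F)), ?_⟩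
  rw [orderOf_injective _ (by rw [← MonoidHom.ker_eq_bot_iff, QuotientGroup.ker_mk']; exact center_Omega_qOdd (by norm_num) h2),
    Subgroup.orderOf_mk, MulEquiv.orderOf_eq, hgo]
  exact hNB

variable {a b : F}

theorem semidirect_upper (hp2 : p ≠ 2) (hab : BinAniso a b)
    {φ : Cfsg.Omega F ⇑(qExt 3 (qBin a b)) →* MulAut (Multiplicative (((Fin 3 ⊕ Fin 3) ⊕ Fin 2) → F))}
    (hφ : ∀ (h : Cfsg.Omega F ⇑(qExt 3 (qBin a b))) (w : Multiplicative (((Fin 3 ⊕ Fin 3) ⊕ Fin 2) → F)),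
      φ h w = Multiplicative.ofAdd (actHom (qExt 3 (qBin a b)) (isoEquiv (qExt 3 (qBin a b)) h.1) w.toAdd))
    (y : Multiplicative (((Fin 3 ⊕ Fin 3) ⊕ Fin 2) → F) ⋊[φ] Cfsg.Omega F ⇑(qExt 3 (qBin a b))) :
    ∃ N ∈ lst p (Fintype.card F), orderOf y ∣ N := by
  classical
  obtain ⟨N, hN, hg, hsum⟩ := exists_norm_eq_zero hp2 (polarNondeg_qExt (polarNondeg_qBin hab) 3) (by simp)
    ((mem_Omega_iff (qExt 3 (qBin a b))).1 y.right.2)
  refine ⟨N, hN, orderOf_dvd_of_pow_eq_one (SemidirectProduct.ext ?_ ?_)⟩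
  · apply Multiplicative.toAdd.injective
    rw [left_pow_toAdd ((actHom (qExt 3 (qBin a b))).comp ((isoEquiv (qExt 3 (qBin a b))).toMonoidHom.comp (Cfsg.Omega F ⇑(qExt 3 (qBin a b))).subtype)) hφ]
    exact (LinearMap.congr_fun hsum _).trans rfl
  · have hr : (y ^ N).right = y.right ^ N := map_pow SemidirectProduct.rightHom y N
    rw [hr]
    apply Subtype.ext
    apply (isoEquiv (qExt 3 (qBin a b))).injective
    rw [SubmonoidClass.coe_pow, map_pow, hg]
    exact (map_one _).symm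

theorem semidirect_lower (hp2 : p ≠ 2) (hab : BinAniso a b)
    {φ : Cfsg.Omega F ⇑(qExt 3 (qBin a b)) →* MulAut (Multiplicative (((Fin 3 ⊕ Fin 3) ⊕ Fin 2) → F))}
    (hφ : ∀ (h : Cfsg.Omega F ⇑(qExt 3 (qBin a b))) (w : Multiplicative (((Fin 3 ⊕ Fin 3) ⊕ Fin 2) → F)),
      φ h w = Multiplicative.ofAdd (actHom (qExt 3 (qBin a b)) (isoEquiv (qExt 3 (qBin a b)) h.1) w.toAdd))
    {N : ℕ} (hN : N ∈ lst p (Fintype.card F)) :
    ∃ y : Multiplicative (((Fin 3 ⊕ Fin 3) ⊕ Fin 2) → F) ⋊[φ] Cfsg.Omega F ⇑(qExt 3 (qBin a b)),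
      N ∣ orderOf y := by
  classical
  have hpp : p.Prime := Fact.out
  have h2 : (2 : F) ≠ 0 := fun h => hp2 ((Nat.prime_dvd_prime_iff_eq hpp Nat.prime_two).1
    ((CharP.cast_eq_zero_iff F p 2).1 (by exact_mod_cast h)))
  obtain ⟨B, hB, hgood, hcase⟩ := exists_eight (F := F) hp2 hN
  obtain ⟨g, hgm, hgo, hnorm⟩ := exists_minus_transfer B hB (El.Good.mem h2 hgood) hab
  have hΩ : (isoEquiv (qExt 3 (qBin a b))).symm g ∈ Cfsg.Omega F ⇑(qExt 3 (qBin a b)) := by
    rw [mem_Omega_iff, MulEquiv.apply_symm_apply]; exact hgm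
  let h : Cfsg.Omega F ⇑(qExt 3 (qBin a b)) := ⟨_, hΩ⟩
  have hho : orderOf h = orderOf g := by rw [Subgroup.orderOf_mk, MulEquiv.orderOf_eq]
  rcases hcase with hd | ⟨hv, hd⟩
  · refine ⟨SemidirectProduct.inr h, ?_⟩
    rw [orderOf_injective _ SemidirectProduct.inr_injective, hho, hgo]
    exact hd
  · obtain ⟨v, hv⟩ := hnorm hv
    let x : Multiplicative (((Fin 3 ⊕ Fin 3) ⊕ Fin 2) → F) ⋊[φ] Cfsg.Omega F ⇑(qExt 3 (qBin a b)) := ⟨Multiplicative.ofAdd v, h⟩
    refine ⟨x, hd.trans (dvd_of_eq ?_)⟩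
    rw [Spectrum.orderOf_eq_right_mul x]
    show p * orderOf B.g = orderOf h * orderOf (x ^ orderOf h).left
    rw [hho, hgo, mul_comm p]
    congr 1
    symm
    refine orderOf_eq_prime ?_ ?_
    · apply Multiplicative.toAdd.injective
      rw [toAdd_pow, ← Nat.cast_smul_eq_nsmul F, CharP.cast_eq_zero, zero_smul]
      rfl
    · intro h1
      apply hv
      have h3 := left_pow_toAdd ((actHom (qExt 3 (qBin a b))).comp ((isoEquiv (qExt 3 (qBin a b))).toMonoidHom.comp (Cfsg.Omega F ⇑(qExt 3 (qBin a b))).subtype)) hφ x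
        (orderOf g)
      rw [← hgo] at h1
      rw [h1] at h3
      have : isoEquiv (qExt 3 (qBin a b)) h.1 = g := (isoEquiv (qExt 3 (qBin a b))).apply_symm_apply g
      simpa [x, this] using h3.symm

theorem range_eq (hp2 : p ≠ 2) (hab : BinAniso a b)
    {φ : Cfsg.Omega F ⇑(qExt 3 (qBin a b)) →* MulAut (Multiplicative (((Fin 3 ⊕ Fin 3) ⊕ Fin 2) → F))}
    (hφ : ∀ (h : Cfsg.Omega F ⇑(qExt 3 (qBin a b))) (w : Multiplicative (((Fin 3 ⊕ Fin 3) ⊕ Fin 2) → F)),
      φ h w = Multiplicative.ofAdd (actHom (qExt 3 (qBin a b)) (isoEquiv (qExt 3 (qBin a b)) h.1) w.toAdd)) :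
    Set.range (orderOf : Cfsg.POmega F (Cfsg.quadFormOdd 4 F) → ℕ) =
      Set.range (orderOf :
        Multiplicative (((Fin 3 ⊕ Fin 3) ⊕ Fin 2) → F) ⋊[φ] Cfsg.Omega F ⇑(qExt 3 (qBin a b)) → ℕ) := by
  classical
  refine KnownSimple.range_orderOf_eq_of_forall_dvd (fun y => ?_) (fun y => ?_)
  · obtain ⟨N, hN, hd⟩ := pomega_upper (p := p) hp2 y
    obtain ⟨z, hz⟩ := semidirect_lower hp2 hab hφ hN
    exact ⟨z, hd.trans hz⟩
  · obtain ⟨N, hN, hd⟩ := semidirect_upper hp2 hab hφ y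
    obtain ⟨z, hz⟩ := pomega_lower (F := F) hp2 hN
    exact ⟨z, hd.trans hz⟩

end CfsgLib.OmegaNine
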